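import Cfsg.Agent.H71.BGNP.Facts
import Cfsg.Agent.H78.CDLattice

/-!
The Baumann–Glauberman–Niles argument for any prime: some edge `P` of some vertex `M` contains a
subgroup covering `P` modulo `Q_M` which is quadratic on `Q_M` modulo `V_M`.

Let `b` be the least length of a walk from some `K` to some `M` with `V_K ≰ Q_M`, and suppose
`b ≥ 2`. The first two vertices `K`, `K₁` of such a walk are good: `V_{K₁}V_K` is normalized by
`K`. On the other hand any such walk can be pushed to the left through a pair that is not good.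
Doing so `b` times and reversing gives a contradiction.
-/

set_option autoImplicit false
set_option linter.unusedSectionVars false

open Subgroup

namespace H71.BGNP

variable {H : Type*} [Group H]

/-- `V_M V_K` is normalized by `K`. -/
def Good (p : ℕ) (G S K M : Subgroup H) : Prop :=
  K ≤ normalizer ((Vf p G S M ⊔ Vf p G S K : Subgroup H) : Set H)

/-- Below length `b` every `V` lies in every `Q`. -/
def Near (p : ℕ) (G S : Subgroup H) (b : ℕ) : Prop :=
  ∀ n < b, ∀ K M : Subgroup H, Reach G S n K M → Vf p G S K ≤ Qf G S M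

/-- A walk of length `b` whose ends do not satisfy `V ≤ Q`. -/
structure Crit (p : ℕ) (G S : Subgroup H) (b : ℕ) (f : ℕ → Subgroup H) : Prop where
  adj : ∀ i < b, Adj G S (f i) (f (i + 1))
  bad : ¬ Vf p G S (f 0) ≤ Qf G S (f b)

variable {p q : ℕ} {G S : Subgroup H} {b : ℕ} {f : ℕ → Subgroup H}
variable {K M P P' : Subgroup H}

theorem good_cj {h : H} (hG : Good p G S K M) : Good p G S (cj h K) (cj h M) := by
  unfold Good at *
  rw [← cj_Vf, ← cj_Vf, ← cj_sup]
  exact le_normalizer_cj hG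

theorem Vf_eq_bot (h : ¬ ∃ P, Edge G S K P) : Vf p G S K = ⊥ :=
  le_bot_iff.1 (iSup₂_le fun P hP => absurd ⟨P, hP⟩ h)

/-- A walk, shifted by a new first vertex. -/
theorem reach_of_adj {i j : ℕ} (hij : i ≤ j) (hjb : j ≤ b) (hC : Crit p G S b f) :
    Reach G S (j - i) (f i) (f j) :=
  reach_sub hij hjb hC.adj

variable (hB : Base p q G S)
include hB

theorem near_comm (hN : Near p G S b) {n : ℕ} (hn : n < b) (hR : Reach G S n K M) {v w : H}
    (hv : v ∈ Vf p G S K) (hw : w ∈ Vf p G S M) : v * w = w * v := by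
  by_cases he : ∃ P, Edge G S M P
  · obtain ⟨P, hP⟩ := he
    exact V_cent hB hP hw v (hN n hn K M hR hv)
  · rw [Vf_eq_bot he, mem_bot] at hw
    rw [hw, mul_one, one_mul]

variable [Finite H]

theorem false_of_mul_le {c : ℕ} (hc : 0 < c) (h : q * c ≤ c) : False := by
  have h1 := Nat.le_of_mul_le_mul_right (h.trans_eq (one_mul c).symm) hc
  have h2 := hB.one_lt
  omega

theorem exists_notMem_Zc (hE : Edge G S K P) : ∃ v ∈ Vf p G S K, v ∉ Zc p P := by
  by_contra hcon
  push Not at hcon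
  have h1 := card_le_of_le (show Vf p G S K ≤ Zc p P from hcon)
  rw [card_V hB hE] at h1
  exact false_of_mul_le hB Nat.card_pos h1

theorem le_Q_of_comm (hE : Edge G S M P) (hle : Vf p G S K ≤ P)
    (hc : ∀ v ∈ Vf p G S K, ∀ w ∈ Vf p G S M, v * w = w * v) : Vf p G S K ≤ Qf G S M := by
  intro v hv
  by_contra hvQ
  obtain ⟨w, hw, hwZ⟩ := exists_notMem_Zc hB hE
  exact hwZ (fixed hB hE (hle hv) hvQ hw (hc v hv w hw).symm)

theorem Crit.pos (hC : Crit p G S b f) : 0 < b := by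
  rcases Nat.eq_zero_or_pos b with rfl | h
  · exfalso
    by_cases he : ∃ P, Edge G S (f 0) P
    · obtain ⟨P, hP⟩ := he
      exact hC.bad (V_le hB hP)
    · exact hC.bad (Vf_eq_bot he ▸ bot_le)
  · exact h

theorem Crit.last_le (hC : Crit p G S b f) (hN : Near p G S b)
    (hP : Edge G S (f (b - 1)) P) : Vf p G S (f 0) ≤ P :=
  (hN (b - 1 - 0) (by have := hC.pos hB; omega) _ _ (reach_of_adj (Nat.zero_le _)
    (Nat.sub_le _ _) hC)).trans (Qf_le hP)

theorem Crit.rev (hC : Crit p G S b f) (hN : Near p G S b) : Crit p G S b (fun i => f (b - i)) := by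
  refine ⟨fun i hi => ?_, fun hle => hC.bad ?_⟩
  · show Adj G S (f (b - i)) (f (b - (i + 1)))
    have h1 := (hC.adj (b - (i + 1)) (by omega)).symm
    rwa [show b - (i + 1) + 1 = b - i by omega] at h1
  · simp only [Nat.sub_zero, Nat.sub_self] at hle
    have hb := hC.pos hB
    obtain ⟨P, hP1, hP2⟩ := hC.adj (b - 1) (by omega)
    rw [Nat.sub_add_cancel hb] at hP2
    obtain ⟨P0, hP0, -⟩ := hC.adj 0 hb
    refine le_Q_of_comm hB hP2 (hC.last_le hB hN hP1) fun v hv w hw => ?_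
    exact (V_cent hB hP0 hv w (hle hw)).symm

/-- The end of a bad walk lies in every edge of the second vertex. -/
theorem Crit.first_le (hC : Crit p G S b f) (hN : Near p G S b) (hP : Edge G S (f 1) P) :
    Vf p G S (f b) ≤ P := by
  have hb := hC.pos hB
  have h1 := (hC.rev hB hN).last_le hB hN (P := P)
    (by rwa [show b - (b - 1) = 1 by omega])
  simpa using h1

theorem Crit.exists_notMem (hC : Crit p G S b f) (hN : Near p G S b) :
    ∃ w ∈ Vf p G S (f b), w ∉ Qf G S (f 0) := by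
  have := (hC.rev hB hN).bad
  simp only [Nat.sub_zero, Nat.sub_self] at this
  exact SetLike.not_le_iff_exists.1 this

theorem Crit.exists_last (hC : Crit p G S b f) :
    ∃ P, Edge G S (f (b - 1)) P ∧ Edge G S (f b) P := by
  have hb := hC.pos hB
  obtain ⟨P, h1, h2⟩ := hC.adj (b - 1) (by omega)
  exact ⟨P, h1, by rwa [Nat.sub_add_cancel hb] at h2⟩

/-- A commutator of the two ends lies in the centre of both end edges. -/
theorem Crit.comm_mem_first (hC : Crit p G S b f) (hN : Near p G S b) (hP0 : Edge G S (f 0) P)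
    (hP1 : Edge G S (f 1) P) {v w : H} (hv : v ∈ Vf p G S (f 0)) (hw : w ∈ Vf p G S (f b)) :
    v * w * v⁻¹ * w⁻¹ ∈ Zc p P :=
  comm_mem hB hP0 hv (hC.first_le hB hN hP1 hw)

theorem Crit.comm_mem_last (hC : Crit p G S b f) (hN : Near p G S b)
    (hP1 : Edge G S (f (b - 1)) P) (hP0 : Edge G S (f b) P) {v w : H} (hv : v ∈ Vf p G S (f 0))
    (hw : w ∈ Vf p G S (f b)) : v * w * v⁻¹ * w⁻¹ ∈ Zc p P := by
  have h1 := inv_mem (comm_mem hB hP0 hw (hC.last_le hB hN hP1 hv))
  simpa [mul_assoc] using h1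

/-- The first edge is generated by the last `V` and the first `Q`. -/
theorem Crit.edge_le_sup (hC : Crit p G S b f) (hN : Near p G S b) (hP0 : Edge G S (f 0) P)
    (hP1 : Edge G S (f 1) P) : P ≤ Vf p G S (f b) ⊔ Qf G S (f 0) := by
  obtain ⟨P', hP1', hP0'⟩ := hC.exists_last hB
  obtain ⟨a, ha, haQ⟩ := SetLike.not_le_iff_exists.1 hC.bad
  have hint : Vf p G S (f b) ⊓ Qf G S (f 0) ≤ Zc p P' := fun w hw =>
    fixed hB hP0' (hC.last_le hB hN hP1' ha) haQ hw.1 (V_cent hB hP0 ha w hw.2)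
  have hle : Vf p G S (f b) ⊔ Qf G S (f 0) ≤ P := sup_le (hC.first_le hB hN hP1) (Qf_le hP0)
  refine (eq_of_le_of_card_ge hle ?_).ge
  have h1 := H78.card_mul_le_sup_inf (Vf p G S (f b)) (Qf G S (f 0))
  rw [card_V hB hP0'] at h1
  have h2 := Nat.mul_le_mul_left (Nat.card ↥(Vf p G S (f b) ⊔ Qf G S (f 0))) (card_le_of_le hint)
  have h3 := h1.trans h2
  rw [card_P hB hP0, mul_comm q (Nat.card (Zc p P'))] at *
  refine Nat.le_of_mul_le_mul_right ?_ (Nat.card_pos : 0 < Nat.card (Zc p P'))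
  calc q * Nat.card (Qf G S (f 0)) * Nat.card (Zc p P')
      = Nat.card (Zc p P') * q * Nat.card (Qf G S (f 0)) := by ring
    _ ≤ _ := h3

/-- The walk preceded by `x` is bad. -/
theorem crit_cons {x : Subgroup H} (hA : Adj G S x (f 0)) (hC : Crit p G S b f)
    (hx : ¬ Vf p G S x ≤ Qf G S (f (b - 1))) :
    Crit p G S b (fun i => if i = 0 then x else f (i - 1)) := by
  have hb := hC.pos hB
  refine ⟨fun i hi => ?_, ?_⟩
  · rcases i with _ | i
    · simpa using hA
    · simpa using hC.adj i (by omega)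
  · simpa [hb.ne'] using hx

omit hB [Finite H] in
theorem conj_comm_mul {w a c : H} (hc : w * c = c * w) :
    w * (a * c) * w⁻¹ = w * a * w⁻¹ * c := by
  calc w * (a * c) * w⁻¹ = w * a * w⁻¹ * (w * c * w⁻¹) := by group
    _ = w * a * w⁻¹ * c := by rw [hc, mul_inv_cancel_right]

/-- An `x` on an edge `e` at the first vertex with `V_x` in the penultimate `Q` is good. -/
theorem Crit.good_of_le (hC : Crit p G S b f) (hN : Near p G S b) (hP0 : Edge G S (f 0) P)
    (hP1 : Edge G S (f 1) P) {e x : Subgroup H} (he : Edge G S (f 0) e) (hne : Op G S (f 0) P e)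
    (hxe : Edge G S x e) (hx : Vf p G S x ≤ Qf G S (f (b - 1))) : Good p G S (f 0) x := by
  obtain ⟨P', hP1', hP0'⟩ := hC.exists_last hB
  obtain ⟨w, hw, hwQ⟩ := hC.exists_notMem hB hN
  have hP'le : P' ≤ Vf p G S (f 0) ⊔ Qf G S (f b) := by
    have h1 := (hC.rev hB hN).edge_le_sup hB hN (P := P') (by simpa using hP0') (by simpa using hP1')
    simpa using h1
  have hwK : w ∈ f 0 := edge_le hB hP0 (hC.first_le hB hN hP1 hw)
  have hVw : ∀ v ∈ Vf p G S (f 0), w * v * w⁻¹ ∈ Vf p G S (f 0) := fun v hv =>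
    ((mem_normalizer_iff.1 (le_normalizer_Vf _ hwK)) v).1 hv
  have hxw : ∀ v ∈ Vf p G S x, w * v * w⁻¹ ∈ Vf p G S x ⊔ Vf p G S (f 0) := by
    intro v hv
    have hv' := hP'le (Qf_le hP1' (hx hv))
    rw [← SetLike.mem_coe, coe_mul_of_left_le_normalizer_right _ _
      (((hC.last_le hB hN hP1').trans (edge_le hB hP0')).trans (le_normalizer_Qf _))]
      at hv'
    obtain ⟨a, ha, c, hc, rfl⟩ := hv'
    have hcw : w * c = c * w := (V_cent hB hP0' hw c hc).symm
    rw [conj_comm_mul hcw, show w * a * w⁻¹ * c = w * a * w⁻¹ * a⁻¹ * (a * c) by group]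
    exact mul_mem (mem_sup_right (mul_mem (hVw a ha) (inv_mem ha))) (mem_sup_left hv)
  have hw' : w ∈ normalizer ((Vf p G S x ⊔ Vf p G S (f 0) : Subgroup H) : Set H) := by
    apply mem_normalizer_of_cj_eq
    refine eq_of_le_of_card_ge ?_ (card_cj _ _).ge
    rw [cj_sup]
    refine sup_le ?_ ?_
    · rintro _ ⟨v, hv, rfl⟩
      exact hxw v hv
    · rintro _ ⟨v, hv, rfl⟩
      exact mem_sup_right (hVw v hv)
  have he' : e ≤ normalizer ((Vf p G S x ⊔ Vf p G S (f 0) : Subgroup H) : Set H) := fun u hu =>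
    mem_normalizer_of_cj_eq (by
      rw [cj_sup, cj_Vf, cj_Vf, cj_eq_self (edge_le hB hxe hu), cj_eq_self (edge_le hB he hu)])
  exact (hne.1 w (hC.first_le hB hN hP1 hw) hwQ).ge.trans
    (sup_le (zpowers_le.2 hw') he')

/-- Not all pairs on an edge are good. -/
theorem exists_not_good (hb : 2 ≤ b) (hN : Near p G S b) {e : Subgroup H} (he : Edge G S K e) :
    ∃ x, Edge G S x e ∧ ¬ Good p G S K x := by
  by_contra hcon
  push Not at hcon
  set W := ⨆ (x : Subgroup H) (_ : Edge G S x e), Vf p G S x with hW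
  have hWe : W ≤ e := iSup₂_le fun x hx => (hN 1 (by omega) x K (reach_one ⟨e, hx, he⟩)).trans (Qf_le he)
  have hWK : K ≤ normalizer (W : Set H) := by
    refine le_normalizer_of_conj fun k hk => ?_
    rw [cj, map_le_iff_le_comap]
    refine iSup₂_le fun x hx => ?_
    rw [← map_le_iff_le_comap]
    refine le_trans (cj_mono (h := k) (le_sup_left : Vf p G S x ≤ Vf p G S x ⊔ Vf p G S K)) ?_
    rw [cj_eq_self_of_mem_normalizer (hcon x hx hk)]
    exact sup_le (le_iSup₂_of_le x hx le_rfl) (le_iSup₂_of_le K he le_rfl)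
  have hWN : normalizer (e : Set H) ≤ normalizer (W : Set H) := by
    refine le_normalizer_of_conj fun n hn => ?_
    rw [cj, map_le_iff_le_comap]
    refine iSup₂_le fun x hx => ?_
    rw [← map_le_iff_le_comap]
    exact (cj_Vf n x).le.trans (le_iSup₂_of_le _ (edge_normalizer hn hx) le_rfl)
  have h0 := kernel hB he hWe hWK hWN
  obtain ⟨v, hv, hvZ⟩ := exists_notMem_Zc hB he
  refine hvZ ?_
  have : v ∈ W := (le_iSup₂_of_le (f := fun (x : Subgroup H) (_ : Edge G S x e) => Vf p G S x) K he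
    le_rfl) hv
  rw [h0, mem_bot] at this
  rw [this]
  exact one_mem _

/-- A bad walk can be pushed to the left through a pair that is not good. -/
theorem Crit.shift (hC : Crit p G S b f) (hb : 2 ≤ b) (hN : Near p G S b) (hP0 : Edge G S (f 0) P)
    (hP1 : Edge G S (f 1) P) {e : Subgroup H} (he : Edge G S (f 0) e)
    (hne : Op G S (f 0) P e) :
    ∃ x, Edge G S x e ∧ ¬ Good p G S (f 0) x ∧ ¬ Vf p G S x ≤ Qf G S (f (b - 1)) := by
  obtain ⟨x, hx, hxG⟩ := exists_not_good hB hb hN he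
  exact ⟨x, hx, hxG, fun hle => hxG (hC.good_of_le hB hN hP0 hP1 he hne hx hle)⟩

/-- Two neighbours of a vertex on opposite edges commute modulo its centralizer. -/
theorem mid_comm (hN : Near p G S 2) {M' : Subgroup H} (hPM : Edge G S M P) (hPK : Edge G S K P)
    (hP'K : Edge G S K P') (hP'M : Edge G S M' P') (hop : Op G S K P P')
    {v w : H} (hv : v ∈ Vf p G S M) (hw : w ∈ Vf p G S M') :
    v * w * v⁻¹ * w⁻¹ ∈ centralizer (K : Set H) ∧ v * w * v⁻¹ * w⁻¹ ∈ Vf p G S K := by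
  by_cases hle : Vf p G S M ≤ Qf G S M'
  · have hc : w * v = v * w := (V_cent hB hP'M hw v (hle hv)).symm
    rw [← hc, mul_inv_cancel_right, mul_inv_cancel]
    exact ⟨one_mem _, one_mem _⟩
  have hC : Crit p G S 2 (fun i => if i = 0 then M else if i = 1 then K else M') :=
    ⟨fun i hi => by
      rcases (by omega : i = 0 ∨ i = 1) with rfl | rfl
      · simpa using ⟨P, hPM, hPK⟩
      · simpa using ⟨P', hP'K, hP'M⟩, by simpa using hle⟩
  have h1 := hC.comm_mem_first hB hN (P := P) (v := v) (w := w) (by simpa using hPM)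
    (by simpa using hPK) (by simpa using hv) (by simpa using hw)
  have h2 := hC.comm_mem_last hB hN (P := P') (v := v) (w := w) (by simpa using hP'K)
    (by simpa using hP'M) (by simpa using hv) (by simpa using hw)
  obtain ⟨x, hx, hxQ⟩ : ∃ x ∈ P, x ∉ Qf G S K := by
    obtain ⟨u, hu, huQ⟩ := SetLike.not_le_iff_exists.1 (fun h : P ≤ Qf G S K => by
      have h3 := card_le_of_le h
      rw [card_P hB hPK] at h3
      exact false_of_mul_le hB Nat.card_pos h3)
    exact ⟨u, hu, huQ⟩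
  refine ⟨?_, Zc_le_Vf hPK h1⟩
  rw [← hop.1 x hx hxQ]
  intro y hy
  have : zpowers x ⊔ P' ≤ centralizer ({v * w * v⁻¹ * w⁻¹} : Set H) := by
    refine sup_le (zpowers_le.2 (mem_centralizer_singleton_iff.2 ?_))
      (fun u hu => mem_centralizer_singleton_iff.2 (h2.2.1 u hu))
    exact h1.2.1 x hx
  exact mem_centralizer_singleton_iff.1 (this hy)

/-- `E i` is an edge of `f i` and `f (i + 1)`. -/
def Edges (G S : Subgroup H) (b : ℕ) (f E : ℕ → Subgroup H) : Prop :=
  ∀ i < b, Edge G S (f i) (E i) ∧ Edge G S (f (i + 1)) (E i)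

/-- The first `k` interior vertices of the walk have opposite edges. -/
def Str (G S : Subgroup H) (b k : ℕ) (f E : ℕ → Subgroup H) : Prop :=
  ∀ i, i + 1 < b → i < k → Op G S (f (i + 1)) (E i) (E (i + 1))

omit hB [Finite H] in
theorem Edges.rev {E : ℕ → Subgroup H} (hE : Edges G S b f E) :
    Edges G S b (fun i => f (b - i)) (fun i => E (b - (i + 1))) := by
  intro i hi
  have h1 := hE (b - (i + 1)) (by omega)
  rw [show b - (i + 1) + 1 = b - i by omega] at h1
  exact ⟨h1.2, h1.1⟩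

omit hB [Finite H] in
theorem Str.rev {E : ℕ → Subgroup H} (hS : Str G S b b f E) :
    Str G S b b (fun i => f (b - i)) (fun i => E (b - (i + 1))) := by
  intro i hi _
  have h1 := (hS (b - (i + 1 + 1)) (by omega) (by omega)).symm
  rw [show b - (i + 1 + 1) + 1 = b - (i + 1) by omega] at h1
  exact h1

omit hB [Finite H] in
theorem sq_eq_comm {x y : H} (hx : x ^ 2 = 1) (hy : y ^ 2 = 1) :
    (x * y) ^ 2 = x * y * x⁻¹ * y⁻¹ := by
  have hx' : x⁻¹ = x := inv_eq_of_mul_eq_one_right (by rwa [sq] at hx)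
  have hy' : y⁻¹ = y := inv_eq_of_mul_eq_one_right (by rwa [sq] at hy)
  rw [hx', hy', sq]
  group

/-- The case `p = 2`, `b = 2`: some translate of the second vertex has its `V` in its `Q`. -/
theorem Crit.translate_le_two (hp : p = 2) (hC : Crit p G S 2 f) (hN : Near p G S 2)
    {E : ℕ → Subgroup H} (hE : Edges G S 2 f E) (hS : Str G S 2 2 f E) :
    ∃ h ∈ f 0, Op G S (f 0) (E 0) (cj h (E 0)) ∧
      Vf p G S (cj h (f 1)) ≤ Qf G S (f 1) := by
  obtain ⟨hP0, hP1⟩ := hE 0 (by omega)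
  obtain ⟨hP21, hP22⟩ := hE 1 (by omega)
  obtain ⟨e, he, hop⟩ := other hB hP0
  obtain ⟨g, hg, rfl⟩ := edges_conj hB hP0 he
  have hg0 : cj g (f 0) = f 0 := cj_eq_self hg
  -- the walk conjugated by `g`
  have hC' : Crit p G S 2 (fun i => cj g (f i)) :=
    ⟨fun i hi => adj_cj g (hC.adj i hi), fun hle => hC.bad (by
      show Vf p G S (f 0) ≤ Qf G S (f 2)
      rw [← cj_le_iff (h := g), cj_Vf, cj_Qf]
      exact hle)⟩
  have hE0 : Edge G S (cj g (f 0)) (cj g (E 0)) := edge_cj g hP0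
  have hE1 : Edge G S (cj g (f 1)) (cj g (E 0)) := edge_cj g hP1
  obtain ⟨t, ht, htQ⟩ := hC'.exists_notMem hB hN
  try simp only at ht htQ
  rw [hg0] at htQ
  have htg : t ∈ cj g (E 0) := hC'.first_le hB hN hE1 ht
  have htK : t ∈ f 0 := hg0.le (edge_le hB hE0 htg)
  refine ⟨t, htK, trans hB hP0 he hop htg htQ, ?_⟩
  rw [← cj_Vf]
  rintro _ ⟨v, hv, rfl⟩
  show t * v * t⁻¹ ∈ _
  have htf : Edge G S (f 0) (cj t (E 0)) := edge_conj htK hP0
  have htf1 : Edge G S (cj t (f 1)) (cj t (E 0)) := edge_cj t hP1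
  have ha : t * v * t⁻¹ ∈ Vf p G S (cj t (f 1)) := by
    rw [← cj_Vf]
    exact conj_mem_cj.2 hv
  have haQ : t * v * t⁻¹ ∈ Qf G S (f 0) :=
    hN 1 (by omega) _ _ (reach_one ⟨_, htf1, htf⟩) ha
  by_cases hvZ : v ∈ Zc p (E 0)
  · refine hN 1 (by omega) _ _ (reach_one (hC.adj 0 (by omega))) ?_
    exact ((mem_normalizer_iff.1 (le_normalizer_Vf _ htK)) v).1 (Zc_le_Vf hP0 hvZ)
  by_contra haQ1
  apply cover hB hP1 hv hvZ (Qf_le hP0 haQ) haQ1
  set a := t * v * t⁻¹ with hadef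
  subst hp
  have hv2 : v ^ 2 = 1 := V_pow hB hP1 hv
  have htsq : t ^ 2 = 1 := V_pow hB (edge_cj g hP22) ht
  have htinv : t⁻¹ = t := inv_eq_of_mul_eq_one_right (by rwa [sq] at htsq)
  have hvinv : v⁻¹ = v := inv_eq_of_mul_eq_one_right (by rwa [sq] at hv2)
  have ha2 : a ^ 2 = 1 := by rw [hadef, conj_pow, hv2, mul_one, mul_inv_cancel]
  -- the commutator is centralized by `f 0`
  have h0 : v * a * v⁻¹ * a⁻¹ ∈ centralizer (f 0 : Set H) :=
    (mid_comm hB hN hP1 hP0 htf htf1 (trans hB hP0 he hop htg htQ) hv ha).1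
  -- and by `cj g (f 1)`
  have hvQ : v ∈ Qf G S (f 0) :=
    hN 1 (by omega) _ _ (reach_one ⟨_, hP1, hP0⟩) hv
  have hvg : v ∈ cj g (E 0) := Qf_le hE0 (by rwa [hg0])
  have hvK1 : v ∈ cj g (f 1) := edge_le hB hE1 hvg
  have hx : v * t * v⁻¹ ∈ Vf 2 G S (cj v (cj g (f 2))) := by
    rw [← cj_Vf]
    exact conj_mem_cj.2 ht
  have hE21 : Edge G S (cj g (f 1)) (cj g (E 1)) := edge_cj g hP21
  have hE22 : Edge G S (cj g (f 2)) (cj g (E 1)) := edge_cj g hP22
  have h1 : v * t * v⁻¹ * t * (v * t * v⁻¹)⁻¹ * t⁻¹ ∈ centralizer (cj g (f 1) : Set H) := by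
    by_cases hvQ1 : v ∈ Qf G S (cj g (f 1))
    · have hx' : v * t * v⁻¹ ∈ Vf 2 G S (cj g (f 2)) := by
        rwa [cj_eq_self (edge_le hB hE22 (Qf_le hE21 hvQ1))] at hx
      have hc : t * (v * t * v⁻¹) = v * t * v⁻¹ * t :=
        (V_cent hB hE22 hx' t (V_le hB hE22 ht))
      rw [← hc, mul_inv_cancel_right, mul_inv_cancel]
      exact one_mem _
    · have hop1 : Op G S (cj g (f 1)) (cj g (E 1)) (cj g (E 0)) :=
        ((hS 0 (by omega) (by omega)).cj g).symm
      refine (mid_comm hB hN (edge_cj v hE22) (edge_conj hvK1 hE21) hE21 hE22 ?_ hx ht).1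
      exact (trans hB hE21 hE1 hop1 hvg hvQ1).symm
  have heq : v * a * v⁻¹ * a⁻¹ = v * t * v⁻¹ * t * (v * t * v⁻¹)⁻¹ * t⁻¹ := by
    rw [← sq_eq_comm hv2 ha2, ← sq_eq_comm (by rw [conj_pow, htsq, mul_one, mul_inv_cancel]) htsq,
      hadef, htinv, hvinv]
    simp only [mul_assoc]
  rw [← heq] at h1
  -- `g` fixes it
  have hfix : g⁻¹ * (v * a * v⁻¹ * a⁻¹) * g = v * a * v⁻¹ * a⁻¹ := by
    have := h0 g hg
    calc g⁻¹ * (v * a * v⁻¹ * a⁻¹) * g = g⁻¹ * ((v * a * v⁻¹ * a⁻¹) * g) := by group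
      _ = g⁻¹ * (g * (v * a * v⁻¹ * a⁻¹)) := by rw [this]
      _ = _ := by group
  rw [← cj_centralizer, mem_cj, hfix] at h1
  exact h1

/-- The case `b ≥ 3`. -/
theorem Crit.translate_le_three (hC : Crit p G S b f) (hb : 3 ≤ b) (hN : Near p G S b)
    (hP0 : Edge G S (f 0) P) (hP1 : Edge G S (f 1) P) {h : H} (hh : h ∈ f 0)
    (hne : Op G S (f 0) P (cj h P)) (hP12 : ∃ P12, Edge G S (f 1) P12 ∧
      Edge G S (f 2) P12 ∧ Op G S (f 1) P P12) : Vf p G S (cj h (f 1)) ≤ Qf G S (f (b - 1)) := by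
  by_contra hbad
  set y := cj h (f 1) with hy
  have hey : Edge G S y (cj h P) := edge_cj h hP1
  have he0 : Edge G S (f 0) (cj h P) := edge_conj hh hP0
  have hA : Adj G S y (f 0) := ⟨cj h P, hey, he0⟩
  have hC' := crit_cons hB hA hC hbad
  obtain ⟨v, hv, hvZ⟩ := exists_notMem_Zc hB hey
  obtain ⟨w, hw, hwQ⟩ := hC'.exists_notMem hB hN
  have hb' : b ≠ 0 := by omega
  simp only [if_neg hb', if_pos] at hw hwQ
  have hwe : w ∈ cj h P := by
    have := hC'.first_le hB hN (P := cj h P) (by simpa using he0)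
    simp only [if_neg hb'] at this
    exact this hw
  set r := v * w * v⁻¹ * w⁻¹ with hr
  have hre : r ∈ Zc p (cj h P) := comm_mem hB hey hv hwe
  have hrV : r ∈ Vf p G S (f (b - 1)) := by
    obtain ⟨P', hP1', hP0'⟩ := hC'.exists_last hB
    simp only [if_neg hb'] at hP0'
    exact Zc_le_Vf hP0' (hC'.comm_mem_last hB hN hP1' (by simpa [hb'] using hP0')
      (by simpa using hv) (by simpa [hb'] using hw))
  -- centralized by `f 0`
  obtain ⟨wb, hwb, hwbQ⟩ := hC.exists_notMem hB hN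
  have hr0 : ∀ k ∈ f 0, k * r = r * k := by
    have h1 : zpowers wb ⊔ cj h P ≤ centralizer ({r} : Set H) := by
      refine sup_le (zpowers_le.2 (mem_centralizer_singleton_iff.2 ?_))
        (fun k hk => mem_centralizer_singleton_iff.2 (hre.2.1 k hk))
      exact (near_comm hB hN (n := 1) (by omega) (reach_one (by
        have := hC.adj (b - 1) (by omega)
        rwa [Nat.sub_add_cancel (by omega : 1 ≤ b)] at this)) hrV hwb).symm
    rw [hne.1 _ (hC.first_le hB hN hP1 hwb) hwbQ] at h1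
    exact fun k hk => mem_centralizer_singleton_iff.1 (h1 hk)
  have hrP : r ∈ Zc p P := V_inf_cent hB hP0 (Zc_le_Vf he0 hre) fun k hk => hr0 k (edge_le hB hP0 hk)
  -- centralized by `f 1`
  have hr1 : ∀ k ∈ f 1, k * r = r * k := by
    obtain ⟨P', hP1', hP0'⟩ := hC.exists_last hB
    obtain ⟨e', he', hne'⟩ := other hB hP0'
    have hR := hC.rev hB hN
    obtain ⟨z, hz, -, hzbad⟩ := hR.shift hB (by omega) hN (P := P') (e := e')
      (by simpa using hP0') (by simpa using hP1') (by simpa using he') hne'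
    simp only [show b - (b - 1) = 1 by omega] at hzbad
    obtain ⟨w', hw', hw'Q⟩ := SetLike.not_le_iff_exists.1 hzbad
    obtain ⟨P12, h12a, h12b, hop12⟩ := hP12
    have hAz : Adj G S z (f b) := ⟨e', hz, he'⟩
    have hw'P : w' ∈ P12 := Qf_le h12b (hN (b - 2 + 1) (by omega) z (f 2)
      (reach_cons hAz (reach_symm (reach_of_adj (by omega) le_rfl hC))) hw')
    have h1 : zpowers w' ⊔ P ≤ centralizer ({r} : Set H) := by
      refine sup_le (zpowers_le.2 (mem_centralizer_singleton_iff.2 ?_))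
        (fun k hk => mem_centralizer_singleton_iff.2 (hrP.2.1 k hk))
      exact near_comm hB hN (n := 2) (by omega) (reach_two hAz (by
        have := (hC.adj (b - 1) (by omega)).symm
        rwa [Nat.sub_add_cancel (by omega : 1 ≤ b)] at this)) hw' hrV
    rw [hop12.2 _ hw'P hw'Q] at h1
    exact fun k hk => mem_centralizer_singleton_iff.1 (h1 hk)
  apply cover hB hey hv hvZ hwe hwQ
  rw [← cj_centralizer, mem_cj]
  intro k hk
  have hfix : h⁻¹ * r * h = r := by
    calc h⁻¹ * r * h = h⁻¹ * (r * h) := by group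
      _ = h⁻¹ * (h * r) := by rw [hr0 h hh]
      _ = r := by group
  rw [hfix]
  exact hr1 k hk

/-- The first two vertices of a bad walk with opposite edges are good, unless `p` is odd and
`b = 2`. -/
theorem Crit.good (hC : Crit p G S b f) (hb : 2 ≤ b) (hp : 3 ≤ b ∨ p = 2) (hN : Near p G S b)
    {E : ℕ → Subgroup H} (hE : Edges G S b f E) (hS : Str G S b b f E) :
    Good p G S (f 0) (f 1) := by
  obtain ⟨hP0, hP1⟩ := hE 0 (by omega)
  obtain ⟨h, hh, hop, hy⟩ : ∃ h ∈ f 0, Op G S (f 0) (E 0) (cj h (E 0)) ∧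
      Vf p G S (cj h (f 1)) ≤ Qf G S (f (b - 1)) := by
    rcases Nat.lt_or_ge 2 b with h3 | h2
    · obtain ⟨e, he, hop⟩ := other hB hP0
      obtain ⟨h, hh, rfl⟩ := edges_conj hB hP0 he
      exact ⟨h, hh, hop, hC.translate_le_three hB (by omega) hN hP0 hP1 hh hop
        ⟨E 1, (hE 1 (by omega)).1, (hE 1 (by omega)).2, hS 0 (by omega) (by omega)⟩⟩
    · obtain rfl : b = 2 := by omega
      exact hC.translate_le_two hB (hp.resolve_left (by omega)) hN hE hS
  have h1 := good_cj (h := h⁻¹)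
    (hC.good_of_le hB hN hP0 hP1 (edge_conj hh hP0) hop (edge_cj h hP1) hy)
  rwa [cj_eq_self (inv_mem hh), cj_inv_cj] at h1

/-- Pushing to the left. -/
theorem exists_pushed (hb : 2 ≤ b) (hN : Near p G S b) (hC : Crit p G S b f) (k : ℕ) :
    ∃ g E : ℕ → Subgroup H, Crit p G S b g ∧ (1 ≤ k → ¬ Good p G S (g k) (g (k - 1))) ∧
      Edges G S b g E ∧ Str G S b k g E := by
  induction k with
  | zero =>
    choose E hE using hC.adj
    classical
    refine ⟨f, fun i => if hi : i < b then E i hi else ⊥, hC, fun h => absurd h (by omega),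
      fun i hi => ?_, fun i _ hi => absurd hi (Nat.not_lt_zero i)⟩
    simp only [dif_pos hi]
    exact hE i hi
  | succ k ih =>
    obtain ⟨g, E, hg, hgood, hE, hS⟩ := ih
    obtain ⟨hP0, hP1⟩ := hE 0 (by omega)
    obtain ⟨e, he, hop⟩ := other hB hP0
    obtain ⟨x, hx, hxG, hxbad⟩ := hg.shift hB hb hN hP0 hP1 he hop
    refine ⟨_, fun i => if i = 0 then e else E (i - 1), crit_cons hB ⟨e, hx, he⟩ hg hxbad,
      fun _ => ?_, fun i hi => ?_, fun i hi hik => ?_⟩
    · rcases k with _ | k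
      · simpa using hxG
      · simpa using hgood (by omega)
    · rcases i with _ | i
      · simpa using ⟨hx, he⟩
      · simpa using hE i (by omega)
    · rcases i with _ | i
      · simpa using hop.symm
      · simpa using hS i (by omega) (by omega)

/-- The amalgam theorem for any prime. -/
theorem exists_quadratic : ∃ M P T : Subgroup H, Edge G S M P ∧ T ≤ P ∧ P ≤ T ⊔ Qf G S M ∧
    (∀ u ∈ Qf G S M, ∀ t ∈ T, ∀ t' ∈ T,
      u * t * u⁻¹ * t⁻¹ * t' * (u * t * u⁻¹ * t⁻¹)⁻¹ * t'⁻¹ ∈ Vf p G S M) ∧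
    (p = 2 → ∀ u ∈ Qf G S M, ∀ t ∈ T, u * t * u⁻¹ * t⁻¹ ∈ Vf p G S M) := by
  classical
  have hex : ∃ n, ∃ K M : Subgroup H, Reach G S n K M ∧ ¬ Vf p G S K ≤ Qf G S M := by
    by_contra hcon
    push Not at hcon
    set U := ⨆ (M : Subgroup H) (_ : ∃ n, Reach G S n G M), Vf p G S M with hU
    have hUS : U ≤ S := iSup₂_le fun M ⟨n, hn⟩ =>
      (hcon n M G (reach_symm hn)).trans (Qf_le edge_base)
    have hUG : G ≤ normalizer (U : Set H) := by
      refine le_normalizer_of_conj fun g hg => ?_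
      rw [cj, map_le_iff_le_comap]
      refine iSup₂_le fun M ⟨n, hn⟩ => ?_
      rw [← map_le_iff_le_comap]
      refine (cj_Vf g M).le.trans (le_iSup₂_of_le _ ⟨n, ?_⟩ le_rfl)
      have := reach_cj g hn
      rwa [cj_eq_self hg] at this
    have hUN : normalizer (S : Set H) ≤ normalizer (U : Set H) := by
      refine le_normalizer_of_conj fun a ha => ?_
      rw [cj, map_le_iff_le_comap]
      refine iSup₂_le fun M ⟨n, hn⟩ => ?_
      rw [← map_le_iff_le_comap]
      refine (cj_Vf a M).le.trans (le_iSup₂_of_le _ ⟨n + 1, ?_⟩ le_rfl)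
      exact reach_cons ⟨S, edge_base, edge_normalizer ha edge_base⟩ (reach_cj a hn)
    have h0 := hB.kernel U hUS hUG hUN
    obtain ⟨v, hv, hvZ⟩ := exists_notMem_Zc hB (edge_base (G := G) (S := S))
    have : v ∈ U := (le_iSup₂_of_le (f := fun (M : Subgroup H) (_ : ∃ n, Reach G S n G M) =>
      Vf p G S M) G ⟨0, reach_zero⟩ le_rfl) hv
    rw [h0, mem_bot] at this
    exact hvZ (this ▸ one_mem _)
  set b := Nat.find hex with hbdef
  have hN : Near p G S b := fun n hn K M hR => by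
    by_contra hle
    exact Nat.find_min hex hn ⟨K, M, hR, hle⟩
  obtain ⟨K, M, ⟨f, hf0, hfb, hfA⟩, hbad⟩ := Nat.find_spec hex
  have hC : Crit p G S b f := ⟨hfA, by rwa [hf0, hfb]⟩
  have hpos := hC.pos hB
  rcases Nat.lt_or_ge b 2 with h2 | h2
  · -- `b = 1`
    have hb1 : b = 1 := by omega
    obtain ⟨P, hP0, hP1⟩ := hC.exists_last hB
    rw [hb1] at hP0 hP1
    have hVP : Vf p G S (f 0) ≤ P := hC.last_le hB hN (by rwa [hb1])
    have key : ∀ u ∈ Qf G S (f 1), ∀ t ∈ Vf p G S (f 0),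
        u * t * u⁻¹ * t⁻¹ ∈ Vf p G S (f 1) := by
      intro u hu t ht
      have h1 := inv_mem (Zc_le_Vf hP1 (comm_mem hB (by simpa using hP0) ht (Qf_le hP1 hu)))
      simpa [mul_assoc] using h1
    refine ⟨f 1, P, Vf p G S (f 0), hP1, hVP, ?_, fun u hu t ht t' ht' => ?_, fun _ => key⟩
    · have h1 := (hC.rev hB hN).edge_le_sup hB hN (P := P) (by simpa [hb1] using hP1)
        (by simpa [hb1] using hP0)
      simpa [hb1] using h1
    · have hn := le_normalizer_Vf (p := p) (G := G) (S := S) (f 1) (edge_le hB hP1 (hVP ht'))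
      have hc := key u hu t ht
      rw [show u * t * u⁻¹ * t⁻¹ * t' * (u * t * u⁻¹ * t⁻¹)⁻¹ * t'⁻¹ =
        u * t * u⁻¹ * t⁻¹ * (t' * (u * t * u⁻¹ * t⁻¹)⁻¹ * t'⁻¹) by group]
      exact mul_mem hc ((mem_normalizer_iff.1 hn _).1 (inv_mem hc))
  · obtain ⟨g, E, hg, hgood, hE, hS⟩ := exists_pushed hB h2 hN hC b
    by_cases hp : 3 ≤ b ∨ p = 2
    · exfalso
      have h1 := (hg.rev hB hN).good hB h2 hp hN hE.rev hS.rev
      simp only [Nat.sub_zero] at h1
      exact hgood (by omega) h1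
    push Not at hp
    have hb2 : b = 2 := by omega
    clear_value b
    subst hb2
    obtain ⟨hP0, hP1⟩ := hE 0 (by omega)
    obtain ⟨hP21, hP22⟩ := hE 1 (by omega)
    refine ⟨g 0, E 0, Vf p G S (g 2), hP0, hg.first_le hB hN hP1, hg.edge_le_sup hB hN hP0 hP1,
      fun u hu w hw t ht => ?_, fun h => absurd h hp.2⟩
    have huE : u ∈ E 0 := Qf_le hP0 hu
    have huK : u ∈ g 1 := edge_le hB hP1 huE
    have hwt : w * t = t * w := (V_cent hB hP22 hw t (V_le hB hP22 ht)).symm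
    by_cases huQ : u ∈ Qf G S (g 1)
    · have hc : u * w * u⁻¹ * w⁻¹ ∈ Vf p G S (g 2) := by
        have h1 := inv_mem (Zc_le_Vf hP22 (comm_mem hB hP22 hw (Qf_le hP21 huQ)))
        simpa [mul_assoc] using h1
      rw [(V_cent hB hP22 hc t (V_le hB hP22 ht)).symm, mul_inv_cancel_right, mul_inv_cancel]
      exact one_mem _
    · have hop : Op G S (g 1) (E 1) (cj u (E 1)) :=
        trans hB hP21 hP1 (hS 0 (by omega) (by omega)).symm huE huQ
      have hw' : u * w * u⁻¹ ∈ Vf p G S (cj u (g 2)) := by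
        rw [← cj_Vf]
        exact conj_mem_cj.2 hw
      obtain ⟨hz1, hz2⟩ := mid_comm hB hN (edge_cj u hP22) (edge_conj huK hP21) hP21 hP22 hop.symm
        hw' ht
      have heq : u * w * u⁻¹ * w⁻¹ * t * (u * w * u⁻¹ * w⁻¹)⁻¹ * t⁻¹ =
          u * w * u⁻¹ * t * (u * w * u⁻¹)⁻¹ * t⁻¹ := by
        calc _ = u * w * u⁻¹ * (w⁻¹ * (t * w)) * (u * w * u⁻¹)⁻¹ * t⁻¹ := by group
          _ = _ := by rw [← hwt]; group
      rw [heq]
      exact Zc_le_Vf hP0 (V_inf_cent hB hP1 hz2 fun k hk => hz1 k (edge_le hB hP1 hk))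

end H71.BGNP
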