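import Cfsg.Agent.H71.BGNP.Amalgam

/-!
The two outcomes of the amalgam argument.

Either `b = 1` and some edge is covered by an abelian subgroup `T` whose commutators with the
`Q` of the vertex are central in the edge, or `p` is odd and `b = 2`: then some edge of some
vertex `K` is covered by such a `T` which acts on a subgroup `U` of `Q_K`, normalized by `K`, with
`[Q_K, U]` central in `K`, quadratically but nontrivially modulo that centre.
-/

set_option autoImplicit false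
set_option linter.unusedSectionVars false

open Subgroup
open scoped commutatorElement

namespace H71.BGNP

variable {H : Type*} [Group H]

theorem comm_mul_left (a b c : H) : ⁅a * b, c⁆ = a * ⁅b, c⁆ * a⁻¹ * ⁅a, c⁆ := by
  simp only [commutatorElement_def]; group

theorem comm_mul_right (a b c : H) : ⁅a, b * c⁆ = ⁅a, b⁆ * (b * ⁅a, c⁆ * b⁻¹) := by
  simp only [commutatorElement_def]; group

theorem comm_conj (g a b : H) : ⁅g * a * g⁻¹, g * b * g⁻¹⁆ = g * ⁅a, b⁆ * g⁻¹ := by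
  simp only [commutatorElement_def]; group

theorem comm_eq_one_of {a b : H} (h : a * b = b * a) : ⁅a, b⁆ = 1 :=
  commutatorElement_eq_one_iff_mul_comm.2 h

theorem exists_mul_of_mem_sup {A B : Subgroup H} (hAB : A ≤ normalizer (B : Set H)) {x : H}
    (hx : x ∈ A ⊔ B) : ∃ a ∈ A, ∃ b ∈ B, a * b = x := by
  rw [← SetLike.mem_coe, coe_mul_of_left_le_normalizer_right _ _ hAB] at hx
  exact hx

/-- Powers of a product when the commutator of the factors is central in both. -/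
theorem mul_pow_of_comm {a b c : H} (hca : Commute c a) (hcb : Commute c b)
    (h : b * a = c * (a * b)) (n : ℕ) : (a * b) ^ n = c ^ n.choose 2 * (a ^ n * b ^ n) := by
  have hpow : ∀ k : ℕ, b ^ k * a = c ^ k * (a * b ^ k) := by
    intro k
    induction k with
    | zero => simp
    | succ k ih =>
      calc b ^ (k + 1) * a = b * (b ^ k * a) := by rw [pow_succ', mul_assoc]
        _ = c ^ k * (b * a) * b ^ k := by
          rw [ih, ← mul_assoc b (c ^ k), ← (hcb.pow_left k).eq]; group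
        _ = c ^ (k + 1) * (a * b ^ (k + 1)) := by
          rw [h, pow_succ' b k, pow_succ c k]; simp only [mul_assoc]
  induction n with
  | zero => simp
  | succ n ih =>
    rw [pow_succ, ih]
    calc c ^ n.choose 2 * (a ^ n * b ^ n) * (a * b)
        = c ^ n.choose 2 * (a ^ n * (b ^ n * a) * b) := by simp only [mul_assoc]
      _ = c ^ n.choose 2 * (a ^ n * c ^ n * (a * b ^ n * b)) := by rw [hpow]; simp only [mul_assoc]
      _ = c ^ n.choose 2 * c ^ n * (a ^ n * a * (b ^ n * b)) := by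
        rw [(hca.symm.pow_pow n n).eq]; simp only [mul_assoc]
      _ = _ := by
        rw [← pow_succ, ← pow_succ, ← pow_add, Nat.choose_succ_succ', Nat.choose_one_right,
          add_comm (n.choose 2)]

/-- The first outcome. -/
structure CaseOne (p : ℕ) (P Q T : Subgroup H) : Prop where
  le : T ≤ P
  sup : P ≤ T ⊔ Q
  comm : ∀ t ∈ T, ∀ t' ∈ T, t * t' = t' * t
  pow : ∀ t ∈ T, t ^ p = 1
  comm_mem : ∀ u ∈ Q, ∀ t ∈ T, ⁅u, t⁆ ∈ Zc p P

/-- The second outcome. -/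
structure CaseTwo (p q : ℕ) (G P Q V T U W a : Subgroup H) : Prop where
  ne_two : p ≠ 2
  le : T ≤ P
  sup : P ≤ T ⊔ Q
  comm : ∀ t ∈ T, ∀ t' ∈ T, t * t' = t' * t
  pow : ∀ t ∈ T, t ^ p = 1
  U_le : U ≤ Q
  U_ge : V ≤ U
  U_norm : G ≤ normalizer (U : Set H)
  U_pow : ∀ u ∈ U, u ^ p = 1
  U_comm : ∀ x ∈ Q, ∀ u ∈ U, ⁅x, u⁆ ∈ centralizer (G : Set H) ∧ ⁅x, u⁆ ∈ V
  QT : ∀ x ∈ Q, ∀ t ∈ T, ⁅x, t⁆ ∈ U
  quad : ∀ x ∈ Q, ∀ t ∈ T, ∀ t' ∈ T, ⁅⁅x, t⁆, t'⁆ ∈ Zc p P
  index : ∀ C ≤ U, (∀ u ∈ U, (∀ t ∈ T, ⁅u, t⁆ ∈ V) → u ∈ C) → Nat.card U ≤ q * Nat.card C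
  W_ge : V ≤ W
  W_le : W ≤ U
  W_norm : a ≤ normalizer (W : Set H)
  W_not : ¬ G ≤ normalizer (W : Set H)
  theta : ∃ u ∈ U, ∃ s ∈ P, ∃ s' ∈ P, ⁅⁅u, s⁆, s'⁆ ∉ centralizer (G : Set H)

variable {p q : ℕ} {G S : Subgroup H} {b : ℕ} {f : ℕ → Subgroup H}
variable {K M P P' : Subgroup H}

/-- The base edge is conjugate to every opposite edge by an element of itself. -/
def Reg (G S : Subgroup H) : Prop :=
  ∀ g ∈ G, ∀ g' ∈ G, Op G S G S (cj g S) → Op G S G S (cj g' S) →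
    ∃ s ∈ S, cj s (cj g S) = cj g' S

variable (hB : Base p q G S)
include hB

theorem regular (hR : Reg G S) {P'' : Subgroup H} (hE : Edge G S K P) (hE' : Edge G S K P')
    (hE'' : Edge G S K P'') (hop : Op G S K P P') (hop' : Op G S K P P'') :
    ∃ s ∈ P, cj s P' = P'' := by
  obtain ⟨k, hk, rfl⟩ := edges_conj hB hE hE'
  obtain ⟨k', hk', rfl⟩ := edges_conj hB hE hE''
  obtain ⟨h, rfl, rfl⟩ := hE
  obtain ⟨g, hg, rfl⟩ := hk
  obtain ⟨g', hg', rfl⟩ := hk'
  have key : ∀ g : H, cj ((MulAut.conj h).toMonoidHom g) (cj h S) = cj h (cj g S) := fun g => by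
    rw [cj_cj, cj_cj]
    congr 1
    simp [MulAut.conj_apply, mul_assoc]
  rw [key] at hop hop' ⊢
  rw [key]
  have hd : ∀ {g : H}, Op G S (cj h G) (cj h S) (cj h (cj g S)) → Op G S G S (cj g S) :=
    fun {g} hh => by
      have := hh.cj h⁻¹
      rwa [cj_inv_cj, cj_inv_cj, cj_inv_cj] at this
  obtain ⟨s, hs, he⟩ := hR g hg g' hg' (hd hop) (hd hop')
  refine ⟨h * s * h⁻¹, conj_mem_cj.2 hs, ?_⟩
  rw [← he, cj_cj, cj_cj, cj_cj, cj_cj]
  congr 1
  group

variable [Finite H]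

/-- The middle `Q` of a bad walk of length two has its commutators with the last `V` in the
centre of the middle vertex. -/
theorem side_comm (hN : Near p G S 2) {x y z a e : Subgroup H} (hxa : Edge G S x a)
    (hya : Edge G S y a) (hye : Edge G S y e) (hze : Edge G S z e) (hop : Op G S y a e)
    (hbad : ¬ Vf p G S x ≤ Qf G S z) {c w : H} (hc : c ∈ Qf G S y) (hw : w ∈ Vf p G S z) :
    ⁅c, w⁆ ∈ centralizer (y : Set H) ∧ ⁅c, w⁆ ∈ Vf p G S y := by
  have hC : Crit p G S 2 (fun i => if i = 0 then x else if i = 1 then y else z) :=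
    ⟨fun i hi => by
      rcases (by omega : i = 0 ∨ i = 1) with rfl | rfl
      · simpa using ⟨a, hxa, hya⟩
      · simpa using ⟨e, hye, hze⟩, by simpa using hbad⟩
  have hsup : e ≤ Vf p G S x ⊔ Qf G S z := by
    have h1 := (hC.rev hB hN).edge_le_sup hB hN (P := e) (by simpa using hze) (by simpa using hye)
    simpa using h1
  have hVn : Vf p G S x ≤ normalizer (Qf G S z : Set H) := by
    have h1 := hC.last_le hB hN (P := e) (by simpa using hye)
    simp only [if_pos] at h1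
    exact (h1.trans (edge_le hB hze)).trans (le_normalizer_Qf z)
  obtain ⟨v, hv, m, hm, rfl⟩ := exists_mul_of_mem_sup hVn (hsup (Qf_le hye hc))
  rw [comm_mul_left, comm_eq_one_of ((V_cent hB hze hw) m hm), mul_one, mul_inv_cancel, one_mul]
  exact mid_comm hB hN hxa hya hye hze hop hv hw

theorem exists_case (hpp : p.Prime) (hR : Reg G S) :
    (∃ K P T : Subgroup H, Edge G S K P ∧ CaseOne p P (Qf G S K) T) ∨
    (∃ K P T U W a : Subgroup H, Edge G S K P ∧ Edge G S K a ∧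
      CaseTwo p q K P (Qf G S K) (Vf p G S K) T U W a) := by
  classical
  have hex : ∃ n, ∃ K M : Subgroup H, Reach G S n K M ∧ ¬ Vf p G S K ≤ Qf G S M := by
    by_contra hcon
    push Not at hcon
    set U := ⨆ (M : Subgroup H) (_ : ∃ n, Reach G S n G M), Vf p G S M with hU
    have hUS : U ≤ S := iSup₂_le fun M ⟨n, hn⟩ =>
      (hcon n M G (reach_symm hn)).trans (Qf_le edge_base)
    have hUG : G ≤ normalizer (U : Set H) := by
      refine le_normalizer_of_conj fun g hg => ?_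
      rw [cj, map_le_iff_le_comap]
      refine iSup₂_le fun M ⟨n, hn⟩ => ?_
      rw [← map_le_iff_le_comap]
      refine (cj_Vf g M).le.trans (le_iSup₂_of_le _ ⟨n, ?_⟩ le_rfl)
      have := reach_cj g hn
      rwa [cj_eq_self hg] at this
    have hUN : normalizer (S : Set H) ≤ normalizer (U : Set H) := by
      refine le_normalizer_of_conj fun a ha => ?_
      rw [cj, map_le_iff_le_comap]
      refine iSup₂_le fun M ⟨n, hn⟩ => ?_
      rw [← map_le_iff_le_comap]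
      refine (cj_Vf a M).le.trans (le_iSup₂_of_le _ ⟨n + 1, ?_⟩ le_rfl)
      exact reach_cons ⟨S, edge_base, edge_normalizer ha edge_base⟩ (reach_cj a hn)
    have h0 := hB.kernel U hUS hUG hUN
    obtain ⟨v, hv, hvZ⟩ := exists_notMem_Zc hB (edge_base (G := G) (S := S))
    have : v ∈ U := (le_iSup₂_of_le (f := fun (M : Subgroup H) (_ : ∃ n, Reach G S n G M) =>
      Vf p G S M) G ⟨0, reach_zero⟩ le_rfl) hv
    rw [h0, mem_bot] at this
    exact hvZ (this ▸ one_mem _)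
  set b := Nat.find hex with hbdef
  have hN : Near p G S b := fun n hn K M hR => by
    by_contra hle
    exact Nat.find_min hex hn ⟨K, M, hR, hle⟩
  obtain ⟨K, M, ⟨f, hf0, hfb, hfA⟩, hbad⟩ := Nat.find_spec hex
  have hC : Crit p G S b f := ⟨hfA, by rwa [hf0, hfb]⟩
  have hpos := hC.pos hB
  rcases Nat.lt_or_ge b 2 with h2 | h2
  · -- `b = 1`
    have hb1 : b = 1 := by omega
    obtain ⟨P, hP0, hP1⟩ := hC.exists_last hB
    rw [hb1] at hP0 hP1
    simp only [Nat.sub_self] at hP0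
    refine Or.inl ⟨f 1, P, Vf p G S (f 0), hP1,
      { le := hC.last_le hB hN (by rwa [hb1])
        sup := ?_
        comm := fun t ht t' ht' => (V_cent hB hP0 ht' t (V_le hB hP0 ht))
        pow := fun t ht => V_pow hB hP0 ht
        comm_mem := fun u hu t ht => ?_ }⟩
    · have h1 := (hC.rev hB hN).edge_le_sup hB hN (P := P) (by simpa [hb1] using hP1)
        (by simpa [hb1] using hP0)
      simpa [hb1] using h1
    · have h1 := inv_mem (comm_mem hB hP0 ht (Qf_le hP1 hu))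
      simpa [commutatorElement_def, mul_assoc] using h1
  obtain ⟨g, E, hg, hgood, hE, hS⟩ := exists_pushed hB h2 hN hC b
  by_cases hp : 3 ≤ b ∨ p = 2
  · exfalso
    have h1 := (hg.rev hB hN).good hB h2 hp hN hE.rev hS.rev
    simp only [Nat.sub_zero] at h1
    exact hgood (by omega) h1
  push Not at hp
  have hb2 : b = 2 := by omega
  clear_value b
  subst hb2
  obtain ⟨hP0, hP1⟩ := hE 0 (by omega)
  obtain ⟨hP21, hP22⟩ := hE 1 (by omega)
  have hop1 : Op G S (g 1) (E 0) (E 1) := hS 0 (by omega) (by omega)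
  obtain ⟨a, ha, hop0⟩ := other hB hP0
  obtain ⟨x, hx, hxG, hxbad⟩ := hg.shift hB le_rfl hN hP0 hP1 ha hop0
  change ¬ Vf p G S x ≤ Qf G S (g 1) at hxbad
  have hxbad' : ¬ Vf p G S (g 1) ≤ Qf G S x := by
    have := ((crit_cons hB ⟨a, hx, ha⟩ hg hxbad).rev hB hN).bad
    simpa using this
  have hone : ∀ {K M A : Subgroup H}, Edge G S K A → Edge G S M A →
      Vf p G S K ≤ Qf G S M := fun {K M A} h h' => hN 1 (by omega) K M (reach_one ⟨A, h, h'⟩)
  set D := centralizer (g 0 : Set H) ⊓ Vf p G S (g 0) with hD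
  -- the commutators at the two middle vertices
  have hx0 : ∀ c ∈ Qf G S (g 0), ∀ w ∈ Vf p G S x, ⁅c, w⁆ ∈ D := fun c hc w hw =>
    side_comm hB hN hP1 hP0 ha hx hop0 hxbad' hc hw
  have h10 : ∀ c ∈ Qf G S (g 0), ∀ w ∈ Vf p G S (g 1), ⁅c, w⁆ ∈ D := fun c hc w hw =>
    side_comm hB hN hx ha hP0 hP1 hop0.symm hxbad hc hw
  have h21 : ∀ c ∈ Qf G S (g 1), ∀ w ∈ Vf p G S (g 2), ⁅c, w⁆ ∈ Vf p G S (g 0) := fun c hc w hw => by
    obtain ⟨hz1, hz2⟩ := side_comm hB hN hP0 hP1 hP21 hP22 hop1 hg.bad hc hw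
    exact Zc_le_Vf hP0 (V_inf_cent hB hP1 hz2 fun k hk => hz1 k (edge_le hB hP1 hk))
  -- the subgroup `U`
  set U0 := Vf p G S x ⊔ Vf p G S (g 1) with hU0
  set U := Vf p G S (g 0) ⊔ ⨆ (k : H) (_ : k ∈ g 0), cj k U0 with hU
  have hU0Q : U0 ≤ Qf G S (g 0) := sup_le (hone hx ha) (hone hP1 hP0)
  have hUQ : U ≤ Qf G S (g 0) := by
    refine sup_le (V_le hB hP0) (iSup₂_le fun k hk => (cj_mono hU0Q).trans_eq ?_)
    rw [cj_Qf, cj_eq_self hk]
  have hVU : Vf p G S (g 0) ≤ U := le_sup_left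
  have hU0U : U0 ≤ U :=
    le_trans (le_iSup₂_of_le (f := fun (k : H) (_ : k ∈ g 0) => cj k U0) 1 (one_mem _)
      (cj_one U0).ge) le_sup_right
  have hUn : g 0 ≤ normalizer (U : Set H) := by
    refine le_normalizer_of_conj fun l hl => ?_
    rw [hU, cj_sup, cj_Vf, cj_eq_self hl]
    refine sup_le le_sup_left ?_
    rw [cj, map_le_iff_le_comap]
    refine iSup₂_le fun k hk => ?_
    rw [← map_le_iff_le_comap]
    refine le_trans ((cj_cj l k U0).le.trans ?_) le_sup_right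
    exact le_iSup₂_of_le (f := fun (k : H) (_ : k ∈ g 0) => cj k U0) (l * k) (mul_mem hl hk) le_rfl
  have hQg : ∀ {u : H}, u ∈ Qf G S (g 0) → u ∈ g 0 := fun hu => edge_le hB hP0 (Qf_le hP0 hu)
  have hDfix : ∀ {k d : H}, k ∈ g 0 → d ∈ D → k * d * k⁻¹ = d := fun {k d} hk hd => by
    rw [hd.1 k hk, mul_inv_cancel_right]
  let Z : Subgroup H :=
    { carrier := {u | u ∈ Qf G S (g 0) ∧ ∀ c ∈ Qf G S (g 0), ⁅c, u⁆ ∈ D}
      one_mem' := ⟨one_mem _, fun c _ => by rw [commutatorElement_one_right]; exact one_mem _⟩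
      mul_mem' := fun {u v} hu hv => ⟨mul_mem hu.1 hv.1, fun c hc => by
        rw [comm_mul_right, hDfix (hQg hu.1) (hv.2 c hc)]
        exact mul_mem (hu.2 c hc) (hv.2 c hc)⟩
      inv_mem' := fun {u} hu => ⟨inv_mem hu.1, fun c hc => by
        have e : ⁅c, u⁻¹⁆ = u⁻¹ * ⁅c, u⁆⁻¹ * u⁻¹⁻¹ := by
          simp only [commutatorElement_def]; group
        rw [e, hDfix (inv_mem (hQg hu.1)) (inv_mem (hu.2 c hc))]
        exact inv_mem (hu.2 c hc)⟩ }
  have hUZ : U ≤ Z := by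
    refine sup_le (fun u hu => ⟨V_le hB hP0 hu, fun c hc => ?_⟩) (iSup₂_le fun k hk => ?_)
    · rw [comm_eq_one_of (V_cent hB hP0 hu c hc)]
      exact one_mem _
    have h0 : U0 ≤ Z := sup_le (fun u hu => ⟨hone hx ha hu, fun c hc => hx0 c hc u hu⟩)
      (fun u hu => ⟨hone hP1 hP0 hu, fun c hc => h10 c hc u hu⟩)
    rintro _ ⟨u, hu, rfl⟩
    refine ⟨?_, fun c hc => ?_⟩
    · exact ((mem_normalizer_iff.1 (le_normalizer_Qf _ hk)) u).1 (h0 hu).1
    · have hc' : k⁻¹ * c * k ∈ Qf G S (g 0) :=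
        ((mem_normalizer_iff''.1 (le_normalizer_Qf _ hk)) c).1 hc
      have h1 := (h0 hu).2 _ hc'
      show ⁅c, k * u * k⁻¹⁆ ∈ D
      rw [show c = k * (k⁻¹ * c * k) * k⁻¹ by group, comm_conj, hDfix hk h1]
      exact h1
  have hUpow : ∀ u ∈ U, u ^ p = 1 := by
    let R : Subgroup H :=
      { carrier := {u | u ∈ U ∧ u ^ p = 1}
        one_mem' := ⟨one_mem _, one_pow p⟩
        mul_mem' := fun {u v} hu hv => ⟨mul_mem hu.1 hv.1, by
          have hd := (hUZ hu.1).2 v (hUQ hv.1)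
          have hca : Commute ⁅v, u⁆ u := (hd.1 u (hQg (hUQ hu.1))).symm
          have hcb : Commute ⁅v, u⁆ v := (hd.1 v (hQg (hUQ hv.1))).symm
          rw [mul_pow_of_comm hca hcb (by rw [commutatorElement_def]; group) p, hu.2, hv.2,
            one_mul, mul_one]
          have hdvd : p ∣ p.choose 2 :=
            hpp.dvd_choose_self two_ne_zero (hpp.two_le.lt_of_ne' hp.2)
          obtain ⟨m, hm⟩ := hdvd
          rw [hm, pow_mul, V_pow hB hP0 hd.2, one_pow]⟩
        inv_mem' := fun {u} hu => ⟨inv_mem hu.1, by rw [inv_pow, hu.2, inv_one]⟩ }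
    have hle : U ≤ R := by
      refine sup_le (fun u hu => ⟨hVU hu, V_pow hB hP0 hu⟩) (iSup₂_le fun k hk => ?_)
      have h0 : U0 ≤ R := sup_le (fun u hu => ⟨hU0U (mem_sup_left hu), V_pow hB hx hu⟩)
        (fun u hu => ⟨hU0U (mem_sup_right hu), V_pow hB hP1 hu⟩)
      rintro _ ⟨u, hu, rfl⟩
      refine ⟨((mem_normalizer_iff.1 (hUn hk)) u).1 (h0 hu).1, ?_⟩
      rw [← map_pow, (h0 hu).2, map_one]
    exact fun u hu => (hle hu).2
  have hTP : Vf p G S (g 2) ≤ E 0 := hg.first_le hB hN hP1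
  have hsupx : E 0 ≤ Vf p G S x ⊔ Qf G S (g 1) := by
    have h1 := ((crit_cons hB ⟨a, hx, ha⟩ hg hxbad).rev hB hN).edge_le_sup hB hN (P := E 0)
      (by simpa using hP1) (by simpa using hP0)
    simpa using h1
  refine Or.inr ⟨g 0, E 0, Vf p G S (g 2), U, Vf p G S x ⊔ Vf p G S (g 0), a, hP0, ha,
    { ne_two := hp.2
      le := hTP
      sup := hg.edge_le_sup hB hN hP0 hP1
      comm := fun t ht t' ht' => V_cent hB hP22 ht' t (V_le hB hP22 ht)
      pow := fun t ht => V_pow hB hP22 ht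
      U_le := hUQ
      U_ge := hVU
      U_norm := hUn
      U_pow := hUpow
      U_comm := fun c hc u hu => (hUZ hu).2 c hc
      QT := ?_
      quad := ?_
      index := ?_
      W_ge := le_sup_right
      W_le := sup_le (le_sup_left.trans hU0U) hVU
      W_norm := ?_
      W_not := hxG
      theta := ?_ }⟩
  · intro c hc t ht
    have hn : Vf p G S x ≤ normalizer (Qf G S (g 1) : Set H) := fun u hu =>
      le_normalizer_Qf _ (edge_le hB hP1 (Qf_le hP0 (hone hx ha hu)))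
    obtain ⟨v, hv, m, hm, rfl⟩ := exists_mul_of_mem_sup hn (hsupx (Qf_le hP0 hc))
    have hvU : v ∈ U := hU0U (mem_sup_left hv)
    rw [comm_mul_left]
    refine mul_mem (mul_mem (mul_mem hvU (hVU (h21 m hm t ht))) (inv_mem hvU)) ?_
    rw [commutatorElement_def, mul_assoc v t, mul_assoc v]
    exact mul_mem hvU (((mem_normalizer_iff.1 (hUn (edge_le hB hP0 (hTP ht)))) _).1 (inv_mem hvU))
  · intro u hu w hw t ht
    have huE : u ∈ E 0 := Qf_le hP0 hu
    have huK : u ∈ g 1 := edge_le hB hP1 huE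
    have hwt : w * t = t * w := (V_cent hB hP22 hw t (V_le hB hP22 ht)).symm
    by_cases huQ : u ∈ Qf G S (g 1)
    · have hc : ⁅u, w⁆ ∈ Vf p G S (g 2) := by
        have h1 := inv_mem (Zc_le_Vf hP22 (comm_mem hB hP22 hw (Qf_le hP21 huQ)))
        simpa [commutatorElement_def, mul_assoc] using h1
      rw [comm_eq_one_of (V_cent hB hP22 hc t (V_le hB hP22 ht)).symm]
      exact one_mem _
    · have hop : Op G S (g 1) (E 1) (cj u (E 1)) := trans hB hP21 hP1 hop1.symm huE huQ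
      have hw' : u * w * u⁻¹ ∈ Vf p G S (cj u (g 2)) := by
        rw [← cj_Vf]
        exact conj_mem_cj.2 hw
      obtain ⟨hz1, hz2⟩ := mid_comm hB hN (edge_cj u hP22) (edge_conj huK hP21) hP21 hP22 hop.symm
        hw' ht
      have heq : ⁅⁅u, w⁆, t⁆ = u * w * u⁻¹ * t * (u * w * u⁻¹)⁻¹ * t⁻¹ := by
        simp only [commutatorElement_def]
        calc _ = u * w * u⁻¹ * (w⁻¹ * (t * w)) * (u * w * u⁻¹)⁻¹ * t⁻¹ := by group
          _ = _ := by rw [← hwt]; group
      rw [heq]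
      exact V_inf_cent hB hP1 hz2 fun k hk => hz1 k (edge_le hB hP1 hk)
  · intro C hCU hC'
    have hle : U ⊓ Qf G S (g 1) ≤ C := fun u hu => hC' u hu.1 fun t ht => h21 u hu.2 t ht
    refine le_trans ?_ (Nat.mul_le_mul_left q (card_le_of_le hle))
    have h1 := H78.card_mul_le_sup_inf U (Qf G S (g 1))
    have h2 := card_le_of_le (sup_le (hUQ.trans (Qf_le hP0)) (Qf_le hP1) :
      U ⊔ Qf G S (g 1) ≤ E 0)
    rw [card_P hB hP1] at h2
    refine Nat.le_of_mul_le_mul_right (c := Nat.card (Qf G S (g 1))) ?_ Nat.card_pos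
    calc Nat.card U * Nat.card (Qf G S (g 1))
        ≤ q * Nat.card (Qf G S (g 1)) * Nat.card ↥(U ⊓ Qf G S (g 1)) :=
          h1.trans (Nat.mul_le_mul_right _ h2)
      _ = _ := by ring
  · intro u hu
    exact mem_normalizer_of_cj_eq (by
      rw [cj_sup, cj_Vf, cj_Vf, cj_eq_self (edge_le hB hx hu), cj_eq_self (edge_le hB ha hu)])
  · obtain ⟨v, hv, hvQ⟩ := SetLike.not_le_iff_exists.1 hxbad
    have hvE : v ∈ E 0 := Qf_le hP0 (hone hx ha hv)
    obtain ⟨s, hs, hse⟩ := regular hB hR hP21 hP1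
      (edge_conj (edge_le hB hP1 hvE) hP21) hop1.symm
      (trans hB hP21 hP1 hop1.symm hvE hvQ)
    have hh : cj (v⁻¹ * s) (E 0) = E 1 := by rw [← cj_cj, hse, cj_inv_cj]
    obtain ⟨w0, hw0, hw0Z⟩ := exists_notMem_Zc hB hP0
    obtain ⟨t0, ht0, ht0Q⟩ := hg.exists_notMem hB hN
    set w := v⁻¹ * s * w0 * (v⁻¹ * s)⁻¹ with hwdef
    have hEy : Edge G S (cj (v⁻¹ * s) (g 0)) (E 1) := hh ▸ edge_cj (v⁻¹ * s) hP0
    have hwV : w ∈ Vf p G S (cj (v⁻¹ * s) (g 0)) := by
      rw [← cj_Vf, hwdef]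
      exact conj_mem_cj.2 hw0
    have hwE : w ∈ E 0 := Qf_le hP1 (hone hEy hP21 hwV)
    have ht : s * t0 * s⁻¹ ∈ Vf p G S (g 2) :=
      ((mem_normalizer_iff.1 (le_normalizer_Vf _ (edge_le hB hP22 hs))) t0).1 ht0
    have hwt : w * (s * t0 * s⁻¹) = s * t0 * s⁻¹ * w :=
      (V_cent hB hP22 ht w (hone hEy hP22 hwV))
    refine ⟨v, hU0U (mem_sup_left hv), w, hwE, s * t0 * s⁻¹, hTP ht, ?_⟩
    have e1 : ⁅v, w⁆ = s * w0 * s⁻¹ * w⁻¹ := by
      rw [hwdef, commutatorElement_def]; group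
    rw [e1, comm_mul_left,
      comm_eq_one_of ((Commute.inv_left (hwt : Commute w (s * t0 * s⁻¹))).eq), mul_one,
      mul_inv_cancel, one_mul, comm_conj]
    obtain ⟨hm1, -⟩ := mid_comm hB hN hP0 hP1 hP21 hP22 hop1 hw0 ht0
    have hfix : s * ⁅w0, t0⁆ * s⁻¹ = ⁅w0, t0⁆ := by
      rw [commutatorElement_def, hm1 s (edge_le hB hP21 hs), mul_inv_cancel_right]
    rw [hfix]
    exact cover hB hP0 hw0 hw0Z (hTP ht0) ht0Q

end H71.BGNP
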