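import Cfsg.Agent.H71.BGNP.Chief
import Cfsg.Agent.H71.BGNP.Amalgam2

/-!
The two outcomes of the amalgam argument, inside the group itself.
-/

set_option autoImplicit false
set_option linter.unusedSectionVars false

open Subgroup Matrix
open scoped MatrixGroups Pointwise commutatorElement

namespace H71.BGNP

section transport

variable {X H : Type*} [Group X] [Group H] {f : X →* H} (hf : Function.Injective f)
include hf

theorem Zc_of_map {p : ℕ} {A : Subgroup X} {z : X} (hz : f z ∈ Zc p (A.map f)) : z ∈ Zc p A := by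
  rw [← map_Zc hf] at hz
  exact (mem_map_iff_mem hf).1 hz

theorem le_of_map_sup {A B : Subgroup X} {T : Subgroup H} (hT : T ≤ f.range)
    (h : A.map f ≤ T ⊔ B.map f) : A ≤ T.comap f ⊔ B := by
  rw [← map_le_map_iff_of_injective hf, Subgroup.map_sup, map_comap_eq_self hT]
  exact h

theorem CaseOne.comap {p : ℕ} {P Q : Subgroup X} {T : Subgroup H}
    (h : CaseOne p (P.map f) (Q.map f) T) : CaseOne p P Q (T.comap f) where
  le x hx := (mem_map_iff_mem hf).1 (h.le hx)
  sup := le_of_map_sup hf (h.le.trans (map_le_range _ _)) h.sup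
  comm t ht t' ht' := hf (by rw [map_mul, map_mul]; exact h.comm _ ht _ ht')
  pow t ht := hf (by rw [map_pow, map_one]; exact h.pow _ ht)
  comm_mem u hu t ht := Zc_of_map hf (by
    rw [map_commutatorElement]; exact h.comm_mem _ (mem_map_of_mem f hu) _ ht)

theorem central_of_map {z : X} (hz : f z ∈ centralizer ((f.range : Subgroup H) : Set H)) :
    z ∈ centralizer ((⊤ : Subgroup X) : Set X) := fun y _ => hf (by
  rw [map_mul, map_mul]; exact hz _ ⟨y, rfl⟩)

theorem CaseTwo.comap {p q : ℕ} {P Q V A : Subgroup X} {T U W : Subgroup H}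
    (h : CaseTwo p q f.range (P.map f) (Q.map f) (V.map f) T U W (A.map f)) :
    CaseTwo p q ⊤ P Q V (T.comap f) (U.comap f) (W.comap f) A where
  ne_two := h.ne_two
  le x hx := (mem_map_iff_mem hf).1 (h.le hx)
  sup := le_of_map_sup hf (h.le.trans (map_le_range _ _)) h.sup
  comm t ht t' ht' := hf (by rw [map_mul, map_mul]; exact h.comm _ ht _ ht')
  pow t ht := hf (by rw [map_pow, map_one]; exact h.pow _ ht)
  U_le x hx := (mem_map_iff_mem hf).1 (h.U_le hx)
  U_ge x hx := h.U_ge (mem_map_of_mem f hx)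
  U_norm x _ := le_normalizer_comap f (h.U_norm (⟨x, rfl⟩ : f x ∈ f.range))
  U_pow u hu := hf (by rw [map_pow, map_one]; exact h.U_pow _ hu)
  U_comm x hx u hu := by
    obtain ⟨h1, h2⟩ := h.U_comm _ (mem_map_of_mem f hx) _ hu
    rw [← map_commutatorElement] at h1 h2
    exact ⟨central_of_map hf h1, (mem_map_iff_mem hf).1 h2⟩
  QT x hx t ht := by
    show f ⁅x, t⁆ ∈ U
    rw [map_commutatorElement]; exact h.QT _ (mem_map_of_mem f hx) _ ht
  quad x hx t ht t' ht' := Zc_of_map hf (by
    rw [map_commutatorElement, map_commutatorElement]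
    exact h.quad _ (mem_map_of_mem f hx) _ ht _ ht')
  index C hC hC' := by
    have hle : U ≤ f.range :=
      h.U_le.trans (map_le_range _ _)
    have h1 := h.index (C.map f) (map_le_iff_le_comap.2 hC) (fun u hu hu' => by
      obtain ⟨x, rfl⟩ := hle hu
      refine mem_map_of_mem f (hC' x hu fun t ht => (mem_map_iff_mem hf).1 ?_)
      rw [map_commutatorElement]; exact hu' _ ht)
    rw [card_map_of_injective hf] at h1
    rwa [← card_map_of_injective (f := f) hf, map_comap_eq_self hle]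
  W_ge x hx := h.W_ge (mem_map_of_mem f hx)
  W_le x hx := h.W_le hx
  W_norm x hx := le_normalizer_comap f (h.W_norm (mem_map_of_mem f hx))
  W_not hn := h.W_not (by
    rintro _ ⟨x, rfl⟩
    have h1 := (le_normalizer_map f) (mem_map_of_mem f (hn (mem_top x)))
    rwa [map_comap_eq_self ((h.W_le.trans h.U_le).trans (map_le_range _ _))] at h1)
  theta := by
    obtain ⟨u, hu, _, ⟨s, hs, rfl⟩, _, ⟨s', hs', rfl⟩, hne⟩ := h.theta
    obtain ⟨x, rfl⟩ := (h.U_le.trans (map_le_range _ _)) hu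
    refine ⟨x, hu, s, hs, s', hs', fun hc => hne ?_⟩
    rintro _ ⟨y, rfl⟩
    rw [← map_commutatorElement, ← map_commutatorElement, ← map_mul, ← map_mul, hc y (mem_top y)]

end transport

variable {X : Type*} [Group X] [Finite X] {p : ℕ} [Fact p.Prime] {F : Type} [Field F] [Fintype F]
  {ψ : X →* Matrix.ProjectiveSpecialLinearGroup (Fin 2) F} {S : Sylow p X} (h : Sit p ψ S)
include h

/-- `S` permutes the Sylow subgroups opposite to it transitively. -/
theorem Sit.exists_move {g g' : X} (hg : cj g (S : Subgroup X) ≠ S)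
    (hg' : cj g' (S : Subgroup X) ≠ S) :
    ∃ s ∈ (S : Subgroup X), cj s (cj g (S : Subgroup X)) = cj g' S := by
  obtain ⟨S', hS'⟩ := h.exists_lower
  obtain ⟨r, hr⟩ := h.exists_natHom hS'
  have hker := h.ker_natHom hS' hr
  -- the image of `S`
  have hup : ∀ x ∈ (S : Subgroup X), ∃ t, r x = H37.upper2 t := fun x hx => by
    obtain ⟨t, ht⟩ := (h.upper _).1 (mem_map_of_mem ψ hx)
    exact ⟨t, hr.1 x hx t ht⟩
  have hlift : ∀ t, ∃ x ∈ (S : Subgroup X), r x = H37.upper2 t := fun t => by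
    obtain ⟨x, hx, hxt⟩ := (h.upper (H39.transl t)).2 ⟨t, rfl⟩
    exact ⟨x, hx, hr.1 x hx t hxt⟩
  have htri : ∀ k : X, (r k) 1 0 = 0 → cj k (S : Subgroup X) = S := by
    intro k hk
    refine eq_of_le_of_card_ge ?_ (card_cj _ _).ge
    rintro _ ⟨x, hx, rfl⟩
    obtain ⟨t, ht⟩ := hup x hx
    obtain ⟨y, hy, hyt⟩ := hlift ((r k) 0 0 * (r k) 0 0 * t)
    have e : r (k * x * k⁻¹) = r y := by
      rw [map_mul, map_mul, map_inv, ht, hyt]
      have hd := det_eq (r k)
      rw [hk, mul_zero, sub_zero] at hd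
      apply Subtype.ext; ext i j
      fin_cases i <;> fin_cases j <;>
        simp [H37.coe_upper2, Matrix.SpecialLinearGroup.coe_mul, Matrix.SpecialLinearGroup.coe_inv,
          Matrix.adjugate_fin_two, Matrix.mul_apply, Fin.sum_univ_two, hk] <;>
        first | linear_combination hd | ring
    have h2 : y⁻¹ * (k * x * k⁻¹) ∈ Cfsg.pCore p X := by
      rw [← hker, MonoidHom.mem_ker, map_mul, map_inv, e, inv_mul_cancel]
    have h3 := mul_mem hy (H1.pCore_le_sylow S h2)
    rw [mul_inv_cancel_left] at h3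
    exact h3
  have hc : (r g) 1 0 ≠ 0 := fun e => hg (htri g e)
  have hc' : (r g') 1 0 ≠ 0 := fun e => hg' (htri g' e)
  obtain ⟨s, hs, hst⟩ := hlift ((r g') 0 0 / (r g') 1 0 - (r g) 0 0 / (r g) 1 0)
  refine ⟨s, hs, ?_⟩
  have hk : (r ((s * g)⁻¹ * g')) 1 0 = 0 := by
    rw [map_mul, map_inv, map_mul, hst]
    simp [H37.coe_upper2, Matrix.SpecialLinearGroup.coe_mul, Matrix.SpecialLinearGroup.coe_inv,
      Matrix.adjugate_fin_two, Matrix.mul_apply, Fin.sum_univ_two]
    field_simp
    ring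
  have := congrArg (cj (s * g)) (htri _ hk)
  rw [cj_cj, mul_inv_cancel_left] at this
  rw [cj_cj, this]

theorem Sit.reg_regular : Reg (reg X).range ((S : Subgroup X).map (reg X)) := by
  rintro _ ⟨g, rfl⟩ _ ⟨g', rfl⟩ hop hop'
  obtain ⟨hB, -, hQf⟩ := h.exists_base
  have hinj := reg_injective (X := X)
  have key : ∀ {g : X}, Op (reg X).range ((S : Subgroup X).map (reg X)) (reg X).range
      ((S : Subgroup X).map (reg X)) (cj (reg X g) ((S : Subgroup X).map (reg X))) →
      cj g (S : Subgroup X) ≠ S := by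
    intro g hop e
    obtain ⟨x, hx, hxQ⟩ := h.ctx.exists_notMem
    have h1 := hop.1 _ (mem_map_of_mem (reg X) hx) (by rwa [hQf, mem_map_iff_mem hinj])
    rw [← map_cj, e, sup_eq_right.2 (zpowers_le.2 (mem_map_of_mem (reg X) hx)),
      MonoidHom.range_eq_map] at h1
    have h2 := congrArg (Subgroup.map ψ) (map_injective hinj h1)
    rw [Subgroup.map_top_of_surjective _ h.surj] at h2
    haveI := h.char
    exact H78.PSL2.not_dvd_card_pgroup (F := F) (p := p)
      (((S.2.map ψ).to_le h2.ge).of_equiv Subgroup.topEquiv)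
  obtain ⟨s, hs, e⟩ := h.exists_move (key hop) (key hop')
  refine ⟨reg X s, mem_map_of_mem _ hs, ?_⟩
  rw [← map_cj, ← map_cj, e, map_cj]

/-- The two outcomes of the amalgam argument, in `X`. -/
theorem Sit.exists_case :
    (∃ T : Subgroup X, CaseOne p (S : Subgroup X) (Cfsg.pCore p X) T) ∨
    (∃ (T U W : Subgroup X) (P : Sylow p X), CaseTwo p (Fintype.card F) ⊤ (S : Subgroup X)
      (Cfsg.pCore p X) (normalClosure (Zc p (S : Subgroup X) : Set X)) T U W (P : Subgroup X)) := by
  obtain ⟨hB, hVf, hQf⟩ := h.exists_base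
  have hinj := reg_injective (X := X)
  have hφ : ∀ k : Equiv.Perm X, Function.Injective
      ((MulAut.conj k).toMonoidHom.comp (reg X)) := fun k =>
    (MulAut.conj k).injective.comp hinj
  have hmap : ∀ (k : Equiv.Perm X) (A : Subgroup X),
      A.map ((MulAut.conj k).toMonoidHom.comp (reg X)) = cj k (A.map (reg X)) := fun k A =>
    (map_map A _ _).symm
  rcases BGNP.exists_case hB Fact.out h.reg_regular with
    ⟨K, P, T, ⟨k, rfl, rfl⟩, hT⟩ | ⟨K, P, T, U, W, a, ⟨k, rfl, rfl⟩, ha, hT⟩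
  · rw [← cj_Qf, hQf, ← hmap, ← hmap] at hT
    exact Or.inl ⟨_, hT.comap (hφ k)⟩
  · obtain ⟨l, hl, rfl⟩ := edges_conj hB ⟨k, rfl, rfl⟩ ha
    obtain ⟨_, ⟨g, rfl⟩, rfl⟩ := hl
    have ea : cj ((MulAut.conj k).toMonoidHom (reg X g)) (cj k ((S : Subgroup X).map (reg X))) =
        ((g • S : Sylow p X) : Subgroup X).map ((MulAut.conj k).toMonoidHom.comp (reg X)) := by
      rw [hmap, ← cj_sylow, map_cj, cj_cj, cj_cj]
      congr 1
      simp [MulAut.conj_apply, mul_assoc]
    rw [ea, ← cj_Qf, hQf, ← cj_Vf, hVf, ← hmap, ← hmap, ← hmap,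
      show cj k (reg X).range = ((MulAut.conj k).toMonoidHom.comp (reg X)).range from
        (MonoidHom.range_comp _ _).symm] at hT
    exact Or.inr ⟨_, _, _, _, hT.comap (hφ k)⟩

end H71.BGNP
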