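import Cfsg.Agent.H71.BGNP.Module
import Cfsg.Agent.H71.BGNP.Amalgam

/-!
`X` inside `Equiv.Perm X`, where every automorphism of a Sylow `p`-subgroup is inner; the
amalgam theorem gives a quadratic subgroup of `S`.
-/

set_option autoImplicit false
set_option linter.unusedSectionVars false

open Subgroup
open scoped Pointwise

namespace H71.BGNP

variable {X : Type*} [Group X]

theorem map_Zc {Y : Type*} [Group Y] {p : ℕ} {f : X →* Y} (hf : Function.Injective f)
    (A : Subgroup X) : (Zc p A).map f = Zc p (A.map f) := by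
  ext y
  constructor
  · rintro ⟨x, hx, rfl⟩
    refine ⟨mem_map_of_mem f hx.1, ?_, by rw [← map_pow, hx.2.2, map_one]⟩
    rintro _ ⟨a, ha, rfl⟩
    rw [← map_mul, ← map_mul, hx.2.1 a ha]
  · rintro ⟨⟨x, hx, rfl⟩, hc, h2⟩
    refine ⟨x, ⟨hx, fun a ha => hf ?_, hf ?_⟩, rfl⟩
    · rw [map_mul, map_mul]; exact hc _ (mem_map_of_mem f ha)
    · rw [map_pow, h2, map_one]

theorem map_cj {Y : Type*} [Group Y] (f : X →* Y) (g : X) (A : Subgroup X) :
    (cj g A).map f = cj (f g) (A.map f) := by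
  rw [cj, cj, map_map, map_map]
  congr 1
  ext a
  simp

theorem cj_sylow {p : ℕ} (g : X) (S : Sylow p X) :
    cj g (S : Subgroup X) = ((g • S : Sylow p X) : Subgroup X) := by
  ext a
  rw [mem_cj, Sylow.coe_subgroup_smul, mem_pointwise_smul_iff_inv_smul_mem]
  simp [MulAut.smul_def]

/-- The left regular embedding. -/
def reg (X : Type*) [Group X] : X →* Equiv.Perm X := MulAction.toPermHom X X

theorem reg_apply (a x : X) : reg X a x = a * x := rfl

theorem reg_injective : Function.Injective (reg X) := fun a b h => by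
  simpa [reg_apply] using congrArg (fun σ : Equiv.Perm X => σ 1) h

variable (S : Subgroup X)

/-- A representative of the coset of `x⁻¹`. -/
noncomputable def rep (x : X) : X := (QuotientGroup.mk x⁻¹ : X ⧸ S).out

theorem mul_rep_mem (x : X) : x * rep S x ∈ S := by
  have h : (QuotientGroup.mk (rep S x) : X ⧸ S) = QuotientGroup.mk x⁻¹ :=
    QuotientGroup.out_eq' _
  have h1 := QuotientGroup.eq.1 h.symm
  rwa [inv_inv] at h1

theorem rep_mul {s : X} (hs : s ∈ S) (x : X) : rep S (s * x) = rep S x := by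
  refine congrArg Quotient.out (QuotientGroup.eq.2 ?_)
  simp [mul_assoc, hs]

/-- A permutation of `X` transforming the left action of `S` by the automorphism `φ`. -/
noncomputable def twist (φ : MulAut S) : Equiv.Perm X where
  toFun x := (φ ⟨x * rep S x, mul_rep_mem S x⟩ : S) * (rep S x)⁻¹
  invFun x := (φ.symm ⟨x * rep S x, mul_rep_mem S x⟩ : S) * (rep S x)⁻¹
  left_inv x := by
    have hr : rep S ((φ ⟨x * rep S x, mul_rep_mem S x⟩ : S) * (rep S x)⁻¹) = rep S x := by
      rw [rep_mul S (φ _).2]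
      exact congrArg Quotient.out (by rw [inv_inv]; exact QuotientGroup.out_eq' _)
    simp only [hr, inv_mul_cancel_right, Subtype.coe_eta, MulEquiv.symm_apply_apply,
      mul_inv_cancel_right]
  right_inv x := by
    have hr : rep S ((φ.symm ⟨x * rep S x, mul_rep_mem S x⟩ : S) * (rep S x)⁻¹) = rep S x := by
      rw [rep_mul S (φ.symm _).2]
      exact congrArg Quotient.out (by rw [inv_inv]; exact QuotientGroup.out_eq' _)
    simp only [hr, inv_mul_cancel_right, Subtype.coe_eta, MulEquiv.apply_symm_apply,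
      mul_inv_cancel_right]

theorem twist_conj (φ : MulAut S) (s : S) :
    twist S φ * reg X (s : X) * (twist S φ)⁻¹ = reg X ((φ s : S) : X) := by
  apply mul_inv_eq_of_eq_mul
  ext x
  show ((φ ⟨(s : X) * x * rep S ((s : X) * x), _⟩ : S) : X) * (rep S ((s : X) * x))⁻¹ =
    ((φ s : S) : X) * (((φ ⟨x * rep S x, _⟩ : S) : X) * (rep S x)⁻¹)
  simp only [rep_mul S s.2]
  rw [← mul_assoc, ← Subgroup.coe_mul, ← map_mul]
  congr 3
  exact Subtype.ext (mul_assoc _ _ _)

variable [Finite X] {p : ℕ} [Fact p.Prime] {F : Type} [Field F] [Fintype F]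
  {ψ : X →* Matrix.ProjectiveSpecialLinearGroup (Fin 2) F}

/-- The facts at the base vertex. -/
theorem Sit.exists_base {S : Sylow p X} (hsit : Sit p ψ S) :
    Base p (Fintype.card F) (reg X).range ((S : Subgroup X).map (reg X)) ∧
      Vf p (reg X).range ((S : Subgroup X).map (reg X)) (reg X).range =
        (normalClosure (Zc p (S : Subgroup X) : Set X)).map (reg X) ∧
      Qf (reg X).range ((S : Subgroup X).map (reg X)) (reg X).range =
        (Cfsg.pCore p X).map (reg X) := by
  haveI hQn : (Cfsg.pCore p X).Normal := H1.pCore_normal' p X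
  obtain ⟨hVQ, hVC, hVpow, hVcard, hfix, hcover, hcomm, -⟩ := module_facts hsit
  set Sg := (S : Subgroup X) with hSg
  set V := normalClosure (Zc p Sg : Set X) with hV
  set Q := Cfsg.pCore p X with hQ
  have hinj := reg_injective (X := X)
  set G := (reg X).range with hG
  set S0 := Sg.map (reg X) with hS0
  have hmemG : ∀ g, reg X g ∈ G := fun g => ⟨g, rfl⟩
  have hsyl : ∀ n, cj n G = G → ∃ g ∈ G, cj n S0 = cj g S0 := by
    intro n hn
    set T := (cj n S0).comap (reg X) with hT'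
    have hle : cj n S0 ≤ G := (cj_mono (map_le_range (reg X) Sg)).trans hn.le
    have hmap : T.map (reg X) = cj n S0 := map_comap_eq_self hle
    have hcard : Nat.card T = Nat.card Sg := by
      rw [← card_map_of_injective (f := reg X) hinj, hmap, card_cj,
        card_map_of_injective (f := reg X) hinj]
    have hTS : ∃ P : Sylow p X, (P : Subgroup X) = T :=
      ⟨Sylow.ofCard T (hcard.trans S.card_eq_multiplicity), rfl⟩
    obtain ⟨P, hP⟩ := hTS
    obtain ⟨g, rfl⟩ := MulAction.exists_smul_eq X S P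
    refine ⟨reg X g, hmemG g, ?_⟩
    rw [← hmap, ← hP, ← cj_sylow, map_cj]
  have hedge : ∀ P, Edge G S0 G P → ∃ g : X, P = (cj g Sg).map (reg X) := by
    rintro P ⟨h, hh, rfl⟩
    obtain ⟨_, ⟨g, rfl⟩, hg⟩ := hsyl h hh.symm
    exact ⟨g, by rw [hg, map_cj]⟩
  have hedge' : ∀ g : X, Edge G S0 G ((cj g Sg).map (reg X)) := fun g => by
    rw [map_cj]
    exact edge_conj (hmemG g) edge_base
  have hVf : Vf p G S0 G = V.map (reg X) := by
    refine le_antisymm (iSup₂_le fun P hP => ?_) ?_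
    · obtain ⟨g, rfl⟩ := hedge P hP
      rw [← map_Zc hinj, ← cj_Zc]
      refine map_mono ?_
      rintro _ ⟨z, hz, rfl⟩
      exact normalClosure_normal.conj_mem z (le_normalClosure hz) g
    · rw [map_le_iff_le_comap]
      haveI : ((Vf p G S0 G).comap (reg X)).Normal := ⟨fun a ha g => by
        rw [Subgroup.mem_comap] at ha ⊢
        rw [map_mul, map_mul, map_inv]
        exact (mem_normalizer_iff.1 (le_normalizer_Vf G (hmemG g)) _).1 ha⟩
      refine normalClosure_le_normal fun z hz => ?_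
      rw [SetLike.mem_coe, Subgroup.mem_comap]
      refine Zc_le_Vf (edge_base) ?_
      rw [hS0, ← map_Zc hinj]
      exact mem_map_of_mem _ hz
  have hQf : Qf G S0 G = Q.map (reg X) := by
    refine le_antisymm ?_ (le_iInf₂ fun P hP => ?_)
    · intro y hy
      obtain ⟨x, hx, rfl⟩ := (Qf_le edge_base : _ ≤ S0) hy
      refine mem_map_of_mem _ ?_
      by_contra hxQ
      obtain ⟨P', hP'⟩ := hsit.exists_map_ne S
      obtain ⟨g, rfl⟩ := MulAction.exists_smul_eq X S P'
      obtain ⟨x', hx', hxx⟩ := (Qf_le (hedge' g) : _ ≤ _) hy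
      rw [cj_sylow, hinj hxx] at hx'
      have htop := hsit.sup_eq_top hP' hx hxQ
      rw [sup_eq_right.2 (zpowers_le.2 hx')] at htop
      refine hP' ?_
      have : S = g • S := Sylow.ext ((S.3 (g • S).2 (le_top.trans htop.ge)).symm)
      rw [← this]
    · obtain ⟨g, rfl⟩ := hedge P hP
      exact map_mono (cj_sylow g S ▸ H1.pCore_le_sylow (g • S))
  refine ⟨?_, hVf, hQf⟩
  have hQmem : ∀ {x : X}, x ∉ Q → reg X x ∉ Qf G S0 G := fun {x} hx h => by
    rw [hQf, mem_map_iff_mem hinj] at h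
    exact hx h
  have hOp : ∀ g : X, (Sg.map ψ ≠ ((g • S : Sylow p X) : Subgroup X).map ψ) →
      Op G S0 G S0 (cj (reg X g) S0) := by
    intro g hne
    rw [hS0, ← map_cj, cj_sylow]
    constructor
    · rintro _ ⟨x, hx, rfl⟩ hxQ
      rw [← MonoidHom.map_zpowers, ← Subgroup.map_sup, hsit.sup_eq_top hne hx
        (fun h => hxQ (hQf.symm ▸ mem_map_of_mem _ h)), hG, MonoidHom.range_eq_map]
    · rintro _ ⟨x, hx, rfl⟩ hxQ
      rw [← MonoidHom.map_zpowers, ← Subgroup.map_sup, hsit.sup_eq_top hne.symm hx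
        (fun h => hxQ (hQf.symm ▸ mem_map_of_mem _ h)), hG, MonoidHom.range_eq_map]
  have hcen : ∀ z : X, reg X z ∈ centralizer (G : Set (Equiv.Perm X)) → z ∈ center X := by
    intro z hz
    refine mem_center_iff.2 fun y => hinj ?_
    rw [map_mul, map_mul, hz _ (hmemG y)]
  refine
    { le := map_le_range _ _
      syl := hsyl
      one_lt := Fintype.one_lt_card
      V_le := ?_
      V_cent := ?_
      V_pow := ?_
      card_S := ?_
      fixed := ?_
      card_V := ?_
      comm_mem := ?_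
      cover := ?_
      other := ?_
      trans := ?_
      kernel := ?_ }
  · rw [hVf, hQf]; exact map_mono hVQ
  · rw [hVf, hQf]
    rintro _ ⟨v, hv, rfl⟩ _ ⟨x, hx, rfl⟩
    rw [← map_mul, ← map_mul, hVC hv x hx]
  · rw [hVf]
    rintro _ ⟨v, hv, rfl⟩
    rw [← map_pow, hVpow v hv, map_one]
  · rw [hQf, card_map_of_injective (f := reg X) hinj, card_map_of_injective (f := reg X) hinj]
    exact hsit.card_sylow
  · rw [hVf, hQf]
    rintro _ ⟨x, hx, rfl⟩ hxQ _ ⟨v, hv, rfl⟩ e
    rw [← map_mul, ← map_mul] at e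
    rw [hS0, ← map_Zc hinj]
    exact mem_map_of_mem _ (hfix x hx (fun h => hxQ (mem_map_of_mem _ h)) v hv (hinj e))
  · rw [hVf, hS0, ← map_Zc hinj, card_map_of_injective (f := reg X) hinj,
      card_map_of_injective (f := reg X) hinj]
    exact hVcard
  · rw [hVf, hS0, ← map_Zc hinj]
    rintro _ ⟨v, hv, rfl⟩ _ ⟨x, hx, rfl⟩
    rw [← map_inv, ← map_inv, ← map_mul, ← map_mul, ← map_mul]
    exact mem_map_of_mem _ (hcomm v hv x hx)
  · rw [hVf, hQf, hS0, ← map_Zc hinj]
    rintro _ ⟨v, hv, rfl⟩ hvZ _ ⟨x, hx, rfl⟩ hxQ hc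
    rw [← map_inv, ← map_inv, ← map_mul, ← map_mul, ← map_mul] at hc
    exact hcover v hv (fun h => hvZ (mem_map_of_mem _ h)) x hx
      (fun h => hxQ (mem_map_of_mem _ h)) (hcen _ hc)
  · obtain ⟨P', hP'⟩ := hsit.exists_map_ne S
    obtain ⟨g, rfl⟩ := MulAction.exists_smul_eq X S P'
    exact ⟨reg X g, hmemG g, hOp g hP'⟩
  · rintro _ ⟨g, rfl⟩ hop _ ⟨_, ⟨s, hs, rfl⟩, rfl⟩ htQ
    have ht : g * s * g⁻¹ ∈ ((g • S : Sylow p X) : Subgroup X) := by
      rw [← cj_sylow]; exact conj_mem_cj.2 hs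
    have htQ' : g * s * g⁻¹ ∉ Q := fun h => htQ (by
      rw [hQf]
      exact ⟨_, h, by simp⟩)
    have hne : Sg.map ψ ≠ ((g • S : Sylow p X) : Subgroup X).map ψ := by
      intro e
      obtain ⟨x, hx, hxQ⟩ := hsit.ctx.exists_notMem
      have h1 := hop.1 _ (mem_map_of_mem (reg X) hx) (hQmem hxQ)
      rw [hS0, ← map_cj, cj_sylow, ← MonoidHom.map_zpowers, ← Subgroup.map_sup, hG,
        MonoidHom.range_eq_map] at h1
      have h2 := congrArg (Subgroup.map ψ) (map_injective hinj h1)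
      rw [Subgroup.map_sup, MonoidHom.map_zpowers,
        sup_eq_right.2 (zpowers_le.2 (e ▸ mem_map_of_mem ψ hx)),
        Subgroup.map_top_of_surjective _ hsit.surj] at h2
      haveI := hsit.char
      exact H78.PSL2.not_dvd_card_pgroup (F := F) (p := p)
        (((g • S : Sylow p X).2.map ψ).to_le h2.ge |>.of_equiv Subgroup.topEquiv)
    have := hOp (g * s * g⁻¹) (hsit.map_smul_ne hne ht htQ')
    simpa [MulAut.conj_apply] using this
  · intro D hD hDG hDN
    have hle : D ≤ G := hD.trans (map_le_range _ _)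
    have h0 : D.comap (reg X) = ⊥ := by
      refine hsit.eq_bot_of_char ?_ (fun φ d hd => ?_) ⟨fun a ha g => ?_⟩
      · intro x hx
        exact (mem_map_iff_mem hinj).1 (hD hx)
      · have hn : twist Sg φ ∈ normalizer (S0 : Set (Equiv.Perm X)) := by
          apply mem_normalizer_of_cj_eq
          refine eq_of_le_of_card_ge ?_ (card_cj _ _).ge
          rintro _ ⟨_, ⟨s, hs, rfl⟩, rfl⟩
          show twist Sg φ * reg X s * (twist Sg φ)⁻¹ ∈ S0
          rw [twist_conj Sg φ ⟨s, hs⟩]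
          exact mem_map_of_mem _ (φ _).2
        show reg X _ ∈ D
        rw [← twist_conj Sg φ d]
        exact (mem_normalizer_iff.1 (hDN hn) _).1 hd
      · show reg X (g * a * g⁻¹) ∈ D
        rw [map_mul, map_mul, map_inv]
        exact (mem_normalizer_iff.1 (hDG (hmemG g)) _).1 ha
    rw [← map_comap_eq_self hle, h0, Subgroup.map_bot]

/-- A subgroup covering `S` modulo `O_p` acts quadratically on `O_p` modulo `V`. -/
theorem Sit.exists_quadratic_sylow {S : Sylow p X} (hsit : Sit p ψ S) :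
    ∃ T : Subgroup X, T ≤ (S : Subgroup X) ∧ (S : Subgroup X) ≤ T ⊔ Cfsg.pCore p X ∧
      (∀ u ∈ Cfsg.pCore p X, ∀ t ∈ T, ∀ t' ∈ T,
        u * t * u⁻¹ * t⁻¹ * t' * (u * t * u⁻¹ * t⁻¹)⁻¹ * t'⁻¹ ∈
          normalClosure (Zc p (S : Subgroup X) : Set X)) ∧
      (p = 2 → ∀ u ∈ Cfsg.pCore p X, ∀ t ∈ T,
        u * t * u⁻¹ * t⁻¹ ∈ normalClosure (Zc p (S : Subgroup X) : Set X)) := by
  obtain ⟨hB, hVf, hQf⟩ := hsit.exists_base
  obtain ⟨M, P, T0, ⟨h, rfl, rfl⟩, hT, hPT, hquad, htwo⟩ := exists_quadratic hB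
  have hinj := reg_injective (X := X)
  set T1 := cj h⁻¹ T0 with hT1
  have hT1S : T1 ≤ (S : Subgroup X).map (reg X) := by
    have := cj_mono (h := h⁻¹) hT
    rwa [cj_inv_cj] at this
  have hmap : (T1.comap (reg X)).map (reg X) = T1 :=
    map_comap_eq_self (hT1S.trans (map_le_range _ _))
  have hlift : ∀ {u : X}, u ∈ Cfsg.pCore p X →
      h * reg X u * h⁻¹ ∈ Qf (reg X).range ((S : Subgroup X).map (reg X)) (cj h (reg X).range) := by
    intro u hu
    rw [← cj_Qf, hQf, conj_mem_cj]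
    exact mem_map_of_mem _ hu
  have hT0 : ∀ {t : X}, t ∈ T1.comap (reg X) → h * reg X t * h⁻¹ ∈ T0 := fun {t} ht => by
    have := mem_cj.1 (show reg X t ∈ cj h⁻¹ T0 from ht)
    simpa using this
  have hback : ∀ {w : X},
      h * reg X w * h⁻¹ ∈ Vf p (reg X).range ((S : Subgroup X).map (reg X)) (cj h (reg X).range) →
      w ∈ normalClosure (Zc p (S : Subgroup X) : Set X) := fun {w} hw => by
    rwa [← cj_Vf, hVf, conj_mem_cj, mem_map_iff_mem hinj] at hw
  refine ⟨T1.comap (reg X), fun x hx => (mem_map_iff_mem hinj).1 (hT1S hx), fun x hx => ?_,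
    fun u hu t ht t' ht' => hback ?_, fun hp u hu t ht => hback ?_⟩
  · rw [← mem_map_iff_mem hinj, Subgroup.map_sup, hmap]
    have h1 := cj_mono (h := h⁻¹) hPT
    rw [cj_inv_cj, cj_sup, cj_Qf, cj_inv_cj, hQf] at h1
    exact h1 (mem_map_of_mem _ hx)
  · have h1 := hquad _ (hlift hu) _ (hT0 ht) _ (hT0 ht')
    convert h1 using 1
    simp only [map_mul, map_inv]
    group
  · have h1 := htwo hp _ (hlift hu) _ (hT0 ht)
    convert h1 using 1
    simp only [map_mul, map_inv]
    group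

end H71.BGNP
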