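import Cfsg.Agent.H71.BGNP.Invariant
import Cfsg.Agent.H71.BGNP.Embed
import Cfsg.Agent.H75.Basic
import Cfsg.Prelude.Def_LocalEven

/-!
The noncentral chief factors inside `O_p` are natural modules, all with the same kernel `O_p`.
-/

set_option autoImplicit false
set_option linter.unusedSectionVars false

open Subgroup Matrix
open scoped MatrixGroups Pointwise commutatorElement

namespace H71.BGNP

section act

variable {X : Type*} [Group X] (W : Subgroup X) [W.Normal] (A : Subgroup (X ⧸ W)) [A.Normal]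
  [IsMulCommutative A]

/-- The action of `X` on an abelian normal subgroup of `X / W`, written additively. -/
def secAct : letI : CommGroup A := IsMulCommutative.instCommGroup
    X →* AddMonoid.End (Additive A) :=
  letI : CommGroup A := IsMulCommutative.instCommGroup
  { toFun := fun g => MonoidHom.toAdditive
      (MulAut.conjNormal (H := A) (QuotientGroup.mk' W g)).toMonoidHom
    map_one' := by
      refine DFunLike.ext _ _ fun a => ?_
      show Additive.ofMul (MulAut.conjNormal (H := A) (QuotientGroup.mk' W 1) a.toMul) = a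
      rw [map_one, map_one]
      rfl
    map_mul' := fun g h => by
      refine DFunLike.ext _ _ fun a => ?_
      show Additive.ofMul (MulAut.conjNormal (H := A) (QuotientGroup.mk' W (g * h)) a.toMul) = _
      rw [map_mul, map_mul]
      rfl }

theorem secAct_coe (g : X) (a : Additive A) : letI : CommGroup A := IsMulCommutative.instCommGroup
    ((Additive.toMul (secAct W A g a) : A) : X ⧸ W) =
      QuotientGroup.mk' W g * ((Additive.toMul a : A) : X ⧸ W) * (QuotientGroup.mk' W g)⁻¹ :=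
  rfl

end act

variable {X : Type*} [Group X] [Finite X] {p : ℕ} [Fact p.Prime] {F : Type} [Field F] [Fintype F]
  {ψ : X →* Matrix.ProjectiveSpecialLinearGroup (Fin 2) F} {S : Sylow p X}
  (h : Sit p ψ S)
include h

variable {U W : Subgroup X} [W.Normal]

theorem Sit.chief_comm (hc : Cfsg.IsChiefFactor U W) (hUQ : U ≤ Cfsg.pCore p X) :
    IsMulCommutative (U.map (QuotientGroup.mk' W)) := by
  obtain ⟨hWU, hUn, hWn, hmin⟩ := hc
  set π := QuotientGroup.mk' W with hπ
  set A := U.map π with hA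
  haveI : A.Normal := hUn.map π (QuotientGroup.mk'_surjective W)
  set Z := A ⊓ centralizer (A : Set (X ⧸ W)) with hZ
  haveI : Nontrivial A := by
    rw [Subgroup.nontrivial_iff_ne_bot, Ne, hA, Subgroup.map_eq_bot_iff, QuotientGroup.ker_mk']
    exact fun hle => hWU.not_ge hle
  have hAp : IsPGroup p A := ((H1.isPGroup_pCore p X).to_le hUQ).map π
  have hZne : Z ≠ ⊥ := by
    haveI := hAp.center_nontrivial
    obtain ⟨z, hz⟩ := exists_ne (1 : center A)
    intro hbot
    have hmem : ((z : A) : X ⧸ W) ∈ Z :=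
      ⟨(z : A).2, fun y hy => congrArg Subtype.val (mem_center_iff.1 z.2 ⟨y, hy⟩)⟩
    rw [hbot, mem_bot] at hmem
    exact hz (Subtype.ext (Subtype.ext hmem))
  haveI : Z.Normal := inferInstance
  have hN : Z.comap π = U := by
    have hle : Z.comap π ≤ U := by
      intro x hx
      obtain ⟨u, hu, hux⟩ := (hx : π x ∈ Z).1
      rw [hπ, QuotientGroup.mk'_apply, QuotientGroup.mk'_apply, QuotientGroup.eq] at hux
      have := mul_mem hu (hWU.le hux)
      rwa [mul_inv_cancel_left] at this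
    refine (hmin _ (Normal.comap inferInstance π) ?_ hle).resolve_left fun e => hZne ?_
    · intro w hw
      rw [Subgroup.mem_comap, hπ, QuotientGroup.mk'_apply, (QuotientGroup.eq_one_iff w).2 hw]
      exact one_mem _
    · rw [← Subgroup.map_comap_eq_self_of_surjective (QuotientGroup.mk'_surjective W) Z, ← hπ, e,
        Subgroup.map_eq_bot_iff, QuotientGroup.ker_mk']
  have hAZ : A ≤ Z := by
    rintro _ ⟨u, hu, rfl⟩
    exact hN.ge hu
  exact ⟨⟨fun a b => Subtype.ext ((hAZ b.2).2 a a.2)⟩⟩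

variable {S' : Sylow p X} (hS' : ∀ y, y ∈ (S' : Subgroup X).map ψ ↔ ∃ r, y = lowP r)
include hS'

/-- The natural representation determined by `S` and `S'`. -/
def IsNatHom (ψ : X →* Matrix.ProjectiveSpecialLinearGroup (Fin 2) F) (S S' : Sylow p X)
    (r : X →* SL(2, F)) : Prop :=
  (∀ x ∈ (S : Subgroup X), ∀ t, ψ x = H39.transl t → r x = H37.upper2 t) ∧
    (∀ x ∈ (S' : Subgroup X), ∀ t, ψ x = lowP t → r x = H37.lower2 t) ∧ Function.Surjective r

theorem Sit.sup_lower : (S : Subgroup X) ⊔ (S' : Subgroup X) = ⊤ := by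
  have hne : (S : Subgroup X).map ψ ≠ (S' : Subgroup X).map ψ := by
    intro e
    obtain ⟨a, ha⟩ := (h.upper (lowP 1)).1 (e ▸ (hS' _).2 ⟨1, rfl⟩)
    exact lowP_ne_transl a ha
  obtain ⟨x, hx, hxQ⟩ := h.ctx.exists_notMem
  exact eq_top_iff.2 ((h.sup_eq_top hne hx hxQ).ge.trans (sup_le_sup_right (zpowers_le.2 hx) _))

theorem Sit.natHom_unique {r r' : X →* SL(2, F)} (hr : IsNatHom ψ S S' r)
    (hr' : IsNatHom ψ S S' r') : r = r' := by
  refine MonoidHom.ext fun g => ?_
  have hle : (S : Subgroup X) ⊔ (S' : Subgroup X) ≤ MonoidHom.eqLocus r r' := by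
    refine sup_le (fun x hx => ?_) fun x hx => ?_
    · obtain ⟨t, ht⟩ := (h.upper _).1 (mem_map_of_mem ψ hx)
      exact (hr.1 x hx t ht).trans (hr'.1 x hx t ht).symm
    · obtain ⟨t, ht⟩ := (hS' _).1 (mem_map_of_mem ψ hx)
      exact (hr.2.1 x hx t ht).trans (hr'.2.1 x hx t ht).symm
  exact hle (h.sup_lower hS' ▸ mem_top g)

/-- A noncentral chief factor inside `O_p` is natural. -/
theorem Sit.chief_natural (hc : Cfsg.IsChiefFactor U W) (hUQ : U ≤ Cfsg.pCore p X)
    (hnc : ¬ ⁅U, (⊤ : Subgroup X)⁆ ≤ W) :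
    ∃ r : X →* SL(2, F), IsNatHom ψ S S' r ∧
      ∃ θ : (Fin 2 → F) ≃+ Additive (U.map (QuotientGroup.mk' W)), ∀ g v,
        QuotientGroup.mk' W g *
            ((Additive.toMul (θ v) : U.map (QuotientGroup.mk' W)) : X ⧸ W) *
            (QuotientGroup.mk' W g)⁻¹ =
          ((Additive.toMul (θ (((r g : SL(2, F)) : Matrix (Fin 2) (Fin 2) F).mulVec v)) :
            U.map (QuotientGroup.mk' W)) : X ⧸ W) := by
  classical
  haveI := h.char
  haveI := h.chief_comm hc hUQ
  obtain ⟨hWU, hUn, hWn, hmin⟩ := hc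
  set π := QuotientGroup.mk' W with hπ
  set A := U.map π with hA
  letI : CommGroup A := IsMulCommutative.instCommGroup
  haveI : A.Normal := hUn.map π (QuotientGroup.mk'_surjective W)
  haveI hQn : (Cfsg.pCore p X).Normal := H1.pCore_normal' p X
  set ρ := secAct W A with hρ
  let em : ∀ u ∈ U, Additive A := fun u hu => Additive.ofMul ⟨π u, mem_map_of_mem π hu⟩
  have hem : ∀ a : Additive A, ∃ (u : X) (hu : u ∈ U), em u hu = a := by
    intro a
    obtain ⟨u, hu, e⟩ := (Additive.toMul a).2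
    exact ⟨u, hu, congrArg Additive.ofMul (Subtype.ext e)⟩
  have hem_eq : ∀ {u v : X} (hu : u ∈ U) (hv : v ∈ U), em u hu = em v hv ↔ v⁻¹ * u ∈ W := by
    intro u v hu hv
    constructor
    · intro e
      have e' : π v = π u := congrArg (fun a : Additive A => ((Additive.toMul a : A) : X ⧸ W)) e.symm
      rwa [hπ, QuotientGroup.mk'_apply, QuotientGroup.mk'_apply, QuotientGroup.eq] at e'
    · intro e
      refine congrArg Additive.ofMul (Subtype.ext (Eq.symm ?_))
      show π v = π u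
      rwa [hπ, QuotientGroup.mk'_apply, QuotientGroup.mk'_apply, QuotientGroup.eq]
  have hem_zero : ∀ {u : X} (hu : u ∈ U), em u hu = 0 ↔ u ∈ W := by
    intro u hu
    have h0 : em 1 (one_mem U) = 0 := congrArg Additive.ofMul (Subtype.ext (map_one π))
    rw [← h0, hem_eq hu (one_mem U), inv_one, one_mul]
  have hρem : ∀ (g : X) {u : X} (hu : u ∈ U),
      ρ g (em u hu) = em (g * u * g⁻¹) (hUn.conj_mem u hu g) := fun g u hu => by
    refine congrArg Additive.ofMul (Subtype.ext ?_)
    show π g * π u * (π g)⁻¹ = π (g * u * g⁻¹)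
    rw [map_mul, map_mul, map_inv]
  have hsub : ∀ (g : X) {u : X} (hu : u ∈ U), ρ g (em u hu) - em u hu =
      em (g * u * g⁻¹ * u⁻¹) (mul_mem (hUn.conj_mem u hu g) (inv_mem hu)) := fun g u hu => by
    rw [hρem g hu, sub_eq_add_neg]
    refine congrArg Additive.ofMul (Subtype.ext ?_)
    show π (g * u * g⁻¹) * (π u)⁻¹ = π (g * u * g⁻¹ * u⁻¹)
    rw [← map_inv, ← map_mul]
  -- irreducible, nontrivial, with trivial action of `Q`
  have hirr : ∀ V : AddSubgroup (Additive A), (∀ g : X, ∀ v ∈ V, ρ g v ∈ V) → V = ⊥ ∨ V = ⊤ := by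
    intro V hV
    let N : Subgroup X :=
      { carrier := {u | ∃ hu : u ∈ U, em u hu ∈ V}
        one_mem' := ⟨one_mem U, by rw [(hem_zero (one_mem U)).2 (one_mem W)]; exact V.zero_mem⟩
        mul_mem' := fun {a b} ⟨ha, ha'⟩ ⟨hb, hb'⟩ => ⟨mul_mem ha hb, by
          rw [show em (a * b) (mul_mem ha hb) = em a ha + em b hb from
            congrArg Additive.ofMul (Subtype.ext (map_mul π a b))]
          exact add_mem ha' hb'⟩
        inv_mem' := fun {a} ⟨ha, ha'⟩ => ⟨inv_mem ha, by
          rw [show em a⁻¹ (inv_mem ha) = -em a ha from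
            congrArg Additive.ofMul (Subtype.ext (map_inv π a))]
          exact neg_mem ha'⟩ }
    have hNn : N.Normal := ⟨fun u ⟨hu, hu'⟩ g => ⟨hUn.conj_mem u hu g, by
      rw [← hρem g hu]; exact hV g _ hu'⟩⟩
    have hWN : W ≤ N := fun w hw => ⟨hWU.le hw, by rw [(hem_zero (hWU.le hw)).2 hw]; exact V.zero_mem⟩
    rcases hmin N hNn hWN (fun u hu => hu.1) with hN | hN
    · left
      rw [eq_bot_iff]
      intro a ha
      obtain ⟨u, hu, rfl⟩ := hem a
      rw [AddSubgroup.mem_bot]
      refine (hem_zero hu).2 ?_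
      exact hN.le (show u ∈ N from ⟨hu, ha⟩)
    · right
      rw [eq_top_iff]
      intro a _
      obtain ⟨u, hu, rfl⟩ := hem a
      exact (hN.ge hu).2
  have hnt : ∃ (g : X) (a : Additive A), ρ g a ≠ a := by
    by_contra hcon
    push Not at hcon
    refine hnc ((Subgroup.commutator_le).2 fun u hu g _ => ?_)
    have h1 := hcon g (em u hu)
    rw [← sub_eq_zero, hsub g hu] at h1
    have h2 := inv_mem ((hem_zero (mul_mem (hUn.conj_mem u hu g) (inv_mem hu))).1 h1)
    rw [commutatorElement_def]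
    simpa [mul_assoc] using h2
  have htriv : ∀ k ∈ Cfsg.pCore p X, ρ k = 1 := by
    let C : AddSubgroup (Additive A) :=
      { carrier := {a | ∀ k ∈ Cfsg.pCore p X, ρ k a = a}
        zero_mem' := fun k _ => map_zero _
        add_mem' := fun {a b} ha hb k hk => by rw [map_add, ha k hk, hb k hk]
        neg_mem' := fun {a} ha k hk => by rw [map_neg, ha k hk] }
    have hCinv : ∀ g : X, ∀ a ∈ C, ρ g a ∈ C := fun g a ha k hk => by
      rw [← rho_mul, show k * g = g * (g⁻¹ * k * g) by group, rho_mul,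
        ha _ (by simpa using hQn.conj_mem k hk g⁻¹)]
    rcases hirr C hCinv with hC | hC
    · exfalso
      have hnle : ¬ U.subgroupOf (Cfsg.pCore p X) ≤ W.subgroupOf (Cfsg.pCore p X) := fun hle =>
        hWU.not_ge fun u hu => hle (show (⟨u, hUQ hu⟩ : Cfsg.pCore p X) ∈ U.subgroupOf _ from hu)
      haveI : (U.subgroupOf (Cfsg.pCore p X)).Normal := hUn.comap _
      obtain ⟨w, hw, hwW, hwk⟩ := H78.exists_fixed_mod (H1.isPGroup_pCore p X) ⊤
        (U.subgroupOf (Cfsg.pCore p X)) (W.subgroupOf (Cfsg.pCore p X))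
        (by rw [normalizer_eq_top]) hnle
      refine hwW ((hem_zero (mem_subgroupOf.1 hw)).1 ?_)
      rw [← AddSubgroup.mem_bot, ← hC]
      intro k hk
      rw [← sub_eq_zero, hsub k (mem_subgroupOf.1 hw)]
      refine (hem_zero (mul_mem (hUn.conj_mem _ (mem_subgroupOf.1 hw) k) (inv_mem (mem_subgroupOf.1 hw)))).2 ?_
      have h1 := mem_subgroupOf.1 (hwk ⟨k, hk⟩ (Subgroup.mem_top _))
      simpa [commutatorElement_def] using h1
    · exact fun k hk => DFunLike.ext _ _ fun a => (hC ▸ AddSubgroup.mem_top a : a ∈ C) k hk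
  -- the two quadratic situations
  obtain ⟨hVQ, -, -, hVcard, -, -, hcomm, hZcard⟩ := module_facts h
  set V := normalClosure (Zc p (S : Subgroup X) : Set X) with hV
  haveI hVn : V.Normal := normalClosure_normal
  obtain ⟨T, hTS, hST, hquad, htwo⟩ := h.exists_quadratic_sylow
  have hUcomm : ∀ {u : X}, u ∈ U → ∀ t : X, t * u * t⁻¹ * u⁻¹ ∈ U := fun {u} hu t =>
    mul_mem (hUn.conj_mem u hu t) (inv_mem hu)
  have hST' : ∀ x ∈ (S : Subgroup X), ∃ t ∈ T, ρ x = ρ t := by
    intro x hx
    have := hST hx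
    rw [← SetLike.mem_coe, coe_mul_of_left_le_normalizer_right _ _
      (le_top.trans (normalizer_eq_top (Cfsg.pCore p X)).ge)] at this
    obtain ⟨t, ht, k, hk, rfl⟩ := this
    exact ⟨t, ht, by rw [map_mul, htriv k hk, mul_one]⟩
  have hcaseB : ¬ U ⊓ V ≤ W → ∀ a : Additive A, ∃ v, ∃ hv : v ∈ U, v ∈ V ∧ em v hv = a := by
    intro hne a
    haveI : U.Normal := hUn
    haveI : ((U ⊓ V) ⊔ W).Normal := inferInstance
    have heq : (U ⊓ V) ⊔ W = U := (hmin _ inferInstance le_sup_right
      (sup_le inf_le_left hWU.le)).resolve_left fun e => hne (le_sup_left.trans e.le)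
    obtain ⟨u, hu, rfl⟩ := hem a
    have hu' := heq.ge hu
    rw [← SetLike.mem_coe, coe_mul_of_left_le_normalizer_right _ _
      (le_top.trans (normalizer_eq_top W).ge)] at hu'
    obtain ⟨v, hv, w, hw, rfl⟩ := hu'
    refine ⟨v, hv.1, hv.2, (hem_eq hv.1 hu).2 ?_⟩
    rw [_root_.mul_inv_rev, inv_mul_cancel_right]
    exact inv_mem hw
  have hcaseA : U ⊓ V ≤ W → p ≠ 2 := by
    intro hUV hp
    have hfix : ∀ x ∈ (S : Subgroup X), ρ x = 1 := by
      intro x hx
      obtain ⟨t, ht, e⟩ := hST' x hx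
      rw [e]
      refine DFunLike.ext _ _ fun a => ?_
      obtain ⟨u, hu, rfl⟩ := hem a
      show ρ t (em u hu) = em u hu
      rw [← sub_eq_zero, hsub t hu]
      refine (hem_zero (hUcomm hu t)).2 ?_
      refine hUV ⟨hUcomm hu t, ?_⟩
      have h1 := inv_mem (htwo hp u (hUQ hu) t ht)
      simpa [mul_assoc] using h1
    obtain ⟨P, hne⟩ := h.exists_map_ne S
    obtain ⟨x, hx, hxQ⟩ := h.ctx.exists_notMem
    obtain ⟨g, a, hga⟩ := hnt
    apply hga
    let St : Subgroup X :=
      { carrier := {g | ρ g = 1}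
        one_mem' := map_one ρ
        mul_mem' := fun {a b} ha hb => by
          show ρ (a * b) = 1
          rw [map_mul, ha, hb, one_mul]
        inv_mem' := fun {a} ha => by
          show ρ a⁻¹ = 1
          have := map_mul ρ a⁻¹ a
          rwa [inv_mul_cancel, map_one, (ha : ρ a = 1), mul_one, eq_comm] at this }
    have hPle : (P : Subgroup X) ≤ St := by
      obtain ⟨k, rfl⟩ := MulAction.exists_smul_eq X S P
      intro y hy
      rw [Sylow.coe_subgroup_smul, mem_pointwise_smul_iff_inv_smul_mem] at hy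
      have hy' : k⁻¹ * y * k ∈ (S : Subgroup X) := by
        simpa only [MulAut.smul_def, MulAut.inv_apply, MulAut.conj_symm_apply] using hy
      show ρ y = 1
      rw [show y = k * (k⁻¹ * y * k) * k⁻¹ by group, map_mul, map_mul, hfix _ hy', mul_one,
        ← map_mul, mul_inv_cancel, map_one]
    have : zpowers x ⊔ (P : Subgroup X) ≤ St := sup_le (zpowers_le.2 (hfix x hx)) hPle
    rw [h.sup_eq_top hne hx hxQ] at this
    rw [(this (mem_top g) : ρ g = 1)]
    rfl
  have hquad' : ∀ x ∈ (S : Subgroup X), ∀ y ∈ (S : Subgroup X), ∀ a,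
      ρ y (ρ x a - a) = ρ x a - a := by
    intro x hx y hy a
    rw [← sub_eq_zero]
    by_cases hUV : U ⊓ V ≤ W
    · obtain ⟨u, hu, rfl⟩ := hem a
      obtain ⟨t, ht, e⟩ := hST' x hx
      obtain ⟨t', ht', e'⟩ := hST' y hy
      rw [e, e', hsub t hu, hsub t' (hUcomm hu t)]
      refine (hem_zero (hUcomm (hUcomm hu t) t')).2 ?_
      refine hUV ⟨hUcomm (hUcomm hu t) t', ?_⟩
      have h1 := hVn.conj_mem _ (hquad u (hUQ hu) t ht t' ht') (t * u * t⁻¹ * u⁻¹)
      show t' * (t * u * t⁻¹ * u⁻¹) * t'⁻¹ * (t * u * t⁻¹ * u⁻¹)⁻¹ ∈ V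
      convert h1 using 1
      group
    · obtain ⟨v, hv, hvV, rfl⟩ := hcaseB hUV a
      rw [hsub x hv, hsub y (hUcomm hv x)]
      refine (hem_zero (hUcomm (hUcomm hv x) y)).2 ?_
      have h1 : v * x * v⁻¹ * x⁻¹ ∈ Zc p (S : Subgroup X) := hcomm v hvV x hx
      have h2 : x * v * x⁻¹ * v⁻¹ ∈ Zc p (S : Subgroup X) := by
        simpa [mul_assoc] using inv_mem h1
      rw [h2.2.1 y hy, mul_inv_cancel_right, mul_inv_cancel]
      exact one_mem _
  have hU : QMod p S ρ := ⟨hirr, hnt, htriv, fun x hx y hy a => hquad' y hy x hx a⟩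
  -- the kernel fixes the fixed points
  obtain ⟨n, hn, hF⟩ := h.exists_card
  have hA' : ∀ k ∈ ψ.ker, ∀ a ∈ fix ρ (S : Subgroup X), ρ k a ∈ fix ρ (S : Subgroup X) := by
    rcases Nat.lt_or_ge n 2 with hn1 | hn2
    swap
    · exact hU.ker_fix_of_lt h hn2 hF
    obtain rfl : n = 1 := by omega
    rw [pow_one] at hF
    by_cases hp : p = 2
    swap
    · exact hU.ker_fix_of_odd h hp hF
    refine hU.ker_fix_of_two h (hF.trans hp) ?_
    have hne : ¬ U ⊓ V ≤ W := fun hle => hcaseA hle hp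
    choose v hvU hvV hve using hcaseB hne
    set D := (V ⊓ center X).subgroupOf V with hD
    have hinj : Function.Injective (fun a : Additive A =>
        (QuotientGroup.mk (⟨v a, hvV a⟩ : V) : V ⧸ D)) := by
      intro a b e
      rw [QuotientGroup.eq, hD, mem_subgroupOf] at e
      simp only [Subgroup.coe_mul, Subgroup.coe_inv] at e
      have hzU : (v a)⁻¹ * v b ∈ U := mul_mem (inv_mem (hvU a)) (hvU b)
      have hz0 : em _ hzU = 0 := hU.eq_zero_of_fixed h fun g => by
        rw [hρem g hzU]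
        refine congrArg Additive.ofMul (Subtype.ext ?_)
        show π (g * ((v a)⁻¹ * v b) * g⁻¹) = π ((v a)⁻¹ * v b)
        rw [mem_center_iff.1 e.2 g, mul_inv_cancel_right]
      have h1 := (hem_eq (hvU b) (hvU a)).2 ((hem_zero hzU).1 hz0)
      rw [hve b, hve a] at h1
      exact h1.symm
    refine (Nat.card_le_card_of_injective _ hinj).trans_eq ?_
    have h1 := card_mul_index D
    rw [hD, Nat.card_congr (subgroupOfEquivOfLe (inf_le_left : V ⊓ center X ≤ V)).toEquiv, hVcard,
      hZcard, hF, hp, ← mul_assoc, mul_comm _ (Nat.card ↥(V ⊓ center X))] at h1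
    rw [← index_eq_card]
    exact Nat.eq_of_mul_eq_mul_left Nat.card_pos h1
  obtain ⟨r, hr1, hr2, hr3, θ, hθ⟩ := hU.natural h hA' hS'
  exact ⟨r, ⟨hr1, hr2, hr3⟩, θ, fun g v => congrArg
    (fun a : Additive A => ((Additive.toMul a : A) : X ⧸ W)) (hθ g v)⟩

/-- A natural representation exists. -/
theorem Sit.exists_natHom : ∃ r : X →* SL(2, F), IsNatHom ψ S S' r := by
  classical
  obtain ⟨hVQ, -, -, -, -, hcover, -, -⟩ := module_facts h
  set V := normalClosure (Zc p (S : Subgroup X) : Set X) with hV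
  haveI hVn : V.Normal := normalClosure_normal
  obtain ⟨U, ⟨hUn, hUV, hUc⟩, hUmin⟩ := Set.Finite.exists_minimalFor (fun U : Subgroup X => U)
    {U : Subgroup X | U.Normal ∧ U ≤ V ∧ ¬ U ≤ center X} (Set.toFinite _)
    ⟨V, hVn, le_rfl, fun hle => zc_not_central h (le_normalClosure.trans hle)⟩
  obtain ⟨W, ⟨hWn, hWU⟩, hWmax⟩ := Set.Finite.exists_maximalFor (fun W : Subgroup X => W)
    {W : Subgroup X | W.Normal ∧ W < U} (Set.toFinite _)
    ⟨⊥, inferInstance, bot_lt_iff_ne_bot.2 fun e => hUc (e ▸ bot_le)⟩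
  have hWc : W ≤ center X := by
    by_contra hh
    exact hWU.not_ge (hUmin ⟨hWn, hWU.le.trans hUV, hh⟩ hWU.le)
  have hc : Cfsg.IsChiefFactor U W := ⟨hWU, hUn, hWn, fun N hNn hWN hNU => by
    rcases hNU.eq_or_lt with e | hlt
    · exact Or.inr e
    · exact Or.inl (le_antisymm (hWmax ⟨hNn, hlt⟩ hWN) hWN)⟩
  have hUQ : U ≤ Cfsg.pCore p X := hUV.trans hVQ
  suffices hnc : ¬ ⁅U, (⊤ : Subgroup X)⁆ ≤ W by
    haveI := hWn
    obtain ⟨r, hr, -⟩ := h.chief_natural hS' hc hUQ hnc
    exact ⟨r, hr⟩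
  intro hle
  have hctx := h.ctx
  set Sg := (S : Subgroup X) with hSg
  have hQS : Cfsg.pCore p X ≤ Sg := H1.pCore_le_sylow S
  haveI : (U.subgroupOf Sg).Normal := hUn.comap _
  obtain ⟨z, hzU, hzc, hzS⟩ := H78.exists_fixed_mod S.2 ⊤ (U.subgroupOf Sg)
    ((center X).subgroupOf Sg) (by rw [normalizer_eq_top]) (fun hle' => hUc fun u hu =>
      hle' (show (⟨u, hQS (hUQ hu)⟩ : Sg) ∈ U.subgroupOf Sg from hu))
  have hzU' : (z : X) ∈ U := mem_subgroupOf.1 hzU
  have hzC : (z : X) ∈ Zc p Sg := by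
    by_contra hzZ
    obtain ⟨x, hx, hxQ⟩ := hctx.exists_notMem
    refine hcover _ (hUV hzU') hzZ x hx hxQ ?_
    have h1 := mem_subgroupOf.1 (hzS ⟨x, hx⟩ (Subgroup.mem_top _))
    have h2 := inv_mem h1
    simpa [commutatorElement_def, mul_assoc] using h2
  obtain ⟨g, hg⟩ := hctx.gen
  have hd : g * (z : X) * g⁻¹ ∈ center X := by
    refine hctx.central_mod hg (fun a => hWc (hle ?_)) ?_
    · rw [commutator_comm]
      exact commutator_mem_commutator (Subgroup.mem_top a) (hUn.conj_mem _ hzU' g)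
    · rintro _ ⟨s, hs, rfl⟩
      show g * s * g⁻¹ * (g * z * g⁻¹) = g * z * g⁻¹ * (g * s * g⁻¹)
      calc g * s * g⁻¹ * (g * z * g⁻¹) = g * (s * z) * g⁻¹ := by group
        _ = g * (z * s) * g⁻¹ := by rw [hzC.2.1 s hs]
        _ = _ := by group
  refine hzc (mem_subgroupOf.2 ?_)
  have := (inferInstance : (center X).Normal).conj_mem _ hd g⁻¹
  simpa [mul_assoc] using this

/-- The kernel of the natural representation is `O_p`. -/
theorem Sit.ker_natHom {r : X →* SL(2, F)} (hr : IsNatHom ψ S S' r) :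
    r.ker = Cfsg.pCore p X := by
  classical
  haveI := h.char
  refine le_antisymm ?_ fun k hk => ?_
  · refine H1.le_pCore (H75.isPGroup_of_no_coprime fun x hx hco => ?_)
    have key : ∀ (n : ℕ) (U : Subgroup X), U.Normal → U ≤ Cfsg.pCore p X → Nat.card U ≤ n →
        ∀ u ∈ U, Commute x u := by
      intro n
      induction n with
      | zero => intro U _ _ hcard; exact absurd hcard (not_le.2 Nat.card_pos)
      | succ n ih =>
        intro U hUn hUQ hcard u hu
        by_cases hbot : U = ⊥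
        · rw [hbot, mem_bot] at hu
          rw [hu]
          exact Commute.one_right x
        obtain ⟨W, ⟨hWn, hWU⟩, hWmax⟩ := Set.Finite.exists_maximalFor (fun W : Subgroup X => W)
          {W : Subgroup X | W.Normal ∧ W < U} (Set.toFinite _)
          ⟨⊥, inferInstance, bot_lt_iff_ne_bot.2 hbot⟩
        have hWQ := hWU.le.trans hUQ
        have hWcard : Nat.card W ≤ n := by
          have h1 : Nat.card W ≤ Nat.card U := card_le_of_le hWU.le
          rcases h1.lt_or_eq with h2 | h2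
          · omega
          · exact absurd (eq_of_le_of_card_ge hWU.le h2.ge) hWU.ne
        suffices hmem : ⁅x, u⁆ ∈ W from
          H75.commute_of_coprime_step (H1.isPGroup_pCore p X) hco (hWQ hmem)
            (ih W hWn hWQ hWcard _ hmem)
        by_cases hnc : ⁅U, (⊤ : Subgroup X)⁆ ≤ W
        · refine hnc ?_
          rw [commutator_comm]
          exact commutator_mem_commutator (Subgroup.mem_top x) hu
        haveI := hWn
        have hc : Cfsg.IsChiefFactor U W := ⟨hWU, hUn, hWn, fun N hNn hWN hNU => by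
          rcases hNU.eq_or_lt with e | hlt
          · exact Or.inr e
          · exact Or.inl (le_antisymm (hWmax ⟨hNn, hlt⟩ hWN) hWN)⟩
        obtain ⟨r', hr', θ, hθ⟩ := h.chief_natural hS' hc hUQ hnc
        have hx' : r' x = 1 := by rw [h.natHom_unique hS' hr' hr]; exact hx
        have h1 := hθ x (θ.symm (Additive.ofMul ⟨_, mem_map_of_mem (QuotientGroup.mk' W) hu⟩))
        rw [hx', Matrix.SpecialLinearGroup.coe_one, Matrix.one_mulVec,
          AddEquiv.apply_symm_apply] at h1
        rw [← QuotientGroup.eq_one_iff, ← QuotientGroup.mk'_apply, map_commutatorElement,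
          commutatorElement_def]
        have h2 : QuotientGroup.mk' W x * QuotientGroup.mk' W u * (QuotientGroup.mk' W x)⁻¹ =
            QuotientGroup.mk' W u := h1
        rw [h2, mul_inv_cancel]
    have hxC : x ∈ centralizer (Cfsg.pCore p X : Set X) := fun u hu =>
      (key _ _ (H1.pCore_normal' p X) le_rfl le_rfl u hu).eq.symm
    obtain ⟨m, hm⟩ := H1.isPGroup_pCore p X ⟨x, h.cent hxC⟩
    exact orderOf_eq_one_iff.1 (Nat.eq_one_of_dvd_coprimes (hco.pow_right m) dvd_rfl
      (orderOf_dvd_of_pow_eq_one (congrArg Subtype.val hm)))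
  · rw [MonoidHom.mem_ker, hr.1 k (H1.pCore_le_sylow S hk) 0
      (by rw [H39.transl_zero, ← MonoidHom.mem_ker]; exact h.pCore_le_ker hk), H78.Nat2.up_zero]

end H71.BGNP
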