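import Cfsg.Agent.H71.BGNP.Cases

/-!
Chief series between normal subgroups in the rank one pushing up situation, and `V / (V ∩ Z(X))`.
-/

set_option autoImplicit false
set_option linter.unusedSectionVars false
set_option linter.style.haveILetI false

open Subgroup Matrix
open scoped MatrixGroups Pointwise commutatorElement

namespace H71.BGNP

section generic

variable {X : Type*} [Group X]

theorem iter_mono {A B : Subgroup X} (hAB : A ≤ B) :
    ∀ k, Cfsg.iterCommutator A ⊤ k ≤ Cfsg.iterCommutator B ⊤ k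
  | 0 => hAB
  | k + 1 => commutator_mono (iter_mono hAB k) le_rfl

theorem iter_add (A : Subgroup X) (k : ℕ) :
    ∀ l, Cfsg.iterCommutator (Cfsg.iterCommutator A ⊤ k) ⊤ l = Cfsg.iterCommutator A ⊤ (k + l)
  | 0 => rfl
  | l + 1 => congrArg (fun B : Subgroup X => ⁅B, ⊤⁆) (iter_add A k l)

theorem comm_mem_of {A B : Subgroup X} {M : Subgroup X} (h : ⁅A, B⁆ ≤ M) {a b : X} (ha : a ∈ A)
    (hb : b ∈ B) : ⁅a, b⁆ ∈ M := h (commutator_mem_commutator ha hb)

variable [Finite X]

/-- If all chief factors between `A` and `B` are central, some iterated commutator of `B` lies in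
`A`. -/
theorem exists_iter_le {A : Subgroup X} :
    ∀ (n : ℕ) {B : Subgroup X}, Nat.card B ≤ n → B.Normal → A.Normal → A ≤ B →
      (∀ U W : Subgroup X, Cfsg.IsChiefFactor U W → A ≤ W → U ≤ B → ⁅U, (⊤ : Subgroup X)⁆ ≤ W) →
      ∃ k, Cfsg.iterCommutator B ⊤ k ≤ A := by
  intro n
  induction n with
  | zero => intro B hcard; exact absurd hcard (not_le.2 Nat.card_pos)
  | succ n ih =>
    intro B hcard hBn hAn hAB hc
    by_cases hBA : B ≤ A
    · exact ⟨0, hBA⟩
    obtain ⟨W, ⟨hWn, hAW, hWB⟩, hWmax⟩ := Set.Finite.exists_maximalFor (fun W : Subgroup X => W)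
      {W : Subgroup X | W.Normal ∧ A ≤ W ∧ W < B} (Set.toFinite _)
      ⟨A, hAn, le_rfl, lt_of_le_not_ge hAB hBA⟩
    have hch : Cfsg.IsChiefFactor B W := ⟨hWB, hBn, hWn, fun N hNn hWN hNB => by
      rcases hNB.eq_or_lt with e | hlt
      · exact Or.inr e
      · exact Or.inl (le_antisymm (hWmax ⟨hNn, hAW.trans hWN, hlt⟩ hWN) hWN)⟩
    have hWcard : Nat.card W ≤ n := by
      rcases (card_le_of_le hWB.le).lt_or_eq with h2 | h2
      · omega
      · exact absurd (eq_of_le_of_card_ge hWB.le h2.ge) hWB.ne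
    obtain ⟨k, hk⟩ := ih hWcard hWn hAn hAW fun U M h h1 h2 => hc U M h h1 (h2.trans hWB.le)
    refine ⟨1 + k, ?_⟩
    rw [← iter_add B 1 k]
    exact (iter_mono (show Cfsg.iterCommutator B ⊤ 1 ≤ W from hc B W hch hAW le_rfl) k).trans hk

variable {p : ℕ} [Fact p.Prime]

/-- Elements of order prime to `p` centralise a hypercentral section of a `p`-subgroup. -/
theorem comm_mem_of_iter {A B : Subgroup X} [A.Normal] (hB : IsPGroup p B) (hBn : B.Normal) {x : X}
    (hx : (orderOf x).Coprime p) :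
    ∀ k, Cfsg.iterCommutator B ⊤ k ≤ A → ∀ b ∈ B, ⁅x, b⁆ ∈ A := by
  intro k hk
  set π := QuotientGroup.mk' A with hπ
  have key : ∀ j i, i + j = k → ∀ b ∈ Cfsg.iterCommutator B ⊤ i, Commute (π x) (π b) := by
    intro j
    induction j with
    | zero =>
      intro i hi b hb
      rw [Nat.add_zero] at hi
      subst hi
      rw [hπ, QuotientGroup.mk'_apply, QuotientGroup.mk'_apply,
        (QuotientGroup.eq_one_iff b).2 (hk hb)]
      exact Commute.one_right _
    | succ j ih =>
      intro i hi b hb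
      have hb' : ⁅x, b⁆ ∈ Cfsg.iterCommutator B ⊤ (i + 1) := by
        show ⁅x, b⁆ ∈ ⁅Cfsg.iterCommutator B ⊤ i, (⊤ : Subgroup X)⁆
        rw [commutator_comm]
        exact commutator_mem_commutator (Subgroup.mem_top x) hb
      have hle : ∀ i, Cfsg.iterCommutator B ⊤ i ≤ B := by
        intro i
        induction i with
        | zero => exact le_rfl
        | succ i ihi =>
          exact (commutator_mono ihi le_rfl).trans (by
            haveI := hBn
            exact commutator_le_left B ⊤)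
      refine H75.commute_of_coprime_step (P := B.map π) (hB.map π)
        (Nat.Coprime.coprime_dvd_left (orderOf_map_dvd π x) hx) ?_ ?_
      · rw [← map_commutatorElement]
        exact mem_map_of_mem π (hle _ hb')
      · rw [← map_commutatorElement]
        exact ih (i + 1) (by omega) _ hb'
  intro b hb
  rw [← QuotientGroup.eq_one_iff, ← QuotientGroup.mk'_apply, map_commutatorElement]
  exact commutatorElement_eq_one_iff_commute.2 (key k 0 (by omega) b hb)

end generic

variable {X : Type*} [Group X] [Finite X] {p : ℕ} [Fact p.Prime] {F : Type} [Field F] [Fintype F]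
  {ψ : X →* Matrix.ProjectiveSpecialLinearGroup (Fin 2) F} {S : Sylow p X} (h : Sit p ψ S)

theorem centralizer_top_eq : centralizer ((⊤ : Subgroup X) : Set X) = center X := by
  rw [Subgroup.coe_top, centralizer_univ]

include h

/-- If all chief factors between `A` and `B` are central, a subgroup between them normalized by
a Sylow subgroup is normal. -/
theorem Sit.normal_of_central {A B W : Subgroup X} [A.Normal] (hBn : B.Normal)
    (hBQ : B ≤ Cfsg.pCore p X) (hAW : A ≤ W) (hWB : W ≤ B)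
    (hc : ∀ U M : Subgroup X, Cfsg.IsChiefFactor U M → A ≤ M → U ≤ B → ⁅U, (⊤ : Subgroup X)⁆ ≤ M)
    (P : Sylow p X) (hP : (P : Subgroup X) ≤ normalizer (W : Set X)) : W.Normal := by
  obtain ⟨k, hk⟩ := exists_iter_le _ le_rfl hBn inferInstance (hAW.trans hWB) hc
  have hres : Cfsg.pResidual p X ≤ normalizer (W : Set X) := by
    refine (closure_le _).2 fun x hx => H75.le_normalizer_of_conj ?_ (mem_zpowers x)
    intro y hy a ha
    have hy' : (orderOf y).Coprime p :=
      Nat.Coprime.coprime_dvd_left (orderOf_dvd_of_mem_zpowers hy) hx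
    have h1 := hAW (comm_mem_of_iter ((H1.isPGroup_pCore p X).to_le hBQ) hBn hy' k hk a (hWB ha))
    have h2 := mul_mem h1 ha
    rwa [commutatorElement_def, inv_mul_cancel_right] at h2
  exact normalizer_eq_top_iff.1 (top_le_iff.1
    ((H75.pResidual_sup_sylow P).ge.trans (sup_le hres hP)))

variable {U W : Subgroup X}

/-- A noncentral chief factor inside `O_p` is a natural module. -/
theorem Sit.natural_data {S' : Sylow p X}
    (hS' : ∀ y, y ∈ (S' : Subgroup X).map ψ ↔ ∃ r, y = lowP r) {r : X →* SL(2, F)}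
    (hr : IsNatHom ψ S S' r) [W.Normal] (hc : Cfsg.IsChiefFactor U W) (hUQ : U ≤ Cfsg.pCore p X)
    (hnc : ¬ ⁅U, (⊤ : Subgroup X)⁆ ≤ W) :
    ∃ θ : (Fin 2 → F) ≃+ Additive (U.map (QuotientGroup.mk' W)), ∀ g v,
      QuotientGroup.mk' W g *
          ((Additive.toMul (θ v) : U.map (QuotientGroup.mk' W)) : X ⧸ W) *
          (QuotientGroup.mk' W g)⁻¹ =
        ((Additive.toMul (θ (((r g : SL(2, F)) : Matrix (Fin 2) (Fin 2) F).mulVec v)) :
          U.map (QuotientGroup.mk' W)) : X ⧸ W) := by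
  obtain ⟨r', hr', θ, hθ⟩ := h.chief_natural hS' hc hUQ hnc
  rw [h.natHom_unique hS' hr' hr] at hθ
  exact ⟨θ, hθ⟩

theorem Sit.chief_card [W.Normal] (hc : Cfsg.IsChiefFactor U W) (hUQ : U ≤ Cfsg.pCore p X)
    (hnc : ¬ ⁅U, (⊤ : Subgroup X)⁆ ≤ W) :
    Nat.card U = Fintype.card F * Fintype.card F * Nat.card W := by
  obtain ⟨S', hS'⟩ := h.exists_lower
  obtain ⟨r, hr⟩ := h.exists_natHom hS'
  obtain ⟨θ, -⟩ := h.natural_data hS' hr hc hUQ hnc
  have h1 : Nat.card ↥(U.map (QuotientGroup.mk' W)) = Fintype.card F * Fintype.card F := by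
    rw [← Nat.card_congr (θ.toEquiv.trans Additive.toMul), Nat.card_eq_fintype_card]
    simp [sq]
  rw [← h1]
  have h2 := card_mul_index ((QuotientGroup.mk' W).domRestrict U).ker
  rw [index_ker, MonoidHom.domRestrict_range] at h2
  rw [← h2, mul_comm]
  congr 1
  refine Nat.card_congr (Equiv.trans ?_ (subgroupOfEquivOfLe hc.1.le).toEquiv)
  exact Equiv.setCongr (Set.ext fun x => QuotientGroup.eq_one_iff _)

/-- `O_p` acts trivially on every chief factor inside it. -/
theorem Sit.chief_triv [W.Normal] (hc : Cfsg.IsChiefFactor U W) (hUQ : U ≤ Cfsg.pCore p X) {k u : X}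
    (hk : k ∈ Cfsg.pCore p X) (hu : u ∈ U) : ⁅k, u⁆ ∈ W := by
  by_cases hnc : ⁅U, (⊤ : Subgroup X)⁆ ≤ W
  · exact hnc (by rw [commutator_comm]; exact commutator_mem_commutator (Subgroup.mem_top k) hu)
  obtain ⟨S', hS'⟩ := h.exists_lower
  obtain ⟨r, hr⟩ := h.exists_natHom hS'
  obtain ⟨θ, hθ⟩ := h.natural_data hS' hr hc hUQ hnc
  rw [← h.ker_natHom hS' hr, MonoidHom.mem_ker] at hk
  have h1 := hθ k (θ.symm (Additive.ofMul ⟨_, mem_map_of_mem (QuotientGroup.mk' W) hu⟩))
  rw [hk, Matrix.SpecialLinearGroup.coe_one, Matrix.one_mulVec, AddEquiv.apply_symm_apply] at h1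
  rw [← QuotientGroup.eq_one_iff, ← QuotientGroup.mk'_apply, map_commutatorElement,
    commutatorElement_def]
  exact mul_inv_eq_one.2 h1

/-- The fixed points of `S` in a noncentral chief factor have order `q`. -/
theorem Sit.chief_fixed_card [W.Normal] (hc : Cfsg.IsChiefFactor U W) (hUQ : U ≤ Cfsg.pCore p X)
    (hnc : ¬ ⁅U, (⊤ : Subgroup X)⁆ ≤ W) {C : Subgroup X} (hCU : C ≤ U)
    (hfix : ∀ s ∈ (S : Subgroup X), ∀ u ∈ C, ⁅s, u⁆ ∈ W) :
    Nat.card C ≤ Fintype.card F * Nat.card ↥(C ⊓ W) := by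
  obtain ⟨S', hS'⟩ := h.exists_lower
  obtain ⟨r, hr⟩ := h.exists_natHom hS'
  set π := QuotientGroup.mk' W with hπ
  obtain ⟨θ, hθ⟩ : ∃ θ : (Fin 2 → F) ≃+ Additive (U.map π), ∀ g v,
      π g * ((Additive.toMul (θ v) : U.map π) : X ⧸ W) * (π g)⁻¹ =
        ((Additive.toMul (θ (((r g : SL(2, F)) : Matrix (Fin 2) (Fin 2) F).mulVec v)) :
          U.map π) : X ⧸ W) := h.natural_data hS' hr hc hUQ hnc
  obtain ⟨s, hs, hst⟩ := (h.upper (H39.transl (1 : F))).2 ⟨1, rfl⟩
  have hrs := hr.1 s hs 1 hst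
  let coord : C.map π → F := fun a =>
    θ.symm (Additive.ofMul ⟨(a : X ⧸ W), map_mono hCU a.2⟩) 0
  have hzero : ∀ a : C.map π, θ.symm (Additive.ofMul ⟨(a : X ⧸ W), map_mono hCU a.2⟩) 1 = 0 := by
    rintro ⟨_, u, hu, rfl⟩
    set v := θ.symm (Additive.ofMul ⟨π u, map_mono hCU (mem_map_of_mem π hu)⟩) with hv
    have h1 := hθ s v
    rw [hrs, hv, AddEquiv.apply_symm_apply, ← hv] at h1
    have h2 : π s * π u * (π s)⁻¹ = π u := by
      rw [← mul_inv_eq_one, ← commutatorElement_def, ← map_commutatorElement, hπ,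
        QuotientGroup.mk'_apply, QuotientGroup.eq_one_iff]
      exact hfix s hs u hu
    have h3 : θ (((H37.upper2 (1 : F) : SL(2, F)) : Matrix (Fin 2) (Fin 2) F).mulVec v) = θ v := by
      refine Additive.toMul.injective (Subtype.ext ?_)
      rw [hv, AddEquiv.apply_symm_apply]
      exact h1.symm.trans h2
    have h4 := congrFun (θ.injective h3) 0
    simp [H37.coe_upper2, Matrix.mulVec, dotProduct, Fin.sum_univ_two] at h4
    exact h4
  have hinj : Function.Injective coord := by
    intro a b e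
    have h1 : θ.symm (Additive.ofMul ⟨(a : X ⧸ W), map_mono hCU a.2⟩) =
        θ.symm (Additive.ofMul ⟨(b : X ⧸ W), map_mono hCU b.2⟩) := by
      ext i; fin_cases i
      · exact e
      · exact (hzero a).trans (hzero b).symm
    have h2 := θ.symm.injective h1
    exact Subtype.ext (congrArg (fun x : Additive (U.map π) =>
      ((Additive.toMul x : U.map π) : X ⧸ W)) h2)
  have h2 := card_mul_index (π.domRestrict C).ker
  rw [index_ker, MonoidHom.domRestrict_range] at h2
  have h3 : Nat.card (π.domRestrict C).ker = Nat.card ↥(C ⊓ W) := by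
    refine Nat.card_congr (Equiv.trans ?_ (subgroupOfEquivOfLe (inf_le_left : C ⊓ W ≤ C)).toEquiv)
    refine Equiv.setCongr (Set.ext fun x => ?_)
    show π (x : X) = 1 ↔ (x : X) ∈ C ⊓ W
    rw [hπ, QuotientGroup.mk'_apply, QuotientGroup.eq_one_iff, Subgroup.mem_inf]
    exact ⟨fun hx => ⟨x.2, hx⟩, fun hx => hx.2⟩
  rw [← h2, h3, mul_comm]
  refine Nat.mul_le_mul_right _ ?_
  rw [← Nat.card_eq_fintype_card (α := F)]
  exact Nat.card_le_card_of_injective coord hinj

/-- A chief factor with all of `U` fixed by `S` is central. -/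
theorem Sit.central_of_fixed_cover (hc : Cfsg.IsChiefFactor U W) (hUQ : U ≤ Cfsg.pCore p X)
    {T : Subgroup X} (hsup : (S : Subgroup X) ≤ T ⊔ Cfsg.pCore p X)
    (hfix : ∀ t ∈ T, ∀ u ∈ U, ⁅t, u⁆ ∈ W) : ⁅U, (⊤ : Subgroup X)⁆ ≤ W := by
  by_contra hnc
  haveI := hc.2.2.1
  haveI := H1.pCore_normal' p X
  have h1 := h.chief_fixed_card hc hUQ hnc le_rfl fun s hs u hu => by
    obtain ⟨t, ht, k, hk, rfl⟩ := exists_mul_of_mem_sup
      (le_top.trans (normalizer_eq_top (Cfsg.pCore p X)).ge) (hsup hs)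
    rw [comm_mul_left]
    exact mul_mem (Normal.conj_mem inferInstance _ (h.chief_triv hc hUQ hk hu) t) (hfix t ht u hu)
  rw [h.chief_card hc hUQ hnc, inf_eq_right.2 hc.1.le, mul_assoc] at h1
  have h2 := Nat.le_of_mul_le_mul_left h1 Fintype.card_pos
  have h3 := Fintype.one_lt_card (α := F)
  have h4 : 0 < Nat.card W := Nat.card_pos
  exact absurd h2 (not_le.2 (lt_mul_of_one_lt_left h4 h3))

/-- `V / (V ∩ Z(X))` is a noncentral chief factor. -/
theorem Sit.chief_V :
    Cfsg.IsChiefFactor (normalClosure (Zc p (S : Subgroup X) : Set X))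
      (normalClosure (Zc p (S : Subgroup X) : Set X) ⊓ center X) ∧
    ¬ ⁅normalClosure (Zc p (S : Subgroup X) : Set X), (⊤ : Subgroup X)⁆ ≤
      normalClosure (Zc p (S : Subgroup X) : Set X) ⊓ center X := by
  obtain ⟨hVQ, -, -, hVcard, -, hcover, hcomm, hCcard⟩ := module_facts h
  set V := normalClosure (Zc p (S : Subgroup X) : Set X) with hV
  haveI hVn : V.Normal := normalClosure_normal
  set C := V ⊓ center X with hC
  haveI hCn : C.Normal := inferInstance
  have hnotV : ¬ V ≤ center X := fun hle => zc_not_central h (le_normalClosure.trans hle)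
  -- a minimal noncentral normal subgroup inside `V`
  obtain ⟨U, ⟨hUn, hUV, hUc⟩, hUmin⟩ := Set.Finite.exists_minimalFor (fun U : Subgroup X => U)
    {U : Subgroup X | U.Normal ∧ U ≤ V ∧ ¬ U ≤ center X} (Set.toFinite _)
    ⟨V, hVn, le_rfl, hnotV⟩
  obtain ⟨W, ⟨hWn, hWU⟩, hWmax⟩ := Set.Finite.exists_maximalFor (fun W : Subgroup X => W)
    {W : Subgroup X | W.Normal ∧ W < U} (Set.toFinite _)
    ⟨⊥, inferInstance, bot_lt_iff_ne_bot.2 fun e => hUc (e ▸ bot_le)⟩
  have hWc : W ≤ center X := by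
    by_contra hh
    exact hWU.not_ge (hUmin ⟨hWn, hWU.le.trans hUV, hh⟩ hWU.le)
  have hch : Cfsg.IsChiefFactor U W := ⟨hWU, hUn, hWn, fun N hNn hWN hNU => by
    rcases hNU.eq_or_lt with e | hlt
    · exact Or.inr e
    · exact Or.inl (le_antisymm (hWmax ⟨hNn, hlt⟩ hWN) hWN)⟩
  have hUC : U ⊓ C = W := by
    refine (hch.2.2.2 (U ⊓ C) (by haveI := hUn; infer_instance)
      (le_inf hWU.le (le_inf (hWU.le.trans hUV) hWc)) inf_le_left).resolve_right fun e => hUc ?_
    exact e.ge.trans (inf_le_right.trans inf_le_right)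
  have hnc : ¬ ⁅U, (⊤ : Subgroup X)⁆ ≤ W := by
    intro hle
    -- otherwise a fixed element of `U` outside the centre would have central commutators
    have hS : ¬ U ≤ center X := hUc
    haveI := hUn
    have hUQ := hUV.trans hVQ
    obtain ⟨x, hx, hxQ⟩ := h.ctx.exists_notMem
    have hUZ : U ≤ Zc p (S : Subgroup X) := by
      intro u hu
      by_contra hu'
      exact hcover u (hUV hu) hu' x hx hxQ
        (hWc (hle (commutator_mem_commutator hu (Subgroup.mem_top x))))
    obtain ⟨g, hg⟩ := h.ctx.gen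
    refine hUc fun u hu => h.ctx.central_of_fixed hg hx hxQ ?_ ?_
    · exact mem_centralizer_singleton_iff.2 ((hUZ hu).2.1 x hx).symm
    · rintro _ ⟨s, hs, rfl⟩
      have h1 := (hUZ (hUn.conj_mem u hu g⁻¹)).2.1 s hs
      show g * s * g⁻¹ * u = u * (g * s * g⁻¹)
      calc g * s * g⁻¹ * u = g * (s * (g⁻¹ * u * g⁻¹⁻¹)) * g⁻¹ := by group
        _ = g * ((g⁻¹ * u * g⁻¹⁻¹) * s) * g⁻¹ := by rw [h1]
        _ = _ := by group
  have hcardU := h.chief_card hch (hUV.trans hVQ) hnc
  have hsup : U ⊔ C = V := by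
    refine eq_of_le_of_card_ge (sup_le hUV inf_le_left) ?_
    have h1 := H78.card_mul_le_sup_inf U C
    rw [hUC, hcardU] at h1
    refine Nat.le_of_mul_le_mul_right (c := Nat.card W) ?_ Nat.card_pos
    calc Nat.card V * Nat.card W
        = Fintype.card F * Fintype.card F * Nat.card W * Nat.card C := by
          rw [hVcard, hCcard]; ring
      _ ≤ _ := h1
  refine ⟨⟨lt_of_le_not_ge inf_le_left fun hle => hnotV (hle.trans inf_le_right), hVn, hCn,
    fun N hNn hCN hNV => ?_⟩, fun hle => hnc ?_⟩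
  · rcases hch.2.2.2 (U ⊓ N) (by haveI := hUn; haveI := hNn; infer_instance)
        (le_inf hWU.le ((hUC.ge.trans inf_le_right).trans hCN)) inf_le_left with e | e
    · left
      refine le_antisymm (fun x hx => ?_) hCN
      obtain ⟨u, hu, c, hc, rfl⟩ := exists_mul_of_mem_sup
        (le_top.trans (normalizer_eq_top C).ge) (hsup.ge (hNV hx))
      have hu' : u ∈ U ⊓ N := ⟨hu, by simpa using mul_mem hx (inv_mem (hCN hc))⟩
      exact mul_mem ((hUC.ge.trans inf_le_right) (e.le hu')) hc
    · right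
      exact le_antisymm hNV (hsup.ge.trans (sup_le (e.ge.trans inf_le_right) hCN))
  · haveI := hUn
    refine le_trans (le_inf (commutator_le_left U ⊤) ?_) hUC.le
    exact (commutator_mono hUV le_rfl).trans hle

/-- A characteristic subgroup of `S` which is normal in `X` is trivial. -/
theorem Sit.map_char_eq_bot {C : Subgroup ↥(S : Subgroup X)} (hC : C.Characteristic)
    (hn : (C.map (S : Subgroup X).subtype).Normal) : C.map (S : Subgroup X).subtype = ⊥ := by
  by_contra hne
  exact h.nochar C hC (fun e => hne (by rw [e, Subgroup.map_bot])) hn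

/-- A term of the lower central series of `S` inside that of `O_p` is trivial. -/
theorem Sit.lcs_eq_bot {n : ℕ}
    (hle : (S : Subgroup X).lowerCentralSeries n ≤ (Cfsg.pCore p X).lowerCentralSeries n) :
    (S : Subgroup X).lowerCentralSeries n = ⊥ := by
  have hmono : ∀ m, (Cfsg.pCore p X).lowerCentralSeries m ≤ (S : Subgroup X).lowerCentralSeries m := by
    intro m
    induction m with
    | zero => exact H1.pCore_le_sylow S
    | succ m ih => exact commutator_mono ih (H1.pCore_le_sylow S)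
  have hnorm : ∀ m, ((Cfsg.pCore p X).lowerCentralSeries m).Normal := by
    intro m
    induction m with
    | zero => exact H1.pCore_normal' p X
    | succ m ih =>
      haveI := ih; haveI := H1.pCore_normal' p X
      exact commutator_normal _ _
  rw [← top_subtype_lowerCentralSeries (S : Subgroup X) n]
  refine h.map_char_eq_bot inferInstance ?_
  rw [top_subtype_lowerCentralSeries, le_antisymm hle (hmono n)]
  exact hnorm n

/-- If `n`-th powers of elements of `S` are `n`-th powers of elements of `O_p` they are trivial. -/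
theorem Sit.pow_eq_one {n : ℕ}
    (hpow : ∀ x ∈ (S : Subgroup X), ∃ k ∈ Cfsg.pCore p X, x ^ n = k ^ n) :
    ∀ x ∈ (S : Subgroup X), x ^ n = 1 := by
  set C := closure (Set.range fun x : ↥(S : Subgroup X) => x ^ n) with hC
  have hchar : C.Characteristic := by
    rw [characteristic_iff_map_le]
    intro φ
    rw [hC, MonoidHom.map_closure]
    refine closure_mono ?_
    rintro _ ⟨_, ⟨x, rfl⟩, rfl⟩
    exact ⟨φ x, (map_pow φ x n).symm⟩
  have hnorm : (C.map (S : Subgroup X).subtype).Normal := by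
    haveI hQn := H1.pCore_normal' p X
    refine H78.PU.normal_of_conj_le fun g => ?_
    rw [hC, MonoidHom.map_closure, MonoidHom.map_closure, closure_le]
    rintro _ ⟨_, ⟨_, ⟨x, rfl⟩, rfl⟩, rfl⟩
    obtain ⟨k, hk, e⟩ := hpow x x.2
    refine subset_closure ⟨_, ⟨⟨g * k * g⁻¹, H1.pCore_le_sylow S (hQn.conj_mem k hk g)⟩, rfl⟩, ?_⟩
    show ((g * k * g⁻¹ : X)) ^ n = g * ((x : X) ^ n) * g⁻¹
    rw [e, conj_pow]
  have h0 := h.map_char_eq_bot hchar hnorm
  intro x hx
  rw [← mem_bot, ← h0]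
  exact ⟨_, subset_closure ⟨⟨x, hx⟩, rfl⟩, rfl⟩

end H71.BGNP
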