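import Cfsg.Agent.H71.BGNP.Graph

/-!
The local facts at a vertex, transported from the base vertex.
-/

set_option autoImplicit false
set_option linter.unusedSectionVars false

open Subgroup

namespace H71.BGNP

variable {H : Type*} [Group H]

/-- `P` and `P'` are opposite edges of `K`. -/
def Op (G S K P P' : Subgroup H) : Prop :=
  (∀ x ∈ P, x ∉ Qf G S K → zpowers x ⊔ P' = K) ∧ ∀ x ∈ P', x ∉ Qf G S K → zpowers x ⊔ P = K

theorem Op.symm {G S K P P' : Subgroup H} (h : Op G S K P P') : Op G S K P' P := ⟨h.2, h.1⟩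

theorem Op.cj {G S K P P' : Subgroup H} (g : H) (h : Op G S K P P') :
    Op G S (cj g K) (cj g P) (cj g P') := by
  have key : ∀ {A B : Subgroup H}, (∀ x ∈ A, x ∉ Qf G S K → zpowers x ⊔ B = K) →
      ∀ x ∈ BGNP.cj g A, x ∉ Qf G S (BGNP.cj g K) → zpowers x ⊔ BGNP.cj g B = BGNP.cj g K := by
    intro A B hAB
    rintro _ ⟨x, hx, rfl⟩ hxQ
    rw [← hAB x hx fun hh => hxQ (by rw [← cj_Qf]; exact mem_map_of_mem _ hh), cj_sup, cj_zpowers]
    rfl
  exact ⟨key h.1, key h.2⟩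

/-- What is known about the base vertex. -/
structure Base (p q : ℕ) (G S : Subgroup H) : Prop where
  le : S ≤ G
  syl : ∀ n : H, cj n G = G → ∃ g ∈ G, cj n S = cj g S
  one_lt : 1 < q
  V_le : Vf p G S G ≤ Qf G S G
  V_cent : Vf p G S G ≤ centralizer (Qf G S G : Set H)
  V_pow : ∀ v ∈ Vf p G S G, v ^ p = 1
  card_S : Nat.card S = q * Nat.card (Qf G S G)
  fixed : ∀ x ∈ S, x ∉ Qf G S G → ∀ v ∈ Vf p G S G, v * x = x * v → v ∈ Zc p S
  card_V : Nat.card (Vf p G S G) = q * Nat.card (Zc p S)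
  comm_mem : ∀ v ∈ Vf p G S G, ∀ x ∈ S, v * x * v⁻¹ * x⁻¹ ∈ Zc p S
  cover : ∀ v ∈ Vf p G S G, v ∉ Zc p S → ∀ x ∈ S, x ∉ Qf G S G →
    v * x * v⁻¹ * x⁻¹ ∉ centralizer (G : Set H)
  other : ∃ g ∈ G, Op G S G S (cj g S)
  trans : ∀ g ∈ G, Op G S G S (cj g S) → ∀ t ∈ cj g S, t ∉ Qf G S G → Op G S G S (cj t S)
  kernel : ∀ D ≤ S, G ≤ normalizer (D : Set H) →
    normalizer (S : Set H) ≤ normalizer (D : Set H) → D = ⊥

variable {p q : ℕ} {G S : Subgroup H} (hB : Base p q G S)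
variable {K M P P' : Subgroup H}

include hB

omit hB in
theorem edge_base : Edge G S G S := ⟨1, (cj_one G).symm, (cj_one S).symm⟩

theorem edge_le (hE : Edge G S K P) : P ≤ K := by
  obtain ⟨h, rfl, rfl⟩ := hE
  exact cj_mono hB.le

theorem edges_conj (hE : Edge G S K P) (hE' : Edge G S K P') : ∃ k ∈ K, P' = cj k P := by
  obtain ⟨h, rfl, rfl⟩ := hE
  obtain ⟨h', e, rfl⟩ := hE'
  obtain ⟨g, hg, hg'⟩ := hB.syl (h⁻¹ * h') (by rw [← cj_cj, ← e, cj_inv_cj])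
  refine ⟨h * g * h⁻¹, conj_mem_cj.2 hg, ?_⟩
  rw [cj_cj, inv_mul_cancel_right, ← cj_cj h g, ← hg', cj_cj, mul_inv_cancel_left]

omit hB in
theorem edge_conj {k : H} (hk : k ∈ K) (hE : Edge G S K P) : Edge G S K (cj k P) := by
  have := edge_cj k hE
  rwa [cj_eq_self hk] at this

theorem V_le (hE : Edge G S K P) : Vf p G S K ≤ Qf G S K := by
  obtain ⟨h, rfl, rfl⟩ := hE
  rw [← cj_Vf, ← cj_Qf]
  exact cj_mono hB.V_le

theorem V_cent (hE : Edge G S K P) : Vf p G S K ≤ centralizer (Qf G S K : Set H) := by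
  obtain ⟨h, rfl, rfl⟩ := hE
  rw [← cj_Vf, ← cj_Qf, ← cj_centralizer]
  exact cj_mono hB.V_cent

theorem V_pow (hE : Edge G S K P) {v : H} (hv : v ∈ Vf p G S K) : v ^ p = 1 := by
  obtain ⟨h, rfl, rfl⟩ := hE
  rw [← cj_Vf] at hv
  obtain ⟨v, hv, rfl⟩ := hv
  rw [← map_pow, hB.V_pow v hv, map_one]

theorem V_le_edge (hE : Edge G S K P) : Vf p G S K ≤ P := (V_le hB hE).trans (Qf_le hE)

theorem V_inf_cent (hE : Edge G S K P) {v : H} (hv : v ∈ Vf p G S K)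
    (hc : v ∈ centralizer (P : Set H)) : v ∈ Zc p P :=
  ⟨V_le_edge hB hE hv, hc, V_pow hB hE hv⟩

theorem card_P (hE : Edge G S K P) : Nat.card P = q * Nat.card (Qf G S K) := by
  obtain ⟨h, rfl, rfl⟩ := hE
  rw [← cj_Qf, card_cj, card_cj]
  exact hB.card_S

theorem card_V (hE : Edge G S K P) : Nat.card (Vf p G S K) = q * Nat.card (Zc p P) := by
  obtain ⟨h, rfl, rfl⟩ := hE
  rw [← cj_Vf, ← cj_Zc, card_cj, card_cj]
  exact hB.card_V

theorem fixed (hE : Edge G S K P) {x : H} (hx : x ∈ P) (hxQ : x ∉ Qf G S K) {v : H}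
    (hv : v ∈ Vf p G S K) (hc : v * x = x * v) : v ∈ Zc p P := by
  obtain ⟨h, rfl, rfl⟩ := hE
  rw [← cj_Vf] at hv
  rw [← cj_Qf] at hxQ
  rw [← cj_Zc]
  obtain ⟨v, hv, rfl⟩ := hv
  obtain ⟨x, hx, rfl⟩ := hx
  refine mem_map_of_mem _ (hB.fixed x hx (fun hh => hxQ (mem_map_of_mem _ hh)) v hv ?_)
  rw [← map_mul, ← map_mul] at hc
  exact (MulAut.conj h).injective hc

theorem comm_mem (hE : Edge G S K P) {v x : H} (hv : v ∈ Vf p G S K) (hx : x ∈ P) :
    v * x * v⁻¹ * x⁻¹ ∈ Zc p P := by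
  obtain ⟨h, rfl, rfl⟩ := hE
  rw [← cj_Vf] at hv
  rw [← cj_Zc]
  obtain ⟨v, hv, rfl⟩ := hv
  obtain ⟨x, hx, rfl⟩ := hx
  rw [← map_inv, ← map_inv, ← map_mul, ← map_mul, ← map_mul]
  exact mem_map_of_mem _ (hB.comm_mem v hv x hx)

theorem cover (hE : Edge G S K P) {v x : H} (hv : v ∈ Vf p G S K) (hvZ : v ∉ Zc p P) (hx : x ∈ P)
    (hxQ : x ∉ Qf G S K) : v * x * v⁻¹ * x⁻¹ ∉ centralizer (K : Set H) := by
  obtain ⟨h, rfl, rfl⟩ := hE
  rw [← cj_Vf] at hv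
  rw [← cj_Qf] at hxQ
  rw [← cj_Zc] at hvZ
  rw [← cj_centralizer]
  obtain ⟨v, hv, rfl⟩ := hv
  obtain ⟨x, hx, rfl⟩ := hx
  rw [← map_inv, ← map_inv, ← map_mul, ← map_mul, ← map_mul]
  intro hh
  exact hB.cover v hv (fun h' => hvZ (mem_map_of_mem _ h')) x hx
    (fun h' => hxQ (mem_map_of_mem _ h'))
    ((mem_map_iff_mem (f := (MulAut.conj h).toMonoidHom) (MulAut.conj h).injective).1 hh)

theorem other (hE : Edge G S K P) : ∃ P', Edge G S K P' ∧ Op G S K P P' := by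
  obtain ⟨h, rfl, rfl⟩ := hE
  obtain ⟨g, hg, hgS⟩ := hB.other
  exact ⟨cj h (cj g S), edge_cj h (edge_conj hg edge_base), hgS.cj h⟩

theorem trans (hE : Edge G S K P) (hE' : Edge G S K P') (hop : Op G S K P P') {t : H}
    (ht : t ∈ P') (htQ : t ∉ Qf G S K) : Op G S K P (cj t P) := by
  obtain ⟨k, hk, rfl⟩ := edges_conj hB hE hE'
  obtain ⟨h, rfl, rfl⟩ := hE
  obtain ⟨g, hg, rfl⟩ := hk
  have e : cj ((MulAut.conj h).toMonoidHom g) (cj h S) = cj h (cj g S) := by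
    rw [cj_cj, cj_cj]
    congr 1
    simp [MulAut.conj_apply, mul_assoc]
  rw [e] at hop ht
  obtain ⟨t, ht, rfl⟩ := ht
  rw [← cj_Qf] at htQ
  have hop' : Op G S G S (cj g S) := by
    have := hop.cj h⁻¹
    rwa [cj_inv_cj, cj_inv_cj, cj_inv_cj] at this
  have := (hB.trans g hg hop' t ht (fun hh => htQ (mem_map_of_mem _ hh))).cj h
  rw [cj_cj h t] at this
  convert this using 1
  rw [cj_cj]
  congr 1
  simp [MulAut.conj_apply, mul_assoc]

theorem kernel (hE : Edge G S K P) {D : Subgroup H} (hD : D ≤ P)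
    (hK : K ≤ normalizer (D : Set H)) (hN : normalizer (P : Set H) ≤ normalizer (D : Set H)) :
    D = ⊥ := by
  obtain ⟨h, rfl, rfl⟩ := hE
  have h0 : cj h⁻¹ D = ⊥ := by
    refine hB.kernel _ ?_ ?_ ?_
    · have := cj_mono (h := h⁻¹) hD
      rwa [cj_inv_cj] at this
    · have := le_normalizer_cj (h := h⁻¹) hK
      rwa [cj_inv_cj] at this
    · intro n hn
      apply mem_normalizer_of_cj_eq
      have hn' : h * n * h⁻¹ ∈ normalizer ((cj h S : Subgroup H) : Set H) := by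
        apply mem_normalizer_of_cj_eq
        rw [cj_cj, inv_mul_cancel_right, ← cj_cj, cj_eq_self_of_mem_normalizer hn]
      have h1 := congrArg (cj h⁻¹) (cj_eq_self_of_mem_normalizer (hN hn'))
      rw [cj_cj] at h1
      rw [cj_cj, ← h1]
      congr 1
      group
  rw [← cj_cj_inv h D, h0]
  exact map_bot _

omit hB in
theorem edge_normalizer {n : H} (hn : n ∈ normalizer (P : Set H)) (hE : Edge G S M P) :
    Edge G S (cj n M) P := by
  have := edge_cj n hE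
  rwa [cj_eq_self_of_mem_normalizer hn] at this

end H71.BGNP
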