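import Mathlib

/-!
Conjugates of a rank one group inside a finite group: vertices, edges, walks.

`G` is a subgroup of `H` and `S` a Sylow `p`-subgroup of `G`. A vertex is a conjugate of `G`, an
edge of the vertex `hGh⁻¹` is `hSh⁻¹`, and two vertices are adjacent when they have a common edge.
-/

set_option autoImplicit false

open Subgroup

namespace H71.BGNP

variable {H : Type*} [Group H]

/-- The conjugate `hKh⁻¹`. -/
def cj (h : H) (K : Subgroup H) : Subgroup H := K.map (MulAut.conj h).toMonoidHom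

theorem mem_cj {h a : H} {K : Subgroup H} : a ∈ cj h K ↔ h⁻¹ * a * h ∈ K := by
  constructor
  · rintro ⟨k, hk, rfl⟩
    simpa [MulAut.conj_apply, mul_assoc] using hk
  · intro ha
    exact ⟨_, ha, by simp [MulAut.conj_apply, mul_assoc]⟩

theorem conj_mem_cj {h a : H} {K : Subgroup H} : h * a * h⁻¹ ∈ cj h K ↔ a ∈ K := by
  rw [mem_cj]
  simp [mul_assoc]

theorem cj_cj (g h : H) (K : Subgroup H) : cj g (cj h K) = cj (g * h) K := by
  ext a
  simp [mem_cj, mul_assoc]

theorem cj_one (K : Subgroup H) : cj 1 K = K := by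
  ext a
  simp [mem_cj]

theorem cj_inv_cj (h : H) (K : Subgroup H) : cj h⁻¹ (cj h K) = K := by
  rw [cj_cj, inv_mul_cancel, cj_one]

theorem cj_cj_inv (h : H) (K : Subgroup H) : cj h (cj h⁻¹ K) = K := by
  rw [cj_cj, mul_inv_cancel, cj_one]

theorem cj_mono {h : H} {A B : Subgroup H} (hAB : A ≤ B) : cj h A ≤ cj h B := map_mono hAB

theorem cj_le_iff {h : H} {A B : Subgroup H} : cj h A ≤ cj h B ↔ A ≤ B :=
  map_le_map_iff_of_injective (MulAut.conj h).injective

theorem cj_sup (h : H) (A B : Subgroup H) : cj h (A ⊔ B) = cj h A ⊔ cj h B :=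
  map_sup A B (MulAut.conj h).toMonoidHom

theorem cj_zpowers (h a : H) : cj h (zpowers a) = zpowers (h * a * h⁻¹) :=
  MonoidHom.map_zpowers _ a

theorem card_cj (h : H) (K : Subgroup H) : Nat.card (cj h K) = Nat.card K :=
  card_map_of_injective (MulAut.conj h).injective

theorem cj_eq_self_of_mem_normalizer {h : H} {K : Subgroup H} (hh : h ∈ normalizer (K : Set H)) :
    cj h K = K := by
  ext a
  rw [mem_cj]
  exact (mem_normalizer_iff''.1 hh a).symm

theorem cj_eq_self {h : H} {K : Subgroup H} (hh : h ∈ K) : cj h K = K :=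
  cj_eq_self_of_mem_normalizer (le_normalizer hh)

theorem mem_normalizer_of_cj_eq {h : H} {K : Subgroup H} (hh : cj h K = K) :
    h ∈ normalizer (K : Set H) := by
  rw [mem_normalizer_iff'']
  intro a
  rw [← mem_cj, hh]

theorem le_normalizer_cj {h : H} {A B : Subgroup H} (hAB : A ≤ normalizer (B : Set H)) :
    cj h A ≤ normalizer ((cj h B : Subgroup H) : Set H) := by
  rintro _ ⟨a, ha, rfl⟩
  apply mem_normalizer_of_cj_eq
  show cj (h * a * h⁻¹) (cj h B) = cj h B
  rw [cj_cj, inv_mul_cancel_right, ← cj_cj, cj_eq_self_of_mem_normalizer (hAB ha)]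

theorem cj_centralizer (h : H) (A : Subgroup H) :
    cj h (centralizer (A : Set H)) = centralizer ((cj h A : Subgroup H) : Set H) := by
  ext a
  rw [mem_cj, mem_centralizer_iff, mem_centralizer_iff]
  constructor
  · intro ha b hb
    have := ha _ (mem_cj.1 hb)
    calc b * a = h * ((h⁻¹ * b * h) * (h⁻¹ * a * h)) * h⁻¹ := by group
      _ = h * ((h⁻¹ * a * h) * (h⁻¹ * b * h)) * h⁻¹ := by rw [this]
      _ = a * b := by group
  · intro ha b hb
    have := ha _ (conj_mem_cj.2 hb)
    calc b * (h⁻¹ * a * h) = h⁻¹ * ((h * b * h⁻¹) * a) * h := by group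
      _ = h⁻¹ * (a * (h * b * h⁻¹)) * h := by rw [this]
      _ = h⁻¹ * a * h * b := by group

theorem le_normalizer_of_conj {A B : Subgroup H} (h : ∀ a ∈ A, cj a B ≤ B) :
    A ≤ normalizer (B : Set H) := by
  intro a ha
  apply mem_normalizer_of_cj_eq
  refine le_antisymm (h a ha) ?_
  have := cj_mono (h := a) (h a⁻¹ (inv_mem ha))
  rwa [cj_cj_inv] at this

variable (p : ℕ)

/-- The elements of order dividing `p` of the centre of `P`. -/
def Zc (P : Subgroup H) : Subgroup H where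
  carrier := {x | x ∈ P ∧ x ∈ centralizer (P : Set H) ∧ x ^ p = 1}
  one_mem' := ⟨one_mem _, one_mem _, one_pow p⟩
  mul_mem' := fun {x y} hx hy => ⟨mul_mem hx.1 hy.1, mul_mem hx.2.1 hy.2.1, by
    have hc : Commute x y := (hx.2.1 y hy.1).symm
    rw [hc.mul_pow, hx.2.2, hy.2.2, one_mul]⟩
  inv_mem' := fun {x} hx => ⟨inv_mem hx.1, inv_mem hx.2.1, by rw [inv_pow, hx.2.2, inv_one]⟩

variable {p}

theorem mem_Zc {P : Subgroup H} {x : H} :
    x ∈ Zc p P ↔ x ∈ P ∧ x ∈ centralizer (P : Set H) ∧ x ^ p = 1 := Iff.rfl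

theorem cj_Zc (h : H) (P : Subgroup H) : cj h (Zc p P) = Zc p (cj h P) := by
  ext a
  rw [mem_cj, mem_Zc, mem_Zc, ← cj_centralizer, mem_cj, mem_cj]
  refine and_congr Iff.rfl (and_congr Iff.rfl ?_)
  rw [show h⁻¹ * a * h = h⁻¹ * a * (h⁻¹)⁻¹ by rw [inv_inv], conj_pow]
  constructor
  · intro e
    calc a ^ p = h * (h⁻¹ * a ^ p * (h⁻¹)⁻¹) * h⁻¹ := by group
      _ = 1 := by rw [e]; group
  · intro e
    rw [e]
    group

variable (p) (G S : Subgroup H)

/-- `P` is an edge of the vertex `K`. -/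
def Edge (K P : Subgroup H) : Prop := ∃ h : H, K = cj h G ∧ P = cj h S

/-- The subgroup generated by the `Zc P` for the edges `P` of `K`. -/
def Vf (K : Subgroup H) : Subgroup H := ⨆ (P : Subgroup H) (_ : Edge G S K P), Zc p P

/-- The intersection of the edges of `K`. -/
def Qf (K : Subgroup H) : Subgroup H := ⨅ (P : Subgroup H) (_ : Edge G S K P), P

/-- Adjacent vertices. -/
def Adj (K M : Subgroup H) : Prop := ∃ P, Edge G S K P ∧ Edge G S M P

/-- There is a walk of length `n` from `K` to `M`. -/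
def Reach (n : ℕ) (K M : Subgroup H) : Prop :=
  ∃ f : ℕ → Subgroup H, f 0 = K ∧ f n = M ∧ ∀ i < n, Adj G S (f i) (f (i + 1))

variable {p G S}
variable {K M P : Subgroup H}

theorem edge_cj (h : H) (hE : Edge G S K P) : Edge G S (cj h K) (cj h P) := by
  obtain ⟨g, rfl, rfl⟩ := hE
  exact ⟨h * g, cj_cj _ _ _, cj_cj _ _ _⟩

theorem Zc_le_Vf (hE : Edge G S K P) : Zc p P ≤ Vf p G S K :=
  le_iSup₂_of_le P hE le_rfl

theorem Qf_le (hE : Edge G S K P) : Qf G S K ≤ P := iInf₂_le P hE

theorem cj_Vf (h : H) (K : Subgroup H) : cj h (Vf p G S K) = Vf p G S (cj h K) := by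
  have key : ∀ (h : H) (K : Subgroup H), cj h (Vf p G S K) ≤ Vf p G S (cj h K) := by
    intro h K
    rw [cj, map_le_iff_le_comap]
    refine iSup₂_le fun P hP => ?_
    rw [← map_le_iff_le_comap]
    exact (cj_Zc h P).le.trans (Zc_le_Vf (edge_cj h hP))
  refine le_antisymm (key h K) ?_
  have := cj_mono (h := h) (key h⁻¹ (cj h K))
  rwa [cj_cj_inv, cj_inv_cj] at this

theorem cj_Qf (h : H) (K : Subgroup H) : cj h (Qf G S K) = Qf G S (cj h K) := by
  have key : ∀ (h : H) (K : Subgroup H), cj h (Qf G S K) ≤ Qf G S (cj h K) := by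
    intro h K
    refine le_iInf₂ fun P hP => ?_
    have h1 := edge_cj h⁻¹ hP
    rw [cj_inv_cj] at h1
    exact (cj_mono (Qf_le h1)).trans (cj_cj_inv h P).le
  refine le_antisymm (key h K) ?_
  have := cj_mono (h := h) (key h⁻¹ (cj h K))
  rwa [cj_cj_inv, cj_inv_cj] at this

theorem le_normalizer_Vf (K : Subgroup H) : K ≤ normalizer (Vf p G S K : Set H) := fun k hk =>
  mem_normalizer_of_cj_eq (by rw [cj_Vf, cj_eq_self hk])

theorem le_normalizer_Qf (K : Subgroup H) : K ≤ normalizer (Qf G S K : Set H) := fun k hk =>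
  mem_normalizer_of_cj_eq (by rw [cj_Qf, cj_eq_self hk])

theorem adj_cj (h : H) (hA : Adj G S K M) : Adj G S (cj h K) (cj h M) := by
  obtain ⟨P, h1, h2⟩ := hA
  exact ⟨cj h P, edge_cj h h1, edge_cj h h2⟩

theorem Adj.symm (hA : Adj G S K M) : Adj G S M K := by
  obtain ⟨P, h1, h2⟩ := hA
  exact ⟨P, h2, h1⟩

theorem reach_zero : Reach G S 0 K K := ⟨fun _ => K, rfl, rfl, fun i hi => absurd hi (Nat.not_lt_zero i)⟩

theorem reach_one (hA : Adj G S K M) : Reach G S 1 K M :=
  ⟨fun i => if i = 0 then K else M, by simp, by simp, fun i hi => by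
    obtain rfl : i = 0 := by omega
    simpa using hA⟩

theorem reach_two {L : Subgroup H} (hA : Adj G S K L) (hB : Adj G S L M) : Reach G S 2 K M :=
  ⟨fun i => if i = 0 then K else if i = 1 then L else M, by simp, by simp, fun i hi => by
    rcases (by omega : i = 0 ∨ i = 1) with rfl | rfl <;> simpa⟩

theorem reach_cj (h : H) {n : ℕ} (hR : Reach G S n K M) : Reach G S n (cj h K) (cj h M) := by
  obtain ⟨f, h0, hn, hf⟩ := hR
  exact ⟨fun i => cj h (f i), by simp [h0], by simp [hn], fun i hi => adj_cj h (hf i hi)⟩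

theorem reach_symm {n : ℕ} (hR : Reach G S n K M) : Reach G S n M K := by
  obtain ⟨f, h0, hn, hf⟩ := hR
  refine ⟨fun i => f (n - i), by simp [hn], by simp [h0], fun i hi => ?_⟩
  have h1 := (hf (n - (i + 1)) (by omega)).symm
  rwa [show n - (i + 1) + 1 = n - i by omega] at h1

theorem reach_cons {L : Subgroup H} {n : ℕ} (hA : Adj G S K L) (hR : Reach G S n L M) :
    Reach G S (n + 1) K M := by
  obtain ⟨f, h0, hn, hf⟩ := hR
  refine ⟨fun i => if i = 0 then K else f (i - 1), by simp, by simp [hn], fun i hi => ?_⟩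
  rcases i with _ | i
  · simpa [h0] using hA
  · simpa using hf i (by omega)

theorem reach_sub {f : ℕ → Subgroup H} {b i j : ℕ} (hij : i ≤ j) (hjb : j ≤ b)
    (hf : ∀ k < b, Adj G S (f k) (f (k + 1))) : Reach G S (j - i) (f i) (f j) :=
  ⟨fun k => f (i + k), by simp, by simp [Nat.add_sub_cancel' hij], fun k hk =>
    hf (i + k) (by omega)⟩

end H71.BGNP
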