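import Mathlib
import Cfsg.Agent.H78.NormalizedMCL
import Cfsg.Agent.H1.CoprimeAction
import Cfsg.Agent.H8.Coprime

/-!
Groups of order prime to `p` in `SL₂` over a domain of characteristic `p > 2` that are normalized
by a nontrivial upper unipotent element.
-/

set_option autoImplicit false
set_option linter.unusedSectionVars false

open Matrix
open scoped MatrixGroups commutatorElement

namespace H71.BGNP

variable {E : Type*} [CommRing E]

/-- An upper unipotent element. -/
def upE (e : E) : SL(2, E) := ⟨!![1, e; 0, 1], by simp [det_fin_two_of]⟩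

/-- A lower unipotent element. -/
def lwE (e : E) : SL(2, E) := ⟨!![1, 0; e, 1], by simp [det_fin_two_of]⟩

theorem coe_upE (e : E) : (upE e : Matrix (Fin 2) (Fin 2) E) = !![1, e; 0, 1] := rfl

theorem coe_lwE (e : E) : (lwE e : Matrix (Fin 2) (Fin 2) E) = !![1, 0; e, 1] := rfl

theorem upE_mul (a b : E) : upE a * upE b = upE (a + b) := by
  apply Subtype.ext; ext i j
  fin_cases i <;> fin_cases j <;>
    simp [coe_upE, Matrix.mul_apply, Matrix.vecMul, dotProduct, Fin.sum_univ_two, add_comm]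

theorem upE_zero : upE (0 : E) = 1 := by
  apply Subtype.ext; ext i j
  fin_cases i <;> fin_cases j <;> simp [coe_upE]

theorem upE_pow (a : E) (n : ℕ) : upE a ^ n = upE (n * a) := by
  induction n with
  | zero => simp [upE_zero]
  | succ n ih => rw [pow_succ, ih, upE_mul]; congr 1; push_cast; ring

theorem lwE_mul (a b : E) : lwE a * lwE b = lwE (a + b) := by
  apply Subtype.ext; ext i j
  fin_cases i <;> fin_cases j <;>
    simp [coe_lwE, Matrix.mul_apply, Matrix.vecMul, dotProduct, Fin.sum_univ_two]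

theorem lwE_zero : lwE (0 : E) = 1 := by
  apply Subtype.ext; ext i j
  fin_cases i <;> fin_cases j <;> simp [coe_lwE]

theorem lwE_pow (a : E) (n : ℕ) : lwE a ^ n = lwE (n * a) := by
  induction n with
  | zero => simp [lwE_zero]
  | succ n ih => rw [pow_succ, ih, lwE_mul]; congr 1; push_cast; ring

theorem conj_upE (k : SL(2, E)) (e : E) :
    ((upE e * k * (upE e)⁻¹ : SL(2, E)) : Matrix (Fin 2) (Fin 2) E) =
      !![k 0 0 + e * k 1 0, k 0 1 + e * k 1 1 - e * k 0 0 - e * e * k 1 0;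
         k 1 0, k 1 1 - e * k 1 0] := by
  ext i j
  fin_cases i <;> fin_cases j <;>
    simp [coe_upE, Matrix.SpecialLinearGroup.coe_mul, Matrix.SpecialLinearGroup.coe_inv,
      Matrix.adjugate_fin_two, Matrix.mul_apply, Matrix.vecMul, dotProduct, Fin.sum_univ_two] <;> ring

theorem det_eq (k : SL(2, E)) : k 0 0 * k 1 1 - k 0 1 * k 1 0 = 1 := by
  have := k.2
  rwa [Matrix.det_fin_two] at this

/-- Scalar elements. -/
def Sc (k : SL(2, E)) : Prop := k 0 1 = 0 ∧ k 1 0 = 0 ∧ k 0 0 = k 1 1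

theorem Sc.comm {k : SL(2, E)} (h : Sc k) (g : SL(2, E)) : k * g = g * k := by
  obtain ⟨h1, h2, h3⟩ := h
  apply Subtype.ext; ext i j
  fin_cases i <;> fin_cases j <;>
    simp [Matrix.mul_apply, Matrix.vecMul, dotProduct, Fin.sum_univ_two, h1, h2, h3, mul_comm]

theorem Sc.sq {k : SL(2, E)} (h : Sc k) : k * k = 1 := by
  obtain ⟨h1, h2, h3⟩ := h
  have hd := det_eq k
  rw [h1, h2, zero_mul, sub_zero, h3] at hd
  apply Subtype.ext; ext i j
  fin_cases i <;> fin_cases j <;>
    simp [Matrix.mul_apply, Matrix.vecMul, dotProduct, Fin.sum_univ_two, h1, h2, h3, hd]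

variable [IsDomain E] {p : ℕ} [Fact p.Prime] [CharP E p]

omit [IsDomain E] in
theorem upE_pow_char (e : E) : upE e ^ p = 1 := by
  rw [upE_pow, CharP.cast_eq_zero, zero_mul, upE_zero]

theorem two_ne_zero_E (hp : p ≠ 2) : (2 : E) ≠ 0 := by
  intro h
  have h' : ((2 : ℕ) : E) = 0 := by exact_mod_cast h
  rw [CharP.cast_eq_zero_iff E p] at h'
  exact hp ((Nat.prime_dvd_prime_iff_eq Fact.out Nat.prime_two).1 h')

theorem eq_zero_of_comm (hp : p ≠ 2) {k : SL(2, E)} {e : E} (he : e ≠ 0)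
    (h : k * (upE e * k * (upE e)⁻¹) = upE e * k * (upE e)⁻¹ * k) : k 1 0 = 0 := by
  have h1 := congrArg (fun g : SL(2, E) => g 1 0) h
  simp only [Matrix.SpecialLinearGroup.coe_mul (k), Matrix.SpecialLinearGroup.coe_mul _ k,
    conj_upE, Matrix.mul_apply, Matrix.vecMul, dotProduct, Fin.sum_univ_two] at h1
  simp at h1
  have h2 : 2 * e * (k 1 0 * k 1 0) = 0 := by linear_combination h1
  simpa [two_ne_zero_E (p := p) hp, he] using h2

theorem trace_of_anticomm (hp : p ≠ 2) {k : SL(2, E)} {e : E}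
    (h : k * (upE e * k * (upE e)⁻¹) = -(upE e * k * (upE e)⁻¹ * k)) :
    k 1 0 = 0 ∨ (k 0 0 + k 1 1 = 0 ∧ e * e * (k 1 0 * k 1 0) = -2) := by
  have h0 : ((k * (upE e * k * (upE e)⁻¹) : SL(2, E)) : Matrix (Fin 2) (Fin 2) E) =
      -((upE e * k * (upE e)⁻¹ * k : SL(2, E)) : Matrix (Fin 2) (Fin 2) E) :=
    congrArg Subtype.val h
  rw [Matrix.SpecialLinearGroup.coe_mul k, Matrix.SpecialLinearGroup.coe_mul _ k, conj_upE] at h0
  have h10 := congrFun (congrFun h0 1) 0
  have h00 := congrFun (congrFun h0 0) 0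
  simp [Matrix.mul_apply, Matrix.vecMul, dotProduct, Fin.sum_univ_two] at h10 h00
  by_cases hg : k 1 0 = 0
  · exact Or.inl hg
  have htr : k 0 0 + k 1 1 = 0 := by
    have h3 : 2 * k 1 0 * (k 0 0 + k 1 1) = 0 := by linear_combination h10
    simpa [two_ne_zero_E (p := p) hp, hg] using h3
  refine Or.inr ⟨htr, ?_⟩
  have hd := det_eq k
  linear_combination (-1) * h00 - 2 * hd + (2 * k 0 0 + e * k 1 0) * htr

/-- An upper triangular element of a `p'`-group normalized by `upE 1` is scalar. -/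
theorem sc_of_upper [Finite E] {R : Subgroup SL(2, E)} (hR : (Nat.card R).Coprime p)
    (hu : ∀ k ∈ R, upE 1 * k * (upE (1 : E))⁻¹ ∈ R) (hp : p ≠ 2) {k : SL(2, E)} (hk : k ∈ R)
    (hg : k 1 0 = 0) : Sc k := by
  have one_of_pow : ∀ w ∈ R, w ^ p = 1 → w = 1 := by
    intro w hw hwp
    have h1 : orderOf w ∣ p := orderOf_dvd_of_pow_eq_one hwp
    have h2 : orderOf w ∣ Nat.card R := Subgroup.orderOf_dvd_natCard _ hw
    exact orderOf_eq_one_iff.1 (Nat.eq_one_of_dvd_coprimes hR h2 h1)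
  have hd := det_eq k
  rw [hg, mul_zero, sub_zero] at hd
  -- the commutator with `upE 1` is unipotent
  have he : upE 1 * k * (upE (1 : E))⁻¹ * k⁻¹ = upE (1 - k 0 0 * k 0 0) := by
    apply Subtype.ext
    rw [Matrix.SpecialLinearGroup.coe_mul, conj_upE]
    ext i j
    fin_cases i <;> fin_cases j <;>
      simp [coe_upE, Matrix.SpecialLinearGroup.coe_inv, Matrix.adjugate_fin_two, Matrix.mul_apply,
        Fin.sum_univ_two, hg] <;> linear_combination hd
  have h1 := one_of_pow _ (mul_mem (hu k hk) (inv_mem hk)) (by rw [he]; exact upE_pow_char _)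
  rw [he] at h1
  have haa : k 0 0 * k 0 0 = 1 := by
    have := congrArg (fun g : SL(2, E) => g 0 1) h1
    simp [coe_upE] at this
    linear_combination (-1) * this
  have hdd : k 1 1 = k 0 0 := by linear_combination k 0 0 * hd - k 1 1 * haa
  have hsq : k * k = upE (2 * k 0 0 * k 0 1) := by
    apply Subtype.ext; ext i j
    fin_cases i <;> fin_cases j <;>
      simp [coe_upE, Matrix.mul_apply, Matrix.vecMul, dotProduct, Fin.sum_univ_two, hg, hdd] <;> first | exact haa | ring
  have h2 := one_of_pow _ (mul_mem hk hk) (by rw [hsq]; exact upE_pow_char _)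
  rw [hsq] at h2
  have h3 := congrArg (fun g : SL(2, E) => g 0 1) h2
  simp [coe_upE] at h3
  have hk00 : k 0 0 ≠ 0 := left_ne_zero_of_mul_eq_one haa
  refine ⟨?_, hg, hdd.symm⟩
  simpa [two_ne_zero_E (p := p) hp, hk00] using h3

/-- Elements commuting with a noncentral element and with its conjugate are scalar. -/
theorem sc_of_comm (hp : p ≠ 2) {k r : SL(2, E)} (hk : k 1 0 ≠ 0) (h : r * k = k * r)
    (h' : r * (upE 1 * k * (upE (1 : E))⁻¹) = upE 1 * k * (upE (1 : E))⁻¹ * r) : Sc r := by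
  have e10 := congrArg (fun g : SL(2, E) => g 1 0) h
  have e00 := congrArg (fun g : SL(2, E) => g 0 0) h
  have e0 : ((r * (upE 1 * k * (upE (1 : E))⁻¹) : SL(2, E)) : Matrix (Fin 2) (Fin 2) E) =
      ((upE 1 * k * (upE (1 : E))⁻¹ * r : SL(2, E)) : Matrix (Fin 2) (Fin 2) E) :=
    congrArg Subtype.val h'
  rw [Matrix.SpecialLinearGroup.coe_mul r, Matrix.SpecialLinearGroup.coe_mul _ r, conj_upE] at e0
  have f10 := congrFun (congrFun e0 1) 0
  simp [Matrix.mul_apply, Matrix.vecMul, dotProduct, Fin.sum_univ_two] at e10 e00 f10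
  have hc : r 1 0 = 0 := by
    have h1 : 2 * k 1 0 * r 1 0 = 0 := by linear_combination f10 - e10
    simpa [two_ne_zero_E (p := p) hp, hk] using h1
  have hb : r 0 1 = 0 := by
    have h1 : k 1 0 * r 0 1 = 0 := by linear_combination e00 + k 0 1 * hc
    simpa [hk] using h1
  have ha : r 0 0 = r 1 1 := by
    have h1 : k 1 0 * (r 1 1 - r 0 0) = 0 := by
      linear_combination e10 + (k 1 1 - k 0 0) * hc
    rw [mul_eq_zero, or_iff_right hk, sub_eq_zero] at h1
    exact h1.symm
  exact ⟨hb, hc, ha⟩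

/-- A scalar is `1` or `-1`. -/
theorem Sc.eq_or {k : SL(2, E)} (h : Sc k) : k = 1 ∨ k = -1 := by
  have hd := det_eq k
  rw [h.1, h.2.1, zero_mul, sub_zero, ← h.2.2, mul_self_eq_one_iff] at hd
  rcases hd with hd | hd
  · left
    apply Subtype.ext; ext i j
    fin_cases i <;> fin_cases j <;> simp [h.1, h.2.1, ← h.2.2, hd]
  · right
    apply Subtype.ext; ext i j
    fin_cases i <;> fin_cases j <;> simp [h.1, h.2.1, ← h.2.2, hd]

theorem sc_one : Sc (1 : SL(2, E)) := by simp [Sc]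

/-- What can be said about an `r`-group: it is scalar, or `p = 3` and it is quaternion-like. -/
theorem sc_or_three [Finite E] (hp : p ≠ 2) {r : ℕ} [Fact r.Prime] {R : Subgroup SL(2, E)}
    (hr : IsPGroup r R) (hR : (Nat.card R).Coprime p)
    (hu : ∀ k ∈ R, upE 1 * k * (upE (1 : E))⁻¹ ∈ R) :
    (∀ k ∈ R, Sc k) ∨ (p = 3 ∧ (∀ k ∈ R, k 1 0 = 0 ∧ Sc k ∨
        (k 0 0 + k 1 1 = 0 ∧ k 1 0 * k 1 0 = 1)) ∧
      ∃ k ∈ R, k 0 0 + k 1 1 = 0 ∧ k 1 0 * k 1 0 = 1) := by
  classical
  -- the second centre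
  let Z2 : Set SL(2, E) := {k | k ∈ R ∧ ∀ x ∈ R, x * k = k * x ∨ x * k = -(k * x)}
  have hneg : ∀ a b : SL(2, E), a * -b = -(a * b) := fun a b => by
    apply Subtype.ext; simp
  have hneg' : ∀ a b : SL(2, E), -a * b = -(a * b) := fun a b => by
    apply Subtype.ext; simp
  have hnn : ∀ a : SL(2, E), - -a = a := fun a => by apply Subtype.ext; simp
  have hZu : ∀ k ∈ Z2, upE 1 * k * (upE (1 : E))⁻¹ ∈ Z2 := by
    intro k hk
    refine ⟨hu k hk.1, fun x hx => ?_⟩
    have hsurj : ∃ y ∈ R, upE 1 * y * (upE (1 : E))⁻¹ = x := by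
      have hinj : Function.Injective (fun y : R => (⟨_, hu y y.2⟩ : R)) := fun a b e =>
        Subtype.ext (by simpa using congrArg Subtype.val e)
      obtain ⟨y, hy⟩ := Finite.surjective_of_injective hinj ⟨x, hx⟩
      exact ⟨y, y.2, congrArg Subtype.val hy⟩
    obtain ⟨y, hy, rfl⟩ := hsurj
    have e1 : upE 1 * y * (upE (1 : E))⁻¹ * (upE 1 * k * (upE (1 : E))⁻¹) =
        upE 1 * (y * k) * (upE (1 : E))⁻¹ := by group
    have e2 : upE 1 * k * (upE (1 : E))⁻¹ * (upE 1 * y * (upE (1 : E))⁻¹) =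
        upE 1 * (k * y) * (upE (1 : E))⁻¹ := by group
    rw [e1, e2]
    rcases hk.2 y hy with h | h
    · left; rw [h]
    · right; rw [h, hneg, hneg']
  have hZmul : ∀ a ∈ Z2, ∀ b ∈ Z2, a * b ∈ Z2 := by
    intro a ha b hb
    refine ⟨mul_mem ha.1 hb.1, fun x hx => ?_⟩
    have e : a * b * x = a * (b * x) := mul_assoc _ _ _
    rcases ha.2 x hx with h | h <;> rcases hb.2 x hx with h' | h'
    · left; rw [e, ← h', ← mul_assoc, ← mul_assoc, h]
    · right; rw [← mul_assoc, h, mul_assoc, h', hneg, mul_assoc]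
    · right; rw [← mul_assoc, h, hneg', mul_assoc, h', mul_assoc]
    · left; rw [← mul_assoc, h, hneg', mul_assoc, h', hneg, hnn, mul_assoc]
  by_cases hall : ∀ k ∈ Z2, k 1 0 = 0
  · left
    -- then the second centre is scalar, so `R` is scalar
    have hsc : ∀ k ∈ Z2, Sc k := fun k hk => sc_of_upper hR hu hp hk.1 (hall k hk)
    by_contra hcon
    push Not at hcon
    obtain ⟨k0, hk0, hk0'⟩ := hcon
    have hcs : ∀ k : R, k ∈ Subgroup.center R → Sc (k : SL(2, E)) := fun k hk =>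
      hsc _ ⟨k.2, fun x hx => Or.inl
        (congrArg Subtype.val (Subgroup.mem_center_iff.1 hk ⟨x, hx⟩))⟩
    obtain ⟨w, -, hw, hwc⟩ := H78.exists_fixed_mod hr ⊤ ⊤ (Subgroup.center R)
      (by rw [Subgroup.normalizer_eq_top]) (fun h => hk0' (hcs ⟨k0, hk0⟩ (h trivial)))
    refine hw (Subgroup.mem_center_iff.2 fun x => Subtype.ext ?_)
    refine ((hsc (w : SL(2, E)) ⟨w.2, fun y hy => ?_⟩).comm _).symm
    have h1 := hcs _ (hwc ⟨y, hy⟩ trivial)
    have e : y * (w : SL(2, E)) = ((⁅(⟨y, hy⟩ : R), w⁆ : R) : SL(2, E)) * ((w : SL(2, E)) * y) := by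
      simp [commutatorElement_def, mul_assoc]
    rcases h1.eq_or with h2 | h2
    · left; rw [e, h2, one_mul]
    · right; rw [e, h2, hneg', one_mul]
  push Not at hall
  obtain ⟨k, hk, hkg⟩ := hall
  right
  have hcase : ∀ (w : SL(2, E)), w ∈ Z2 → w 1 0 ≠ 0 →
      w 0 0 + w 1 1 = 0 ∧ (w 1 0 * w 1 0) = -2 ∧ (4 : E) * (w 1 0 * w 1 0) = -2 := by
    intro w hw hwg
    have h1 := hZu w hw
    have h2 := hZu _ h1
    have e2 : upE 1 * (upE 1 * w * (upE (1 : E))⁻¹) * (upE (1 : E))⁻¹ =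
        upE 2 * w * (upE (2 : E))⁻¹ := by
      rw [show (2 : E) = 1 + 1 by norm_num, ← upE_mul]; group
    rw [e2] at h2
    have t1 : ∀ e : E, e ≠ 0 → upE e * w * (upE e)⁻¹ ∈ Z2 →
        w 0 0 + w 1 1 = 0 ∧ e * e * (w 1 0 * w 1 0) = -2 := by
      intro e he hew
      rcases hew.2 w hw.1 with h | h
      · exact absurd (eq_zero_of_comm (p := p) hp he h) hwg
      · exact (trace_of_anticomm (p := p) hp h).resolve_left hwg
    obtain ⟨a1, b1⟩ := t1 1 one_ne_zero h1
    obtain ⟨-, b2⟩ := t1 2 (two_ne_zero_E (p := p) hp) h2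
    exact ⟨a1, by simpa using b1, by linear_combination b2⟩
  obtain ⟨htr, hg2, hg4⟩ := hcase k hk hkg
  have hp3 : p = 3 := by
    have h6 : ((6 : ℕ) : E) = 0 := by push_cast; linear_combination 4 * hg2 - hg4
    rw [CharP.cast_eq_zero_iff E p] at h6
    have hpp : p.Prime := Fact.out
    have h7 : p ∣ 2 * 3 := h6
    rcases (Nat.Prime.dvd_mul hpp).1 h7 with h | h
    · exact absurd ((Nat.prime_dvd_prime_iff_eq hpp Nat.prime_two).1 h) hp
    · exact (Nat.prime_dvd_prime_iff_eq hpp Nat.prime_three).1 h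
  subst hp3
  have h3 : (3 : E) = 0 := by exact_mod_cast CharP.cast_eq_zero E 3
  -- every element of `R` is in the second centre
  have hRZ : ∀ x ∈ R, x ∈ Z2 := by
    intro x hx
    have hk' := hZu k hk
    set k' := upE 1 * k * (upE (1 : E))⁻¹ with hk'def
    have hkk' : k * k' = -(k' * k) := (hk'.2 k hk.1).resolve_left fun h =>
      hkg (eq_zero_of_comm (p := 3) hp one_ne_zero h)
    have hk'k : k' * k = -(k * k') := by rw [hkk', hnn]
    have fin : ∀ t ∈ Z2, t * x * k = k * (t * x) → t * x * k' = k' * (t * x) → x ∈ Z2 := by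
      intro t ht h1 h2
      have hs : Sc (t * x) := sc_of_comm (p := 3) hp hkg h1 h2
      have hs' : t * x ∈ Z2 := ⟨mul_mem ht.1 hx, fun y _ => Or.inl (hs.comm y).symm⟩
      refine ⟨hx, fun y hy => ?_⟩
      have e : x = t⁻¹ * (t * x) := (inv_mul_cancel_left t x).symm
      rcases ht.2 y hy with h | h
      · left
        rw [e, ← mul_assoc y, show y * t⁻¹ = t⁻¹ * y by
          calc y * t⁻¹ = t⁻¹ * (t * y) * t⁻¹ := by group
            _ = t⁻¹ * y := by rw [← h]; group, mul_assoc, ← hs.comm y]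
        simp only [mul_assoc]
      · right
        have ht' : y * t⁻¹ = -(t⁻¹ * y) := by
          calc y * t⁻¹ = t⁻¹ * (t * y) * t⁻¹ := by group
            _ = t⁻¹ * -(y * t) * t⁻¹ := by rw [h, hnn]
            _ = -(t⁻¹ * y) := by rw [hneg, hneg', ← mul_assoc, mul_inv_cancel_right]
        rw [e, ← mul_assoc y, ht', hneg', mul_assoc, ← hs.comm y]
        simp only [mul_assoc]
    rcases hk.2 x hx with h | h <;> rcases hk'.2 x hx with h' | h'
    · exact fin 1 ⟨one_mem _, fun y _ => Or.inl (by simp)⟩ (by rw [one_mul, h]) (by rw [one_mul, h'])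
    · refine fin k hk (by rw [mul_assoc, h]) ?_
      rw [mul_assoc, h', hneg, ← mul_assoc, hkk', hneg', hnn, mul_assoc]
    · refine fin k' hk' ?_ (by rw [mul_assoc, h'])
      rw [mul_assoc, h, hneg, ← mul_assoc, hk'k, hneg', hnn, mul_assoc]
    · refine fin (k * k') (hZmul k hk k' hk') ?_ ?_
      · rw [mul_assoc, h, hneg, ← mul_assoc, mul_assoc k k' k, hk'k, hneg, hneg', hnn]
        simp only [mul_assoc]
      · rw [mul_assoc, h', hneg, ← mul_assoc, ← mul_assoc k' (k * k') x, ← mul_assoc k' k k',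
          hk'k, hneg', hneg']
  refine ⟨rfl, fun x hx => ?_, k, hk.1, htr, ?_⟩
  · by_cases hxg : x 1 0 = 0
    · exact Or.inl ⟨hxg, sc_of_upper hR hu hp hx hxg⟩
    · obtain ⟨a, b, -⟩ := hcase x (hRZ x hx) hxg
      exact Or.inr ⟨a, by linear_combination b - h3⟩
  · linear_combination hg2 - h3

/-- A `p'`-group normalized by `upE 1` is scalar, or `p = 3` and it is quaternion-like. -/
theorem sc_or_three_coprime [Finite E] (hp : p ≠ 2) {K : Subgroup SL(2, E)}
    (hK : (Nat.card K).Coprime p) (hu : ∀ k ∈ K, upE 1 * k * (upE (1 : E))⁻¹ ∈ K) :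
    (∀ k ∈ K, Sc k) ∨ (p = 3 ∧ (∀ k ∈ K, k 1 0 = 0 ∧ Sc k ∨
        (k 0 0 + k 1 1 = 0 ∧ k 1 0 * k 1 0 = 1)) ∧
      ∃ k ∈ K, k 0 0 + k 1 1 = 0 ∧ k 1 0 * k 1 0 = 1) := by
  -- `K` is a `2`-group
  have hpow : ∀ r : ℕ, r.Prime → r ∣ Nat.card K → r = 2 := by
    intro r hr hrK
    by_contra hr2
    haveI := Fact.mk hr
    set A := Subgroup.zpowers (upE (1 : E)) with hA
    have hAp : IsPGroup p A := by
      rintro ⟨x, i, rfl⟩
      refine ⟨1, Subtype.ext ?_⟩
      show ((upE (1 : E)) ^ i) ^ p ^ 1 = 1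
      rw [pow_one, ← zpow_natCast, ← _root_.zpow_mul, mul_comm, _root_.zpow_mul, zpow_natCast,
        upE_pow_char, _root_.one_zpow]
    have hAK : A ≤ Subgroup.normalizer (K : Set SL(2, E)) := by
      rw [hA, Subgroup.zpowers_le]
      refine Subgroup.mem_normalizer_iff.2 fun x => ⟨hu x, fun hx => ?_⟩
      have hinj : Function.Injective (fun y : K => (⟨_, hu y y.2⟩ : K)) := fun a b e =>
        Subtype.ext (by simpa using congrArg Subtype.val e)
      obtain ⟨y, hy⟩ := Finite.surjective_of_injective hinj ⟨_, hx⟩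
      have : x = y := by simpa using (congrArg Subtype.val hy).symm
      rw [this]; exact y.2
    have hnd : ¬ p ∣ Nat.card K := fun h =>
      (Fact.out : p.Prime).one_lt.ne' (Nat.eq_one_of_dvd_coprimes hK h dvd_rfl)
    obtain ⟨R, hR, hAR⟩ := H8.exists_inv_sylowIn (q := r) hAp hAK hnd
    have hRu : ∀ k ∈ R, upE 1 * k * (upE (1 : E))⁻¹ ∈ R := fun k hk =>
      (Subgroup.mem_normalizer_iff.1 (hAR (Subgroup.mem_zpowers _)) k).1 hk
    have hRc : (Nat.card R).Coprime p := hK.coprime_dvd_left (Subgroup.card_dvd_of_le hR.le)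
    have hall : ∀ k ∈ R, k * k = 1 := by
      intro k hk
      rcases sc_or_three hp hR.isPGroup hRc hRu with h | ⟨-, h, x, hx, htr, hg⟩
      · exact (h k hk).sq
      · -- an element of trace zero has order four
        exfalso
        have hd := det_eq x
        have h4 : (x * x) * (x * x) = 1 := by
          have hsq : x * x = -1 := by
            apply Subtype.ext; ext i j
            fin_cases i <;> fin_cases j <;> simp [Matrix.mul_apply, Matrix.vecMul, dotProduct, Fin.sum_univ_two]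
            · linear_combination x 0 0 * htr - hd
            · linear_combination x 0 1 * htr
            · linear_combination x 1 0 * htr
            · linear_combination x 1 1 * htr - hd
          rw [hsq]
          apply Subtype.ext; simp
        obtain ⟨n, hn⟩ := hR.isPGroup ⟨x, hx⟩
        have hn' : x ^ r ^ n = 1 := congrArg Subtype.val hn
        have ho : orderOf x ∣ 4 := orderOf_dvd_of_pow_eq_one (by
          rw [show (4 : ℕ) = 1 + 1 + (1 + 1) from rfl, pow_add, pow_add, pow_one, h4])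
        have hco : Nat.Coprime (r ^ n) 4 := Nat.Coprime.pow_left n (by
          rw [show (4 : ℕ) = 2 ^ 2 from rfl]
          exact Nat.Coprime.pow_right _ ((Nat.coprime_primes hr Nat.prime_two).2 hr2))
        have hx1 : x = 1 := orderOf_eq_one_iff.1
          (Nat.eq_one_of_dvd_coprimes hco (orderOf_dvd_of_pow_eq_one hn') ho)
        simp [hx1] at hg
    haveI : Nontrivial R := by
      refine Finite.one_lt_card_iff_nontrivial.1 ?_
      rw [hR.card_eq]
      exact Nat.one_lt_pow (fun h => by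
        have := (Nat.Prime.factorization_pos_of_dvd hr Nat.card_pos.ne' hrK); omega) hr.one_lt
    obtain ⟨x, hx⟩ := exists_ne (1 : R)
    obtain ⟨n, hn⟩ := hR.isPGroup x
    have h2 : x ^ 2 = 1 := Subtype.ext (by rw [sq]; exact hall x x.2)
    exact hx (orderOf_eq_one_iff.1 (Nat.eq_one_of_dvd_coprimes
      (Nat.Coprime.pow_left n ((Nat.coprime_primes hr Nat.prime_two).2 hr2))
      (orderOf_dvd_of_pow_eq_one hn) (orderOf_dvd_of_pow_eq_one h2)))
  haveI : Fact (Nat.Prime 2) := ⟨Nat.prime_two⟩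
  refine sc_or_three (r := 2) hp ?_ hK hu
  refine IsPGroup.of_card (n := (Nat.card K).factorization 2) ?_
  conv_lhs => rw [Nat.eq_prime_pow_of_unique_prime_dvd Nat.card_pos.ne' fun {d} hd hdK =>
    hpow d hd hdK]
  congr 1
  rw [← Nat.primeFactorsList_count_eq, List.count_eq_length.2]
  intro d hd
  exact (hpow d (Nat.prime_of_mem_primeFactorsList hd) (Nat.dvd_of_mem_primeFactorsList hd)).symm

end H71.BGNP
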