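import Cfsg.Agent.H71.BGNP.Spread
import Cfsg.Agent.H71.BGNP.TwoDim

/-!
The kernel of `ψ` fixes the fixed subgroup of `S` on an irreducible quadratic module.

For `q > p` the kernel is generated modulo `Q` by centralizers of elements of `S`; for `q = p > 2`
the group acts as a subgroup of `SL₂(E)` generated by two unipotent elements; for `q = 2` the
module is assumed to have at most four elements.
-/

set_option autoImplicit false
set_option linter.unusedSectionVars false

open Subgroup Matrix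
open scoped MatrixGroups Pointwise

namespace H71.BGNP

universe u

variable {X : Type*} [Group X] [Finite X] {p : ℕ} [Fact p.Prime] {F : Type} [Field F] [Fintype F]
  {ψ : X →* Matrix.ProjectiveSpecialLinearGroup (Fin 2) F} {S : Sylow p X}
  {U : Type u} [AddCommGroup U] [Finite U] {ρ : X →* AddMonoid.End U}
  (h : Sit p ψ S) (hU : QMod p S ρ)
include h hU

theorem QMod.mem_fix_of_fixed {x : X} (hx : x ∈ (S : Subgroup X)) (hxQ : x ∉ Cfsg.pCore p X) {u : U}
    (hu : ρ x u = u) : u ∈ fix ρ (S : Subgroup X) := by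
  obtain ⟨P, hne⟩ := h.exists_map_ne S
  obtain ⟨a, ha, b, hb, rfl⟩ := AddSubgroup.mem_sup.1
    (show u ∈ fix ρ (S : Subgroup X) ⊔ fix ρ (P : Subgroup X) from hU.fix_sup h hne ▸
      AddSubgroup.mem_top u)
  rw [map_add, ha x hx, add_right_inj] at hu
  rw [hU.fix_inter h hne hx hxQ hu hb, add_zero]
  exact ha

/-- `ψ.ker ⊔ S` is not the whole group on the module. -/
theorem QMod.false_of_top
    (htop : (ψ.ker ⊔ (S : Subgroup X)) ⊔ ρ.ker = ⊤) : False := by
  obtain ⟨M, ⟨hM, hSM⟩, -⟩ := h.uniq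
  by_cases hN : ρ.ker ⊓ (S : Subgroup X) ≤ Cfsg.pCore p X
  · -- `ρ.ker` lies in the maximal subgroup
    by_cases hS : ρ.ker ⊔ (S : Subgroup X) = ⊤
    · obtain ⟨g, u, hgu⟩ := hU.nt
      have key : ∀ u : U, u ∈ fix ρ (S : Subgroup X) → ∀ g, ρ g u = u := by
        intro u hu g
        have hg : g ∈ ρ.ker ⊔ (S : Subgroup X) := hS ▸ mem_top g
        rw [← SetLike.mem_coe, coe_mul_of_right_le_normalizer_left _ _
          (le_top.trans (normalizer_eq_top ρ.ker).ge)] at hg
        obtain ⟨k, hk, s, hs, rfl⟩ := hg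
        rw [rho_mul, hu s hs, show ρ k = 1 from hk]
        rfl
      obtain ⟨P, hne⟩ := h.exists_map_ne S
      refine hgu ?_
      obtain ⟨a, ha, b, hb, rfl⟩ := AddSubgroup.mem_sup.1
        (show u ∈ fix ρ (S : Subgroup X) ⊔ fix ρ (P : Subgroup X) from hU.fix_sup h hne ▸
          AddSubgroup.mem_top u)
      have hb0 : b = 0 := by
        obtain ⟨k, rfl⟩ := MulAction.exists_smul_eq X S P
        have h1 := key _ (mem_fix_smul.1 hb) k
        rw [rho_self_inv] at h1
        have h2 : b ∈ fix ρ (S : Subgroup X) := by rw [h1]; exact mem_fix_smul.1 hb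
        obtain ⟨x, hx, hxQ⟩ := h.ctx.exists_notMem
        exact hU.fix_inter h hne hx hxQ (h2 x hx) hb
      rw [hb0, add_zero]
      exact key a ha g
    · obtain ⟨C, hC, hle⟩ := (eq_top_or_exists_le_coatom _).resolve_left hS
      obtain ⟨M', -, huM⟩ := h.uniq
      have e : C = M := (huM C ⟨hC, le_sup_right.trans hle⟩).trans (huM M ⟨hM, hSM⟩).symm
      exact hM.1 (eq_top_iff.2 (htop.ge.trans (sup_le (sup_le (h.ker_le_max hM hSM) hSM)
        (e ▸ le_sup_left.trans hle))))
  · obtain ⟨x, ⟨hxk, hx⟩, hxQ⟩ := SetLike.not_le_iff_exists.1 hN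
    obtain ⟨g, u, hgu⟩ := hU.nt
    have hall : ∀ u : U, u ∈ fix ρ (S : Subgroup X) := fun u =>
      hU.mem_fix_of_fixed h hx hxQ (by rw [show ρ x = 1 from hxk]; rfl)
    obtain ⟨P, hne⟩ := h.exists_map_ne S
    have hz : ∀ b ∈ fix ρ (P : Subgroup X), b = 0 := fun b hb =>
      hU.fix_inter h hne hx hxQ (hall b x hx) hb
    obtain ⟨k, rfl⟩ := MulAction.exists_smul_eq X S P
    have : ∀ v : U, v = 0 := fun v => by
      have h1 := hz (ρ k v) (mem_fix_smul.2 (by rw [rho_inv_self]; exact hall v))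
      rw [← rho_inv_self (ρ := ρ) k v, h1, map_zero]
    exact hgu ((this _).trans (this u).symm)

/-- `q > p`. -/
theorem QMod.ker_fix_of_lt {n : ℕ} (hn : 2 ≤ n) (hF : Fintype.card F = p ^ n) :
    ∀ k ∈ ψ.ker, ∀ a ∈ fix ρ (S : Subgroup X), ρ k a ∈ fix ρ (S : Subgroup X) := by
  haveI := h.char
  haveI hQn := H1.pCore_normal' p X
  set Q := Cfsg.pCore p X with hQ
  set π := QuotientGroup.mk' Q with hπ
  have hQk : π.ker = Q := QuotientGroup.ker_mk' Q
  set A := (S : Subgroup X).map π with hA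
  set K := ψ.ker.map π with hK
  have hel : Cfsg.IsElementaryAbelian p A := by
    refine ⟨⟨⟨fun ⟨a, ha⟩ ⟨b, hb⟩ => Subtype.ext ?_⟩⟩, ?_⟩
    · obtain ⟨x, hx, rfl⟩ := ha
      obtain ⟨y, hy, rfl⟩ := hb
      obtain ⟨s, hs⟩ := (h.upper _).1 (mem_map_of_mem ψ hx)
      obtain ⟨t, ht⟩ := (h.upper _).1 (mem_map_of_mem ψ hy)
      show π x * π y = π y * π x
      rw [← map_mul, ← map_mul, hπ, QuotientGroup.mk'_apply, QuotientGroup.mk'_apply,
        QuotientGroup.eq]
      refine h.mem_pCore_of_ker S (mul_mem (inv_mem (mul_mem hx hy)) (mul_mem hy hx)) ?_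
      rw [map_mul, map_inv, map_mul, map_mul, hs, ht, H39.transl_mul, H39.transl_mul, add_comm t s,
        inv_mul_cancel]
    · rintro _ ⟨x, hx, rfl⟩
      obtain ⟨s, hs⟩ := (h.upper _).1 (mem_map_of_mem ψ hx)
      rw [← map_pow, ← MonoidHom.mem_ker, hQk]
      refine h.mem_pCore_of_ker S (pow_mem hx p) ?_
      rw [map_pow, hs, transl_eq, ← map_pow]
      have : H37.upper2 s ^ p = (1 : SL(2, F)) := upE_pow_char (E := F) (p := p) s
      rw [this, map_one]
  have hAcard : Nat.card A = Fintype.card F := by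
    have h1 := card_mul_index (π.domRestrict (S : Subgroup X)).ker
    rw [index_ker, MonoidHom.domRestrict_range, MonoidHom.ker_domRestrict, hQk,
      Nat.card_congr (subgroupOfEquivOfLe (H1.pCore_le_sylow S)).toEquiv, h.card_sylow,
      mul_comm (Fintype.card F)] at h1
    exact Nat.eq_of_mul_eq_mul_left Nat.card_pos h1
  have hAK : A ≤ normalizer (K : Set (X ⧸ Q)) := by
    haveI : K.Normal := Normal.map inferInstance π (QuotientGroup.mk'_surjective Q)
    rw [normalizer_eq_top]; exact le_top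
  have hKp : ¬ p ∣ Nat.card K := by
    intro hdvd
    obtain ⟨⟨y, hy⟩, hyo⟩ := exists_prime_orderOf_dvd_card' p hdvd
    have hyp : IsPGroup p (zpowers y) := by
      refine IsPGroup.of_card (n := 1) ?_
      rw [Nat.card_zpowers, pow_one, ← hyo, Subgroup.orderOf_mk]
    have hyK : zpowers y ≤ K := zpowers_le.2 hy
    have hpre : IsPGroup p ↥((zpowers y).comap π) :=
      hyp.comap_of_ker_isPGroup π (by rw [hQk]; exact H1.isPGroup_pCore p X)
    obtain ⟨P, hP⟩ := hpre.exists_le_sylow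
    obtain ⟨k, hk, hky⟩ := hy
    have hk' : k ∈ (zpowers y).comap π := by rw [Subgroup.mem_comap, hky]; exact mem_zpowers y
    have hkQ := h.mem_pCore_of_ker P (hP hk') hk
    have : y = 1 := by rw [← hky, ← MonoidHom.mem_ker, hQk]; exact hkQ
    rw [← Subgroup.orderOf_coe] at hyo
    simp only [this, orderOf_one] at hyo
    exact (Fact.out : p.Prime).one_lt.ne hyo
  let W : Subgroup X := stab ρ (fix ρ (S : Subgroup X))
  have hQW : Q ≤ W := fun x hx a ha => by rw [hU.triv x hx]; exact ha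
  have hle : K ≤ W.map π := by
    refine H8.generation_elements (p := p) hel ?_ hAK hKp fun a ha ha1 => ?_
    · rw [hAcard, hF]
      exact Nat.pow_le_pow_right (Fact.out : p.Prime).pos hn
    rintro y ⟨hyK, hyc⟩
    obtain ⟨k, hk, rfl⟩ := hyK
    obtain ⟨x, hx, rfl⟩ := ha
    refine mem_map_of_mem π (show k ∈ W from fun u hu => ?_)
    have hxQ : x ∉ Q := fun hh => ha1 (by rw [← MonoidHom.mem_ker, hQk]; exact hh)
    refine hU.mem_fix_of_fixed h hx hxQ ?_
    have h1 : π (x * k) = π (k * x) := by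
      rw [map_mul, map_mul]
      exact (mem_centralizer_singleton_iff.1 hyc).symm
    have h2 : ρ (x * k) = ρ (k * x) := by
      rw [hπ, QuotientGroup.mk'_apply, QuotientGroup.mk'_apply, QuotientGroup.eq] at h1
      calc ρ (x * k) = ρ (x * k) * ρ ((x * k)⁻¹ * (k * x)) := by rw [hU.triv _ h1, mul_one]
        _ = ρ (k * x) := by rw [← map_mul, mul_inv_cancel_left]
    calc ρ x (ρ k u) = ρ (x * k) u := (rho_mul x k u).symm
      _ = ρ (k * x) u := by rw [h2]
      _ = ρ k u := by rw [rho_mul, hu x hx]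
  intro k hk
  obtain ⟨w, hw, hwk⟩ := hle (mem_map_of_mem π hk)
  have hwk' : w⁻¹ * k ∈ W := hQW (by
    rw [hπ, QuotientGroup.mk'_apply, QuotientGroup.mk'_apply, QuotientGroup.eq] at hwk
    exact hwk)
  have := mul_mem (show w ∈ W from hw) hwk'
  rwa [mul_inv_cancel_left] at this

/-- `q = 2`, at most four elements. -/
theorem QMod.ker_fix_of_two (hF : Fintype.card F = 2) (hU4 : Nat.card U ≤ 4) :
    ∀ k ∈ ψ.ker, ∀ a ∈ fix ρ (S : Subgroup X), ρ k a ∈ fix ρ (S : Subgroup X) := by
  classical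
  haveI := h.char
  obtain ⟨P, hne⟩ := h.exists_map_ne S
  obtain ⟨g, rfl⟩ := MulAction.exists_smul_eq X S P
  obtain ⟨x, hx, hxQ⟩ := h.ctx.exists_notMem
  set A := fix ρ (S : Subgroup X) with hAdef
  set B := fix ρ ((g • S : Sylow p X) : Subgroup X) with hBdef
  have hAB : ∀ u, u ∈ A → u ∈ B → u = 0 := fun u h1 h2 => hU.fix_inter h hne hx hxQ (h1 x hx) h2
  let e : A ≃ B :=
    { toFun := fun a => ⟨ρ g a, mem_fix_smul.2 (by rw [rho_inv_self]; exact a.2)⟩
      invFun := fun b => ⟨ρ g⁻¹ b, mem_fix_smul.1 b.2⟩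
      left_inv := fun a => Subtype.ext (rho_inv_self g _)
      right_inv := fun b => Subtype.ext (rho_self_inv g _) }
  have hinj : Function.Injective (fun w : A × B => (w.1 : U) + w.2) := by
    rintro ⟨a, b⟩ ⟨a', b'⟩ he
    have h1 : (a : U) - a' = (b' : U) - b := by
      rw [sub_eq_sub_iff_add_eq_add]
      exact (he : (a : U) + b = a' + b').trans (add_comm _ _)
    have h2 := hAB _ (sub_mem a.2 a'.2) (h1 ▸ sub_mem b'.2 b.2)
    have h3 : (b' : U) - b = 0 := h1 ▸ h2
    exact Prod.ext (Subtype.ext (sub_eq_zero.1 h2)) (Subtype.ext (sub_eq_zero.1 h3).symm)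
  have hcard : Nat.card A * Nat.card A ≤ 4 := by
    have := Nat.card_le_card_of_injective _ hinj
    rw [Nat.card_prod, ← Nat.card_congr e] at this
    omega
  have hAle : Nat.card A ≤ 2 := by
    by_contra hcon
    have := Nat.mul_le_mul (not_le.1 hcon) (not_le.1 hcon)
    omega
  intro k hk a ha
  by_cases ha0 : a = 0
  · rw [ha0, map_zero]; exact A.zero_mem
  have htwo : ∀ {C : AddSubgroup U}, Nat.card C ≤ 2 → ∀ u ∈ C, ∀ v ∈ C, u ≠ 0 → v ≠ 0 → u = v := by
    intro C hC u hu v hv hu0 hv0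
    by_contra huv
    haveI : Fintype C := Fintype.ofFinite C
    have h3 : 3 ≤ Nat.card C := by
      rw [Nat.card_eq_fintype_card]
      have hs : ({0, ⟨u, hu⟩, ⟨v, hv⟩} : Finset C).card = 3 := by
        rw [Finset.card_insert_of_notMem, Finset.card_pair]
        · exact fun hh => huv (congrArg Subtype.val hh)
        · simp only [Finset.mem_insert, Finset.mem_singleton, not_or]
          exact ⟨fun hh => hu0 (congrArg Subtype.val hh).symm,
            fun hh => hv0 (congrArg Subtype.val hh).symm⟩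
      rw [← hs]
      exact Finset.card_le_univ _
    omega
  -- the module has the four elements `0, a, b, a + b`
  set b := ρ g a with hb
  have hbB : b ∈ B := mem_fix_smul.2 (by rw [hb, rho_inv_self]; exact ha)
  have hb0 : b ≠ 0 := fun hh => ha0 (by rw [← rho_inv_self (ρ := ρ) g a, ← hb, hh, map_zero])
  have hform : ∀ u, u = 0 ∨ u = a ∨ u = b ∨ u = a + b := by
    intro u
    obtain ⟨a', ha', b', hb', rfl⟩ := AddSubgroup.mem_sup.1
      (show u ∈ A ⊔ B from hU.fix_sup h hne ▸ AddSubgroup.mem_top u)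
    have hBle : Nat.card B ≤ 2 := (Nat.card_congr e).symm.trans_le hAle
    by_cases h1 : a' = 0 <;> by_cases h2 : b' = 0
    · left; simp [h1, h2]
    · right; right; left; simp [h1, htwo hBle b' hb' b hbB h2 hb0]
    · right; left; simp [h2, htwo hAle a' ha' a ha h1 ha0]
    · right; right; right
      rw [htwo hBle b' hb' b hbB h2 hb0, htwo hAle a' ha' a ha h1 ha0]
  -- `x` moves `b` to `a + b`
  have hxb : ρ x b = a + b := by
    have hm := hU.sub_mem_fix h S hx b
    have hne0 : ρ x b - b ≠ 0 := fun h0 =>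
      hb0 (hU.fix_inter h hne hx hxQ (sub_eq_zero.1 h0) hbB)
    exact sub_eq_iff_eq_add.1 (htwo hAle _ hm a ha hne0 ha0)
  by_contra hka
  -- some element of `ψ.ker ⊔ S` maps `a` to `b`
  obtain ⟨m, hm, hma⟩ : ∃ m ∈ ψ.ker ⊔ (S : Subgroup X), ρ m a = b := by
    rcases hform (ρ k a) with h1 | h1 | h1 | h1
    · exact absurd (h1 ▸ A.zero_mem) hka
    · exact absurd (h1.symm ▸ ha) hka
    · exact ⟨k, mem_sup_left hk, h1⟩
    · refine ⟨x⁻¹ * k, mul_mem (mem_sup_right (inv_mem hx)) (mem_sup_left hk), ?_⟩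
      rw [rho_mul, h1, ← hxb, rho_inv_self]
  -- then `ψ.ker ⊔ S` is everything on the module
  refine hU.false_of_top h (eq_top_iff.2 ?_)
  set N := (ψ.ker ⊔ (S : Subgroup X)) ⊔ ρ.ker with hN
  have hfixa : ∀ f, ρ f a = a → f ∈ N := by
    intro f hf
    have key : ∀ f', ρ f' a = a → ρ f' b = ρ f b → f' ∈ N → f ∈ N := by
      intro f' h1 h2 h3
      have hk' : f'⁻¹ * f ∈ ρ.ker := by
        rw [MonoidHom.mem_ker]
        refine DFunLike.ext _ _ fun u => ?_
        show ρ (f'⁻¹ * f) u = u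
        have hab : ∀ v, v = a ∨ v = b → ρ (f'⁻¹ * f) v = v := by
          rintro v (rfl | rfl)
          · rw [rho_mul, hf]; nth_rw 1 [← h1]; rw [rho_inv_self]
          · rw [rho_mul, ← h2, rho_inv_self]
        rcases hform u with rfl | rfl | rfl | rfl
        · exact map_zero _
        · exact hab _ (Or.inl rfl)
        · exact hab _ (Or.inr rfl)
        · rw [map_add, hab _ (Or.inl rfl), hab _ (Or.inr rfl)]
      have := mul_mem h3 (mem_sup_right (S := ψ.ker ⊔ (S : Subgroup X)) hk')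
      rwa [mul_inv_cancel_left] at this
    rcases hform (ρ f b) with h1 | h1 | h1 | h1
    · exact absurd (by rw [← rho_inv_self (ρ := ρ) f b, h1, map_zero]) hb0
    · refine absurd ?_ hb0
      have : b = a := by
        rw [← rho_inv_self (ρ := ρ) f b, h1]
        conv_lhs => rw [← hf]
        rw [rho_inv_self]
      exact hAB b (this ▸ ha) hbB
    · exact key 1 (rho_one a) (by rw [rho_one, h1]) (one_mem _)
    · exact key x (ha x hx) (by rw [hxb, h1]) (mem_sup_left (mem_sup_right hx))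
  intro f _
  have hmN : m ∈ N := mem_sup_left hm
  have hxN : x ∈ N := mem_sup_left (mem_sup_right hx)
  rcases hform (ρ f a) with h1 | h1 | h1 | h1
  · exact absurd (by rw [← rho_inv_self (ρ := ρ) f a, h1, map_zero]) ha0
  · exact hfixa f h1
  · have := mul_mem hmN (hfixa (m⁻¹ * f) (by rw [rho_mul, h1, ← hma, rho_inv_self]))
    rwa [mul_inv_cancel_left] at this
  · have h2 : ρ (x * m) a = a + b := by rw [rho_mul, hma, hxb]
    have := mul_mem (mul_mem hxN hmN)
      (hfixa ((x * m)⁻¹ * f) (by rw [rho_mul, h1, ← h2, rho_inv_self]))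
    rwa [mul_inv_cancel_left] at this

/-- `q = p`: the group acts as matrices over a domain. -/
theorem QMod.exists_coords (hF : Fintype.card F = p) :
    ∃ (E : Type u) (_ : CommRing E) (_ : IsDomain E) (_ : Finite E)
      (_ : CharP E p) (M : X →* SL(2, E)) (s s' : X) (lam : E),
      s ∈ (S : Subgroup X) ∧ ψ s = H39.transl 1 ∧ ψ s' = lowP 1 ∧ lam ≠ 0 ∧
      M s = upE 1 ∧ M s' = lwE lam ∧
      (∀ g : X, g ∈ closure ({s, s'} : Set X) ⊔ Cfsg.pCore p X) ∧
      (∀ x ∈ Cfsg.pCore p X, M x = 1) ∧ (∀ g, M g = 1 → ρ g = 1) ∧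
      (∀ g, (M g) 1 0 = 0 → ∀ a ∈ fix ρ (S : Subgroup X), ρ g a ∈ fix ρ (S : Subgroup X)) := by
  classical
  haveI := h.char
  obtain ⟨S', hS'⟩ := h.exists_lower
  set A := fix ρ (S : Subgroup X) with hAdef
  set B := fix ρ (S' : Subgroup X) with hBdef
  obtain ⟨s, hs, hψs⟩ := (h.upper (H39.transl 1)).2 ⟨1, rfl⟩
  obtain ⟨s', hs', hψs'⟩ := (hS' (lowP 1)).2 ⟨1, rfl⟩
  have hne : (S : Subgroup X).map ψ ≠ (S' : Subgroup X).map ψ := by
    intro e
    obtain ⟨a, ha⟩ := (h.upper (lowP 1)).1 (e ▸ (hS' _).2 ⟨1, rfl⟩)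
    exact lowP_ne_transl a ha
  have hsQ : s ∉ Cfsg.pCore p X := fun hq =>
    H39.transl_ne_one one_ne_zero (hψs.symm.trans (h.pCore_le_ker hq))
  have hs'Q : s' ∉ Cfsg.pCore p X := fun hq => by
    have h1 : lowP (1 : F) = 1 := hψs'.symm.trans (h.pCore_le_ker hq)
    exact lowP_ne_transl (0 : F) (by rw [h1, H39.transl_zero])
  -- every parameter is a natural number
  have hnat : ∀ t : F, ∃ i : ℕ, (i : F) = t := by
    intro t
    haveI : NeZero p := ⟨(Fact.out : p.Prime).ne_zero⟩
    have hbij := (Fintype.bijective_iff_injective_and_card (ZMod.castHom dvd_rfl F)).2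
      ⟨RingHom.injective _, by rw [ZMod.card, hF]⟩
    obtain ⟨z, rfl⟩ := hbij.2 t
    exact ⟨z.val, by rw [← map_natCast (ZMod.castHom dvd_rfl F) z.val, ZMod.natCast_zmod_val]⟩
  have hgen : ∀ g : X, g ∈ closure ({s, s'} : Set X) ⊔ Cfsg.pCore p X := by
    have hS1 : (S : Subgroup X) ≤ closure ({s, s'} : Set X) ⊔ Cfsg.pCore p X := by
      intro x hx
      obtain ⟨t, ht⟩ := (h.upper _).1 (mem_map_of_mem ψ hx)
      obtain ⟨i, rfl⟩ := hnat t
      have hk : (s ^ i)⁻¹ * x ∈ Cfsg.pCore p X := by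
        refine h.mem_pCore_of_ker S (mul_mem (inv_mem (pow_mem hs i)) hx) ?_
        rw [map_mul, map_inv, map_pow, hψs, ht, transl_eq, transl_eq, ← map_pow]
        have : H37.upper2 (1 : F) ^ i = H37.upper2 (i : F) := (upE_pow (1 : F) i).trans (by rw [mul_one]; rfl)
        rw [this, inv_mul_cancel]
      have := mul_mem (mem_sup_left (T := Cfsg.pCore p X)
        (pow_mem (subset_closure (show s ∈ ({s, s'} : Set X) by simp)) i)) (mem_sup_right hk)
      rwa [mul_inv_cancel_left] at this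
    have hS2 : (S' : Subgroup X) ≤ closure ({s, s'} : Set X) ⊔ Cfsg.pCore p X := by
      intro x hx
      obtain ⟨t, ht⟩ := (hS' _).1 (mem_map_of_mem ψ hx)
      obtain ⟨i, rfl⟩ := hnat t
      have hk : (s' ^ i)⁻¹ * x ∈ Cfsg.pCore p X := by
        refine h.mem_pCore_of_ker S' (mul_mem (inv_mem (pow_mem hs' i)) hx) ?_
        rw [map_mul, map_inv, map_pow, hψs', ht, lowP, lowP, ← map_pow]
        have : H37.lower2 (1 : F) ^ i = H37.lower2 (i : F) := (lwE_pow (1 : F) i).trans (by rw [mul_one]; rfl)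
        rw [this, inv_mul_cancel]
      have := mul_mem (mem_sup_left (T := Cfsg.pCore p X)
        (pow_mem (subset_closure (show s' ∈ ({s, s'} : Set X) by simp)) i)) (mem_sup_right hk)
      rwa [mul_inv_cancel_left] at this
    intro g
    exact (sup_le hS1 hS2) (hU.eq_top_of_inv h hne ▸ mem_top g)
  -- the coordinates
  have hEsub : ∀ u, ρ s u - u ∈ A := fun u => hU.sub_mem_fix h S hs u
  have hLsub : ∀ u, ρ s' u - u ∈ B := fun u => hU.sub_mem_fix h S' hs' u
  let φ : B →+ A :=
    { toFun := fun b => ⟨ρ s b - b, hEsub b⟩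
      map_zero' := Subtype.ext (by simp)
      map_add' := fun x y => Subtype.ext (by
        show ρ s ((x : U) + y) - ((x : U) + y) = ρ s x - x + (ρ s y - y)
        rw [map_add]; abel) }
  let χ : A →+ B :=
    { toFun := fun a => ⟨ρ s' a - a, hLsub a⟩
      map_zero' := Subtype.ext (by simp)
      map_add' := fun x y => Subtype.ext (by
        show ρ s' ((x : U) + y) - ((x : U) + y) = ρ s' x - x + (ρ s' y - y)
        rw [map_add]; abel) }
  have hφinj : Function.Injective φ := by
    rw [injective_iff_map_eq_zero]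
    intro b hb
    have hb' : ρ s b - b = 0 := congrArg Subtype.val hb
    exact Subtype.ext (hU.fix_inter h hne hs hsQ (sub_eq_zero.1 hb') b.2)
  have hχinj : Function.Injective χ := by
    rw [injective_iff_map_eq_zero]
    intro a ha
    have ha' : ρ s' a - a = 0 := congrArg Subtype.val ha
    exact Subtype.ext (hU.fix_inter h hne.symm hs' hs'Q (sub_eq_zero.1 ha') a.2)
  let ι : B ≃+ A := AddEquiv.ofBijective φ
    (hφinj.bijective_of_nat_card_le (Nat.card_le_card_of_injective _ hχinj))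
  set γ : AddMonoid.End A := ι.toAddMonoidHom.comp χ with hγ
  set E : Subring (AddMonoid.End A) := Subring.closure {γ} with hE
  letI : CommRing E := Subring.closureCommRingOfComm (by
    rintro a rfl b rfl; rfl)
  let lam : E := ⟨γ, Subring.subset_closure rfl⟩
  let θ : A × A → U := fun w => (w.1 : U) + ((ι.symm w.2 : B) : U)
  have hθadd : ∀ w w', θ (w + w') = θ w + θ w' := by
    intro w w'
    show ((w.1 + w'.1 : A) : U) + ((ι.symm (w.2 + w'.2) : B) : U) = _
    rw [map_add, AddSubgroup.coe_add, AddSubgroup.coe_add]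
    show _ = (w.1 : U) + ((ι.symm w.2 : B) : U) + ((w'.1 : U) + ((ι.symm w'.2 : B) : U))
    abel
  have hθinj : Function.Injective θ := by
    intro w w' e
    have h1 : (w.1 : U) - w'.1 = ((ι.symm w'.2 : B) : U) - ((ι.symm w.2 : B) : U) := by
      rw [sub_eq_sub_iff_add_eq_add]
      exact (e : θ w = θ w').trans (add_comm _ _)
    have h2 := hU.fix_inter h hne hs hsQ ((sub_mem w.1.2 w'.1.2 : (w.1 : U) - w'.1 ∈ A) s hs)
      (h1 ▸ sub_mem (ι.symm w'.2).2 (ι.symm w.2).2)
    have h3 := h1 ▸ h2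
    exact Prod.ext (Subtype.ext (sub_eq_zero.1 h2))
      (ι.symm.injective (Subtype.ext (sub_eq_zero.1 h3).symm))
  have hθsurj : Function.Surjective θ := by
    intro u
    obtain ⟨a, ha, b, hb, rfl⟩ := AddSubgroup.mem_sup.1
      (show u ∈ A ⊔ B from hU.fix_sup h hne ▸ AddSubgroup.mem_top u)
    exact ⟨(⟨a, ha⟩, ι ⟨b, hb⟩), by simp [θ]⟩
  let act : SL(2, E) → A × A → A × A := fun m w =>
    ((m 0 0).1 w.1 + (m 0 1).1 w.2, (m 1 0).1 w.1 + (m 1 1).1 w.2)
  have hact : ∀ m m' w, act (m * m') w = act m (act m' w) := by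
    intro m m' w
    have e : ∀ i j, ((m * m' : SL(2, E)) i j).1 =
        (m i 0).1 * (m' 0 j).1 + (m i 1).1 * (m' 1 j).1 := fun i j => by
      rw [show ((m * m' : SL(2, E)) i j) = m i 0 * m' 0 j + m i 1 * m' 1 j by
        simp [Matrix.mul_apply, Fin.sum_univ_two]]
      rfl
    simp only [act, e]
    refine Prod.ext ?_ ?_ <;>
    · show _ + _ = _
      simp only [map_add]
      show (_ + _ : A) + (_ + _ : A) = (_ + _ : A) + (_ + _ : A)
      exact add_add_add_comm _ _ _ _
  have hact1 : ∀ w, act 1 w = w := by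
    intro w
    refine Prod.ext ?_ ?_
    · show (1 : AddMonoid.End A) w.1 + (0 : AddMonoid.End A) w.2 = w.1
      exact add_zero _
    · show (0 : AddMonoid.End A) w.1 + (1 : AddMonoid.End A) w.2 = w.2
      exact zero_add _
  have huniq : ∀ m m', (∀ w, θ (act m w) = θ (act m' w)) → m = m' := by
    intro m m' e
    have e' := fun w => hθinj (e w)
    apply Subtype.ext; ext i j : 2
    refine DFunLike.ext _ _ fun a => ?_
    fin_cases i <;> fin_cases j
    · simpa [act] using congrArg Prod.fst (e' (a, 0))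
    · simpa [act] using congrArg Prod.fst (e' (0, a))
    · simpa [act] using congrArg Prod.snd (e' (a, 0))
    · simpa [act] using congrArg Prod.snd (e' (0, a))
  have hMs : ∀ w, ρ s (θ w) = θ (act (upE 1) w) := by
    intro w
    show ρ s ((w.1 : U) + ((ι.symm w.2 : B) : U)) = _
    rw [map_add, w.1.2 s hs]
    have e1 : ρ s ((ι.symm w.2 : B) : U) = (w.2 : U) + ((ι.symm w.2 : B) : U) := by
      have e2 : φ (ι.symm w.2) = w.2 := ι.apply_symm_apply w.2
      have e3 : ρ s ((ι.symm w.2 : B) : U) - ((ι.symm w.2 : B) : U) = (w.2 : U) :=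
        congrArg Subtype.val e2
      exact sub_eq_iff_eq_add.1 e3
    rw [e1]
    show _ = (((1 : AddMonoid.End A) w.1 + (1 : AddMonoid.End A) w.2 : A) : U) +
      ((ι.symm ((0 : AddMonoid.End A) w.1 + (1 : AddMonoid.End A) w.2) : B) : U)
    rw [show ((0 : AddMonoid.End A) w.1 + (1 : AddMonoid.End A) w.2) = w.2 from zero_add _]
    show _ = ((w.1 + w.2 : A) : U) + _
    rw [AddSubgroup.coe_add, add_assoc]
  have hMs' : ∀ w, ρ s' (θ w) = θ (act (lwE lam) w) := by
    intro w
    show ρ s' ((w.1 : U) + ((ι.symm w.2 : B) : U)) = _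
    rw [map_add, (ι.symm w.2).2 s' hs']
    show _ = (((1 : AddMonoid.End A) w.1 + (0 : AddMonoid.End A) w.2 : A) : U) +
      ((ι.symm (γ w.1 + (1 : AddMonoid.End A) w.2) : B) : U)
    rw [show ((1 : AddMonoid.End A) w.1 + (0 : AddMonoid.End A) w.2) = w.1 from add_zero _, map_add,
      show ι.symm (γ w.1) = χ w.1 from ι.symm_apply_apply _, AddSubgroup.coe_add]
    show _ = (w.1 : U) + ((ρ s' w.1 - w.1) + ((ι.symm w.2 : B) : U))
    abel
  let N : Subgroup X :=
    { carrier := {g | ∃ m : SL(2, E), ∀ w, ρ g (θ w) = θ (act m w)}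
      one_mem' := ⟨1, fun w => by rw [rho_one, hact1]⟩
      mul_mem' := fun {a b} ⟨m, hm⟩ ⟨m', hm'⟩ => ⟨m * m', fun w => by
        rw [rho_mul, hm', hm, hact]⟩
      inv_mem' := fun {a} ⟨m, hm⟩ => ⟨m⁻¹, fun w => by
        have := congrArg (ρ a⁻¹) (hm (act m⁻¹ w))
        rw [rho_inv_self, ← hact, mul_inv_cancel, hact1] at this
        exact this.symm⟩ }
  have hN : ∀ g, g ∈ N := fun g => by
    have hle : closure ({s, s'} : Set X) ⊔ Cfsg.pCore p X ≤ N := by
      refine sup_le ((closure_le _).2 ?_) fun x hx => ⟨1, fun w => by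
        rw [hU.triv x hx, hact1]; rfl⟩
      rintro x (rfl | rfl)
      · exact ⟨_, hMs⟩
      · exact ⟨_, hMs'⟩
    exact hle (hgen g)
  choose m hm using fun g : X => (hN g : ∃ m : SL(2, E), ∀ w, ρ g (θ w) = θ (act m w))
  let M : X →* SL(2, E) := MonoidHom.mk' m fun a b => huniq _ _ fun w => by
    rw [← hm, rho_mul, hm b, hm a, hact]
  obtain ⟨g0, u0, hgu⟩ := hU.nt
  have hAne : ∃ a : A, a ≠ 0 := by
    by_contra hcon
    push Not at hcon
    apply hgu
    have : ∀ u : U, u = 0 := fun u => by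
      obtain ⟨w, rfl⟩ := hθsurj u
      show (w.1 : U) + ((ι.symm w.2 : B) : U) = 0
      rw [hcon w.1, hcon w.2, map_zero]
      simp
    exact (this _).trans (this u0).symm
  -- the coefficients have no zero divisors
  have hdom : ∀ e : E, e ≠ 0 → Function.Injective (e : AddMonoid.End A) := by
    intro e he
    let W : AddSubgroup U :=
      { carrier := {u | ∃ w : A × A, θ w = u ∧ e.1 w.1 = 0 ∧ e.1 w.2 = 0}
        zero_mem' := ⟨0, by show ((0 : A) : U) + _ = 0; simp, map_zero _, map_zero _⟩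
        add_mem' := fun {a b} ⟨w, h1, h2, h3⟩ ⟨w', h1', h2', h3'⟩ =>
          ⟨w + w', by rw [hθadd, h1, h1'], by simp [h2, h2'], by simp [h3, h3']⟩
        neg_mem' := fun {a} ⟨w, h1, h2, h3⟩ => ⟨-w, by
          rw [← h1, eq_neg_iff_add_eq_zero, ← hθadd, neg_add_cancel]
          show ((0 : A) : U) + _ = 0
          simp, by simp [h2], by simp [h3]⟩ }
    have hcomm : ∀ (c : E) (a : A), e.1 a = 0 → e.1 (c.1 a) = 0 := by
      intro c a ha
      have : e.1 * c.1 = c.1 * e.1 := congrArg Subtype.val (mul_comm e c)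
      show (e.1 * c.1) a = 0
      rw [this]
      show c.1 (e.1 a) = 0
      rw [ha, map_zero]
    have hinvW : ∀ g : X, ∀ v ∈ W, ρ g v ∈ W := by
      rintro g v ⟨w, rfl, h2, h3⟩
      refine ⟨act (m g) w, (hm g w).symm, ?_, ?_⟩
      · show e.1 (_ + _) = 0
        rw [map_add, hcomm _ _ h2, hcomm _ _ h3, add_zero]
      · show e.1 (_ + _) = 0
        rw [map_add, hcomm _ _ h2, hcomm _ _ h3, add_zero]
    rcases hU.irr W hinvW with hW | hW
    · rw [injective_iff_map_eq_zero]
      intro a ha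
      have : θ (a, 0) ∈ W := ⟨(a, 0), rfl, ha, map_zero _⟩
      rw [hW, AddSubgroup.mem_bot] at this
      have h0 : θ (a, 0) = θ 0 := this.trans (by show 0 = ((0 : A) : U) + _; simp)
      exact congrArg Prod.fst (hθinj h0)
    · refine absurd (Subtype.ext (DFunLike.ext _ _ fun a => ?_)) he
      obtain ⟨w, h1, h2, -⟩ := (hW ▸ AddSubgroup.mem_top (θ (a, 0)) : θ (a, 0) ∈ W)
      rw [hθinj h1] at h2
      exact h2
  haveI : Nontrivial E := by
    obtain ⟨a, ha⟩ := hAne
    exact ⟨⟨1, 0, fun e => ha (by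
      have := congrArg (fun c : E => c.1 a) e
      simpa using this)⟩⟩
  haveI : NoZeroDivisors E := ⟨fun {a b} hab => by
    by_contra hcon
    push Not at hcon
    refine hcon.2 (Subtype.ext (DFunLike.ext _ _ fun x => hdom a hcon.1 ?_))
    show (a.1 * b.1) x = a.1 0
    rw [show a.1 * b.1 = (a * b).1 from rfl, hab, map_zero]
    rfl⟩
  haveI : IsDomain E := NoZeroDivisors.to_isDomain E
  have hlam : lam ≠ 0 := by
    intro h0
    obtain ⟨a, ha⟩ := hAne
    refine ha (hχinj (ι.injective ?_))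
    rw [map_zero, map_zero]
    exact congrArg (fun c : E => c.1 a) h0
  have hMsE : M s = upE 1 := huniq _ _ fun w => (hm s w).symm.trans (hMs w)
  have hchar : CharP E p := by
    have h1 : M (s ^ p) = 1 := huniq _ _ fun w => (hm _ w).symm.trans (by
      rw [hU.triv (s ^ p) (h.mem_pCore_of_ker S (pow_mem hs p) (by
        rw [map_pow, hψs, transl_eq, ← map_pow]
        have : H37.upper2 (1 : F) ^ p = (1 : SL(2, F)) := upE_pow_char (E := F) (p := p) 1
        rw [this, map_one])), hact1]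
      rfl)
    rw [map_pow, hMsE, upE_pow, mul_one] at h1
    have h2 : ((p : ℕ) : E) = 0 := by simpa [coe_upE] using congrArg (fun g : SL(2, E) => g 0 1) h1
    haveI := ringChar.charP E
    have h3 : ringChar E ∣ p := (ringChar.spec E p).1 h2
    rcases (Nat.dvd_prime Fact.out).1 h3 with h4 | h4
    · exact absurd h4 (CharP.ringChar_ne_one)
    · exact h4 ▸ ringChar.charP E
  haveI : Finite E := Finite.of_injective (fun e : E => fun a => (e.1 a : U)) fun a b e =>
    Subtype.ext (DFunLike.ext _ _ fun x => Subtype.ext (congrFun e x))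
  refine ⟨E, inferInstance, inferInstance, inferInstance, hchar, M, s, s', lam, hs, hψs, hψs', hlam, hMsE,
    huniq _ _ fun w => (hm s' w).symm.trans (hMs' w), hgen,
    fun x hx => huniq _ _ fun w => (hm x w).symm.trans (by rw [hU.triv x hx, hact1]; rfl),
    fun g hg => DFunLike.ext _ _ fun u => ?_, fun g hg a ha => ?_⟩
  · obtain ⟨w, rfl⟩ := hθsurj u
    show ρ g (θ w) = θ w
    rw [hm, show m g = 1 from hg, hact1]
  · have h0 : θ (⟨a, ha⟩, 0) = a := by simp [θ]
    rw [← h0, hm]
    show (((m g 0 0).1 ⟨a, ha⟩ + (m g 0 1).1 0 : A) : U) +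
      ((ι.symm ((m g 1 0).1 ⟨a, ha⟩ + (m g 1 1).1 0) : B) : U) ∈ A
    rw [show m g 1 0 = 0 from hg, map_zero, map_zero, add_zero, add_zero,
      show ((0 : E).1 ⟨a, ha⟩) = 0 from rfl, map_zero]
    exact add_mem ((m g 0 0).1 _).2 A.zero_mem

/-- `q = p > 2`. -/
theorem QMod.ker_fix_of_odd (hp : p ≠ 2) (hF : Fintype.card F = p) :
    ∀ k ∈ ψ.ker, ∀ a ∈ fix ρ (S : Subgroup X), ρ k a ∈ fix ρ (S : Subgroup X) := by
  classical
  haveI := h.char
  obtain ⟨E, iE, iD, iFin, iC, M, s, s', lam, hs, hψs, hψs', hlam, hMs, hMs', hgen, hMQ, hMker, hMA⟩ :=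
    hU.exists_coords h hF
  set K := ψ.ker.map M with hK
  have hco : (Nat.card K).Coprime p := by
    refine (Nat.Prime.coprime_iff_not_dvd Fact.out).2 ?_ |>.symm
    intro hdvd
    obtain ⟨P⟩ := (inferInstance : Nonempty (Sylow p ψ.ker))
    have hPQ : (P : Subgroup ψ.ker).map ψ.ker.subtype ≤ Cfsg.pCore p X := by
      obtain ⟨P', hP'⟩ := (P.2.map ψ.ker.subtype).exists_le_sylow
      rintro _ ⟨y, hy, rfl⟩
      exact h.mem_pCore_of_ker P' (hP' (mem_map_of_mem _ hy)) y.2
    have h1 : Nat.card K ∣ (P : Subgroup ψ.ker).index := by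
      have hle : (P : Subgroup ψ.ker) ≤ (M.domRestrict ψ.ker).ker := fun y hy =>
        hMQ _ (hPQ (mem_map_of_mem _ hy))
      have := index_dvd_of_le hle
      rwa [index_ker, MonoidHom.domRestrict_range] at this
    exact P.not_dvd_index (hdvd.trans h1)
  have hu : ∀ k ∈ K, upE 1 * k * (upE (1 : E))⁻¹ ∈ K := by
    rintro _ ⟨k, hk, rfl⟩
    refine ⟨s * k * s⁻¹, (inferInstance : ψ.ker.Normal).conj_mem k hk s, ?_⟩
    rw [map_mul, map_mul, map_inv, hMs]
  rcases sc_or_three_coprime (p := p) hp hco hu with hsc | ⟨hp3, hall, k0, hk0, htr, hg⟩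
  · exact fun k hk => hMA k (hsc _ (mem_map_of_mem M hk)).2.1
  exfalso
  subst hp3
  have h3 : (3 : E) = 0 := by exact_mod_cast CharP.cast_eq_zero E 3
  -- the square of `s * s'` is in the kernel
  have hm : (upE 1 * lwE lam) * (upE 1 * lwE lam) ∈ K := by
    refine ⟨s * s' * (s * s'), ?_, by rw [map_mul, map_mul, hMs, hMs']⟩
    have hF3 : (3 : F) = 0 := by exact_mod_cast CharP.cast_eq_zero F 3
    rw [SetLike.mem_coe, MonoidHom.mem_ker, map_mul, map_mul, hψs, hψs', transl_eq, lowP,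
      ← map_mul, ← map_mul, ← map_one H39.proj, H39.proj_eq_proj_iff]
    right
    apply Subtype.ext; ext i j
    fin_cases i <;> fin_cases j <;>
      simp [H37.coe_upper2, H37.coe_lower2, Matrix.mul_apply, Fin.sum_univ_two] <;>
      first | linear_combination 2 * hF3 | linear_combination hF3
  have hlam1 : lam = 1 := by
    have e10 : ((upE 1 * lwE lam) * (upE 1 * lwE lam) : SL(2, E)) 1 0 = (2 + lam) * lam := by
      simp [coe_upE, coe_lwE, Matrix.mul_apply, Fin.sum_univ_two]; ring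
    have etr : ((upE 1 * lwE lam) * (upE 1 * lwE lam) : SL(2, E)) 0 0 +
        ((upE 1 * lwE lam) * (upE 1 * lwE lam) : SL(2, E)) 1 1 = (2 + lam) * (2 + lam) - 2 := by
      simp [coe_upE, coe_lwE, Matrix.mul_apply, Fin.sum_univ_two]; ring
    rcases hall _ hm with ⟨h1, -⟩ | ⟨h1, h2⟩
    · rw [e10, mul_eq_zero, or_iff_left hlam] at h1
      linear_combination h1 - h3
    · rw [etr] at h1
      rw [e10] at h2
      exfalso
      have hl2 : 2 * (lam * lam) = 1 := by linear_combination h2 - lam * lam * h1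
      have h5 : (2 + lam) * (2 + lam) = 2 := by linear_combination h1
      have h6 : lam = 2 := by linear_combination hl2 - 2 * h5 + (3 * lam + 1) * h3
      rw [h6] at hl2
      have h7 : ((1 : E)) = 0 := by linear_combination hl2 - 2 * h3
      exact one_ne_zero h7
  -- all entries are in the prime field
  let ι3 : ZMod 3 →+* E := ZMod.castHom dvd_rfl E
  have hrange : ∀ g, M g ∈ (Matrix.SpecialLinearGroup.map (n := Fin 2) ι3).range := by
    have hle : closure ({s, s'} : Set X) ⊔ Cfsg.pCore 3 X ≤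
        ((Matrix.SpecialLinearGroup.map (n := Fin 2) ι3).range).comap M := by
      refine sup_le ((closure_le _).2 ?_) fun x hx => by
        rw [Subgroup.mem_comap, hMQ x hx]; exact one_mem _
      rintro x (rfl | rfl)
      · refine ⟨upE 1, ?_⟩
        rw [hMs]
        apply Subtype.ext; ext i j : 2
        fin_cases i <;> fin_cases j <;> simp [coe_upE]
      · refine ⟨lwE 1, ?_⟩
        rw [hMs', hlam1]
        apply Subtype.ext; ext i j : 2
        fin_cases i <;> fin_cases j <;> simp [coe_lwE]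
    exact fun g => hle (hgen g)
  obtain ⟨k, hk, rfl⟩ := hk0
  obtain ⟨k', hk'⟩ := hrange k
  have ek : ∀ i j, M k i j = ι3 (k' i j) := fun i j => by rw [← hk']; rfl
  -- conjugate so that the diagonal vanishes
  haveI : NeZero (3 : ℕ) := ⟨by norm_num⟩
  set j : ℕ := (-(k' 0 0) * k' 1 0).val with hj
  have hje : (j : E) = -(M k 0 0) * M k 1 0 := by
    rw [ek, ek, ← map_neg, ← map_mul, hj, ← map_natCast ι3, ZMod.natCast_zmod_val]
  set N := ψ.ker ⊔ (S : Subgroup X) with hN
  set k1 := s ^ j * k * (s ^ j)⁻¹ with hk1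
  have hk1N : k1 ∈ N := mem_sup_left ((inferInstance : ψ.ker.Normal).conj_mem k hk (s ^ j))
  have hMk1 : ((M k1 : SL(2, E)) : Matrix (Fin 2) (Fin 2) E) =
      !![0, -(M k 1 0); M k 1 0, 0] := by
    rw [hk1, map_mul, map_mul, map_inv, map_pow, hMs, upE_pow, mul_one, conj_upE, hje]
    have hd := det_eq (M k)
    set γ := M k 1 0 with hγ
    set α := M k 0 0 with hα
    have hβ : M k 0 1 = -γ * (1 + α * α) := by
      have hd' : α * M k 1 1 - M k 0 1 * γ = 1 := hd
      have : M k 1 1 = -α := by linear_combination htr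
      rw [this] at hd'
      linear_combination (-γ) * hd' - M k 0 1 * hg
    have hδ : M k 1 1 = -α := by linear_combination htr
    ext a b
    fin_cases a <;> fin_cases b <;> simp [hβ, hδ]
    · linear_combination (-α) * hg
    · linear_combination (-(α * α * γ)) * hg
    · linear_combination α * hg
  have hlow : M k1 * (upE (1 : E))⁻¹ * (M k1)⁻¹ = lwE 1 := by
    apply Subtype.ext
    rw [Matrix.SpecialLinearGroup.coe_mul, Matrix.SpecialLinearGroup.coe_mul,
      Matrix.SpecialLinearGroup.coe_inv, Matrix.SpecialLinearGroup.coe_inv, hMk1]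
    ext a b
    fin_cases a <;> fin_cases b <;>
      simp [coe_upE, coe_lwE, Matrix.adjugate_fin_two, Matrix.mul_apply, Fin.sum_univ_two] <;>
      linear_combination hg
  refine hU.false_of_top h (eq_top_iff.2 fun g _ => ?_)
  have hle : closure ({s, s'} : Set X) ⊔ Cfsg.pCore 3 X ≤ N ⊔ ρ.ker := by
    refine sup_le ((closure_le _).2 ?_) fun x hx => mem_sup_right (hU.triv x hx)
    rintro x (rfl | rfl)
    · exact mem_sup_left (mem_sup_right hs)
    · have hy : k1 * s⁻¹ * k1⁻¹ ∈ N := mul_mem (mul_mem hk1N (mem_sup_right (inv_mem hs)))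
        (inv_mem hk1N)
      have hker : (k1 * s⁻¹ * k1⁻¹)⁻¹ * x ∈ ρ.ker := hMker _ (by
        rw [map_mul, map_inv, map_mul, map_mul, map_inv, map_inv, hMs, hlow, hMs', hlam1,
          inv_mul_cancel])
      have := mul_mem (mem_sup_left (T := ρ.ker) hy) (mem_sup_right hker)
      rwa [mul_inv_cancel_left] at this
  exact hle (hgen g)

end H71.BGNP
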