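import Cfsg.Agent.H71.BGNP.SplitQd

/-!
A split rank one group which is a maximal local subgroup, with `N(S)` not inside it, is
`Qd(q) × E` with `E` elementary abelian.
-/

set_option autoImplicit false
set_option linter.unusedSectionVars false
set_option linter.style.haveILetI false

open Subgroup Matrix
open scoped MatrixGroups Pointwise commutatorElement

namespace H71.BGNP

/-- Characteristic subgroups are carried by isomorphisms. -/
theorem characteristic_map_equiv {A B : Type*} [Group A] [Group B] (e : A ≃* B) {T : Subgroup A}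
    (hT : T.Characteristic) : (T.map e.toMonoidHom).Characteristic := by
  refine characteristic_iff_map_le.2 fun φ => ?_
  rintro _ ⟨_, ⟨t, ht, rfl⟩, rfl⟩
  refine ⟨e.symm (φ (e t)), ?_, e.apply_symm_apply _⟩
  exact (characteristic_iff_map_le.1 hT ((e.trans φ).trans e.symm)) ⟨t, ht, rfl⟩

/-- An element normalizing the Sylow subgroup normalizes its characteristic subgroups. -/
theorem normalizer_le_normalizer_char {H : Type*} [Group H] (G : Subgroup H) (S : Subgroup G)
    (T : Subgroup S) (hT : T.Characteristic) :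
    normalizer ((S.map G.subtype : Subgroup H) : Set H) ≤
      normalizer (((T.map S.subtype).map G.subtype : Subgroup H) : Set H) := by
  let e := S.equivMapOfInjective G.subtype G.subtype_injective
  haveI := characteristic_map_equiv e hT
  have h1 := H75.normalizer_le_normalizer_map_characteristic (S.map G.subtype) (T.map e.toMonoidHom)
  convert h1 using 3
  rw [Subgroup.map_map, Subgroup.map_map]
  congr 1

section

variable {H : Type*} [Group H] [Finite H] {p : ℕ} [Fact p.Prime] {F : Type} [Field F] [Fintype F]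
  [CharP F p] {G : Subgroup H} {S : Sylow p G} {r : G →* SL(2, F)} {s : SL(2, F) →* G}
  {N R : Subgroup G} {em : (Fin 2 → F) → G}

theorem Split.em_zero (h : Split p F (S : Subgroup G) (Cfsg.pCore p G) r s N R em) : em 0 = 1 := by
  have := h.em_add 0 0
  rwa [add_zero, left_eq_mul] at this

theorem Split.em_neg (h : Split p F (S : Subgroup G) (Cfsg.pCore p G) r s N R em) (v : Fin 2 → F) :
    em (-v) = (em v)⁻¹ := by
  refine eq_inv_of_mul_eq_one_left ?_
  rw [← h.em_add, neg_add_cancel, h.em_zero]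

theorem Split.r_em (h : Split p F (S : Subgroup G) (Cfsg.pCore p G) r s N R em) (v : Fin 2 → F) :
    r (em v) = 1 := by
  rw [← MonoidHom.mem_ker, h.ker]
  exact h.N_le ((h.N_eq _).2 ⟨v, rfl⟩)

/-- Every element is a product of the three pieces. -/
theorem Split.exists_prod (h : Split p F (S : Subgroup G) (Cfsg.pCore p G) r s N R em) (x : G) :
    ∃ v, ∃ c ∈ R, x = em v * s (r x) * c := by
  have hq : x * (s (r x))⁻¹ ∈ Cfsg.pCore p G := by
    rw [← h.ker, MonoidHom.mem_ker, map_mul, map_inv, h.section', mul_inv_cancel]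
  obtain ⟨v, c, hc, e⟩ := h.Q_eq _ hq
  refine ⟨v, c, hc, ?_⟩
  rw [mul_assoc, h.commS _ c hc, ← mul_assoc, e, inv_mul_cancel_right]

/-- Conjugation on `R` only depends on the `R`-part. -/
theorem Split.conj_R (h : Split p F (S : Subgroup G) (Cfsg.pCore p G) r s N R em) (v : Fin 2 → F)
    (A : SL(2, F)) {c d : G} (hc : c ∈ R) (hd : d ∈ R) :
    em v * s A * c * d * (em v * s A * c)⁻¹ = c * d * c⁻¹ := by
  have hcd : c * d * c⁻¹ ∈ R := mul_mem (mul_mem hc hd) (inv_mem hc)
  calc em v * s A * c * d * (em v * s A * c)⁻¹ = em v * (s A * (c * d * c⁻¹)) * (s A)⁻¹ * (em v)⁻¹ := by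
        group
    _ = em v * (c * d * c⁻¹) * (em v)⁻¹ := by rw [h.commS A _ hcd]; group
    _ = _ := by rw [h.commN v _ hcd, mul_inv_cancel_right]

theorem Split.R_normal (h : Split p F (S : Subgroup G) (Cfsg.pCore p G) r s N R em) : R.Normal := by
  refine ⟨fun d hd x => ?_⟩
  obtain ⟨v, c, hc, e⟩ := h.exists_prod x
  rw [e, h.conj_R v _ hc hd]
  exact mul_mem (mul_mem hc hd) (inv_mem hc)

theorem Split.comm_R (h : Split p F (S : Subgroup G) (Cfsg.pCore p G) r s N R em) (hp5 : 5 ≤ p)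
    (hmax : ∀ D : Subgroup H, IsPGroup p D → D ≠ ⊥ → G ≤ normalizer (D : Set H) →
      normalizer (D : Set H) = G)
    (hN : ¬ normalizer (((S : Subgroup G).map G.subtype : Subgroup H) : Set H) ≤ G) :
    ∀ a ∈ R, ∀ b ∈ R, a * b = b * a := by
  classical
  set ι := G.subtype with hι
  have hinj : Function.Injective ι := G.subtype_injective
  set Sn := (S : Subgroup G).map ι with hSn
  have hQS : Cfsg.pCore p G ≤ (S : Subgroup G) := H1.pCore_le_sylow S
  have hRS : R ≤ (S : Subgroup G) := h.R_le.trans hQS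
  have hSG : Sn ≤ G := map_subtype_le _
  set RH := R.map ι with hRH
  have hRHp : IsPGroup p RH := ((H1.isPGroup_pCore p G).to_le h.R_le).map ι
  have hRGn : G ≤ normalizer (RH : Set H) := by
    intro g hg
    haveI := h.R_normal
    have := (le_normalizer_map ι) (mem_map_of_mem ι (show (⟨g, hg⟩ : G) ∈ normalizer (R : Set G) by
      rw [normalizer_eq_top]; trivial))
    exact this
  -- the normalizer of `G`
  have hNG : ∀ n : H, cj n G ≤ G → n ∈ G := by
    intro n hn
    have hn' : n ∈ normalizer (G : Set H) :=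
      mem_normalizer_of_cj_eq (eq_of_le_of_card_ge hn (card_cj n G).ge)
    haveI : (Cfsg.pCore p G).Characteristic := H1.pCore_characteristic p G
    set QH := (Cfsg.pCore p G).map ι with hQH
    have h1 := H75.normalizer_le_normalizer_map_characteristic G (Cfsg.pCore p G) hn'
    have hQne : QH ≠ ⊥ := by
      intro e
      rw [hQH, Subgroup.map_eq_bot_iff_of_injective _ hinj] at e
      have h2 := h.N_le ((h.N_eq _).2 ⟨![1, 0], rfl⟩)
      rw [e, mem_bot, ← h.em_zero] at h2
      have := congrFun (h.em_inj h2) 0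
      simp at this
    rw [← hmax QH ((H1.isPGroup_pCore p G).map ι) hQne (fun g hg => ?_)]
    · exact h1
    · exact H75.normalizer_le_normalizer_map_characteristic G (Cfsg.pCore p G) (le_normalizer hg)
  -- `R` meets its conjugates trivially
  have hclaim : ∀ n ∈ normalizer (Sn : Set H), n ∉ G → RH ⊓ cj n RH = ⊥ := by
    intro n hn hnG
    by_contra hne
    have hDG : G ≤ normalizer ((RH ⊓ cj n RH : Subgroup H) : Set H) := by
      refine H75.le_normalizer_of_conj fun g hg d hd => ?_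
      obtain ⟨v, c, hc, e⟩ := h.exists_prod ⟨g, hg⟩
      obtain ⟨d', hd', rfl⟩ := hd.1
      have hcS : ι c ∈ normalizer ((cj n RH : Subgroup H) : Set H) := by
        have h2 : Sn ≤ normalizer ((cj n RH : Subgroup H) : Set H) := by
          refine le_trans ?_ (le_normalizer_cj (h := n) (hSG.trans hRGn))
          rw [cj_eq_self_of_mem_normalizer hn]
        exact h2 (mem_map_of_mem ι (hRS hc))
      have he : g * ι d' * g⁻¹ = ι c * ι d' * (ι c)⁻¹ := by
        rw [show g = ι ⟨g, hg⟩ from rfl, e, ← map_inv, ← map_mul, ← map_mul,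
          h.conj_R v _ hc hd', map_mul, map_mul, map_inv]
      rw [he]
      refine ⟨?_, (mem_normalizer_iff.1 hcS _).1 hd.2⟩
      rw [← map_inv, ← map_mul, ← map_mul]
      exact mem_map_of_mem ι (mul_mem (mul_mem hc hd') (inv_mem hc))
    have hND := hmax _ (hRHp.to_le inf_le_left) hne hDG
    refine hnG (hNG n ?_)
    rintro _ ⟨g, hg, rfl⟩
    show n * g * n⁻¹ ∈ G
    obtain ⟨v, c, hc, e⟩ := h.exists_prod ⟨g, hg⟩
    have hS' : ∀ {y : G}, y ∈ (S : Subgroup G) → n * ι y * n⁻¹ ∈ G := fun hy =>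
      hSG ((mem_normalizer_iff.1 hn _).1 (mem_map_of_mem ι hy))
    have hs' : n * ι (s (r ⟨g, hg⟩)) * n⁻¹ ∈ G := by
      refine hND.le (centralizer_le_normalizer _ (fun d hd => ?_))
      obtain ⟨d', hd', hd2⟩ := hd.2
      obtain ⟨d'', hd'', rfl⟩ := hd'
      have e1 : ι d'' * ι (s (r ⟨g, hg⟩)) = ι (s (r ⟨g, hg⟩)) * ι d'' := by
        rw [← map_mul, ← map_mul, h.commS _ d'' hd'']
      rw [← hd2]
      show n * ι d'' * n⁻¹ * (n * ι (s (r ⟨g, hg⟩)) * n⁻¹) =
        n * ι (s (r ⟨g, hg⟩)) * n⁻¹ * (n * ι d'' * n⁻¹)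
      calc _ = n * (ι d'' * ι (s (r ⟨g, hg⟩))) * n⁻¹ := by group
        _ = n * (ι (s (r ⟨g, hg⟩)) * ι d'') * n⁻¹ := by rw [e1]
        _ = _ := by group
    have he : g = ι (em v) * ι (s (r ⟨g, hg⟩)) * ι c := by
      rw [← map_mul, ← map_mul, ← e]; rfl
    rw [he, show n * (ι (em v) * ι (s (r ⟨g, hg⟩)) * ι c) * n⁻¹ = (n * ι (em v) * n⁻¹) *
      (n * ι (s (r ⟨g, hg⟩)) * n⁻¹) * (n * ι c * n⁻¹) by group]
    exact mul_mem (mul_mem (hS' (hQS (h.N_le ((h.N_eq _).2 ⟨v, rfl⟩)))) hs') (hS' (hRS hc))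
  obtain ⟨n, hn, hnG⟩ := SetLike.not_le_iff_exists.1 hN
  by_contra hcon
  push Not at hcon
  obtain ⟨a, ha, b, hb, hab⟩ := hcon
  -- the conjugate of `R` commutes with `R`
  set R2 := cj n RH with hR2
  have hR2S : R2 ≤ Sn := by
    rw [hR2, ← cj_eq_self_of_mem_normalizer hn]
    exact cj_mono (map_mono hRS)
  have hSR2 : Sn ≤ normalizer (R2 : Set H) := by
    refine le_trans ?_ (le_normalizer_cj (h := n) (hSG.trans hRGn))
    rw [cj_eq_self_of_mem_normalizer hn]
  have hcomm : ∀ y ∈ R2, ∀ d ∈ RH, y * d = d * y := by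
    intro y hy d hd
    refine commutatorElement_eq_one_iff_mul_comm.1 ?_
    rw [← mem_bot, ← hclaim n hn hnG]
    constructor
    · rw [commutatorElement_def]
      exact RH.mul_mem ((mem_normalizer_iff.1 (hRGn (hSG (hR2S hy))) _).1 hd) (RH.inv_mem hd)
    · rw [commutatorElement_def, mul_assoc y d, mul_assoc y]
      exact mul_mem hy ((mem_normalizer_iff.1 (hSR2 (map_mono hRS hd)) _).1 (R2.inv_mem hy))
  have hSdec : ∀ {x : G}, x ∈ (S : Subgroup G) →
      ∃ v t, ∃ c ∈ R, x = em v * s (H37.upper2 t) * c := by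
    intro x hx
    obtain ⟨t, ht⟩ := (h.S_mem x).1 hx
    obtain ⟨v, c, hc, e⟩ := h.exists_prod x
    exact ⟨v, t, c, hc, by rw [← ht]; exact e⟩
  -- some element of `R2` is outside `N × R`
  obtain ⟨x, hxR, v0, t0, c0, hc0, ex0, ht0⟩ : ∃ x : G, ι x ∈ R2 ∧ ∃ v0 t0, ∃ c0 ∈ R,
      x = em v0 * s (H37.upper2 t0) * c0 ∧ t0 ≠ 0 := by
    by_contra hcon
    push Not at hcon
    have hform : ∀ d ∈ R, ∃ v, ∃ c ∈ R, (∀ y ∈ R, c * y = y * c) ∧
        n * ι d * n⁻¹ = ι (em v * c) := by
      intro d hd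
      have hy : n * ι d * n⁻¹ ∈ R2 := conj_mem_cj.2 (mem_map_of_mem ι hd)
      obtain ⟨x, hx, ex⟩ := hR2S hy
      obtain ⟨v, t, c, hc, e⟩ := hSdec hx
      have ht := hcon x (by rw [ex]; exact hy) v t c hc e
      rw [ht, H78.Nat2.up_zero, map_one, mul_one] at e
      refine ⟨v, c, hc, fun y hy' => ?_, by rw [← ex, e]⟩
      have h1 : x * y = y * x := hinj (by
        rw [map_mul, map_mul, ex]; exact hcomm _ hy _ (mem_map_of_mem ι hy'))
      rw [e, ← mul_assoc, ← h.commN v y hy'] at h1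
      exact mul_left_cancel ((mul_assoc _ _ _).symm.trans (h1.trans (mul_assoc _ _ _)))
    obtain ⟨va, ca, hca, hcca, ea⟩ := hform a ha
    obtain ⟨vb, cb, hcb, -, eb⟩ := hform b hb
    refine hab (hinj ?_)
    have e1 : em va * ca * (em vb * cb) = em vb * cb * (em va * ca) := by
      calc em va * ca * (em vb * cb) = em va * (ca * em vb) * cb := by group
        _ = em va * em vb * (ca * cb) := by rw [← h.commN vb ca hca]; group
        _ = em vb * em va * (cb * ca) := by rw [← h.em_add, add_comm, h.em_add, hcca cb hcb]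
        _ = em vb * (em va * cb) * ca := by group
        _ = em vb * cb * (em va * ca) := by rw [h.commN va cb hcb]; group
    have e2 := congrArg ι e1
    rw [map_mul ι (em va * ca), map_mul ι (em vb * cb), ← ea, ← eb] at e2
    have e3 : n * (ι a * ι b) * n⁻¹ = n * (ι b * ι a) * n⁻¹ := by
      calc _ = n * ι a * n⁻¹ * (n * ι b * n⁻¹) := by group
        _ = _ := e2
        _ = _ := by group
    rw [map_mul, map_mul]
    exact mul_left_cancel (mul_right_cancel e3)
  -- `R2` contains the line fixed by `S`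
  have hline : ∀ d : F, ι (em ![d, 0]) ∈ R2 := by
    intro d
    set w : Fin 2 → F := ![0, d / t0] with hw
    have hew : ι (em w) ∈ Sn := mem_map_of_mem ι (hQS (h.N_le ((h.N_eq _).2 ⟨w, rfl⟩)))
    have e1 : x * em w * x⁻¹ = em ((H37.upper2 t0 : SL(2, F)).1.mulVec w) := by
      rw [ex0]
      calc em v0 * s (H37.upper2 t0) * c0 * em w * (em v0 * s (H37.upper2 t0) * c0)⁻¹
          = em v0 * s (H37.upper2 t0) * (c0 * em w * c0⁻¹) * (s (H37.upper2 t0))⁻¹ * (em v0)⁻¹ := by
            group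
        _ = em v0 * (s (H37.upper2 t0) * em w * (s (H37.upper2 t0))⁻¹) * (em v0)⁻¹ := by
            rw [← h.commN w c0 hc0]; group
        _ = _ := by rw [h.em_act, ← h.em_add, add_comm, h.em_add, mul_inv_cancel_right]
    have e2 : ⁅x, em w⁆ = em ![d, 0] := by
      rw [commutatorElement_def, e1, ← h.em_neg, ← h.em_add]
      congr 1
      ext i
      fin_cases i <;> simp [hw, H37.coe_upper2, Matrix.mulVec, dotProduct, Fin.sum_univ_two]
      field_simp
    rw [← e2, map_commutatorElement, commutatorElement_def, mul_assoc (ι x) (ι (em w)),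
      mul_assoc (ι x)]
    exact mul_mem hxR ((mem_normalizer_iff.1 (hSR2 hew) _).1 (inv_mem hxR))
  -- the torus
  have h2 : (2 : F) ≠ 0 := two_ne_zero_E (p := p) (by omega)
  obtain ⟨D, hD⟩ : ∃ D : SL(2, F),
      (D : Matrix (Fin 2) (Fin 2) F) = !![(2 : F), 0; 0, (2 : F)⁻¹] :=
    ⟨⟨_, by simp [det_fin_two_of, h2]⟩, rfl⟩
  set z := em ![1, 0] with hz
  set τ := s D with hτ
  have hτz : τ * z * τ⁻¹ = em ![2, 0] := by
    rw [hτ, hz, h.em_act]
    congr 1
    ext i
    fin_cases i <;> simp [hD, Matrix.mulVec, dotProduct, Fin.sum_univ_two]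
  have hzc : ∀ y ∈ (S : Subgroup G), y * z * y⁻¹ = z := by
    intro y hy
    obtain ⟨v, t, c, hc, e⟩ := hSdec hy
    rw [e, show em v * s (H37.upper2 t) * c * z * (em v * s (H37.upper2 t) * c)⁻¹ =
      em v * s (H37.upper2 t) * (c * z * c⁻¹) * (s (H37.upper2 t))⁻¹ * (em v)⁻¹ by group,
      hz, ← h.commN _ c hc, mul_inv_cancel_right, mul_assoc (em v) (s _) (em _),
      mul_assoc (em v), h.em_act, ← h.em_add, add_comm, h.em_add, mul_inv_cancel_right]
    congr 1
    ext i
    fin_cases i <;> simp [H37.coe_upper2, Matrix.mulVec, dotProduct, Fin.sum_univ_two]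
  have hτS : ∀ y, y ∈ (S : Subgroup G) → τ * y * τ⁻¹ ∈ (S : Subgroup G) := by
    intro y hy
    obtain ⟨t, ht⟩ := (h.S_mem y).1 hy
    refine (h.S_mem _).2 ⟨2 * 2 * t, ?_⟩
    rw [map_mul, map_mul, map_inv, hτ, h.section', ht]
    apply Subtype.ext
    ext i j
    fin_cases i <;> fin_cases j <;>
      simp [hD, H37.coe_upper2, Matrix.SpecialLinearGroup.coe_mul, Matrix.SpecialLinearGroup.coe_inv,
        Matrix.adjugate_fin_two, Matrix.mul_apply, Fin.sum_univ_two, h2] <;>
      field_simp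
  have hτN : ι τ ∈ normalizer (Sn : Set H) := by
    refine mem_normalizer_of_cj_eq (eq_of_le_of_card_ge ?_ (card_cj _ _).ge)
    rintro _ ⟨_, ⟨y, hy, rfl⟩, rfl⟩
    show ι τ * ι y * (ι τ)⁻¹ ∈ Sn
    rw [← map_inv, ← map_mul, ← map_mul]
    exact mem_map_of_mem ι (hτS y hy)
  set m := n⁻¹ * ι τ * n with hm
  have hmN : m ∈ normalizer (Sn : Set H) := mul_mem (mul_mem (inv_mem hn) hτN) hn
  have hw : n⁻¹ * ι z * n ∈ RH := mem_cj.1 (hline 1)
  have hw' : n⁻¹ * ι (em ![2, 0]) * n ∈ RH := mem_cj.1 (hline 2)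
  have hmw : m * (n⁻¹ * ι z * n) * m⁻¹ = n⁻¹ * ι (em ![2, 0]) * n := by
    rw [← hτz, map_mul, map_mul, map_inv, hm]; group
  by_cases hmG : m ∈ G
  · obtain ⟨d, hd, ed⟩ := hw
    obtain ⟨v, c, hc, e⟩ := h.exists_prod ⟨m, hmG⟩
    have h1 : m * ι d * m⁻¹ = ι c * ι d * (ι c)⁻¹ := by
      rw [show m = ι ⟨m, hmG⟩ from rfl, e, ← map_inv, ← map_mul, ← map_mul,
        h.conj_R v _ hc hd, map_mul, map_mul, map_inv]
    rw [← ed, h1, ed] at hmw
    obtain ⟨y, hy, ey⟩ := (mem_normalizer_iff.1 hn _).1 (mem_map_of_mem ι (hRS hc))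
    have h3 : ι c * (n⁻¹ * ι z * n) * (ι c)⁻¹ = n⁻¹ * ι z * n := by
      calc ι c * (n⁻¹ * ι z * n) * (ι c)⁻¹
          = n⁻¹ * ((n * ι c * n⁻¹) * ι z * (n * ι c * n⁻¹)⁻¹) * n := by group
        _ = _ := by rw [← ey, ← map_inv, ← map_mul, ← map_mul, hzc y hy]
    rw [h3] at hmw
    have h4 := congrFun (h.em_inj (hinj (mul_left_cancel (mul_right_cancel hmw)))) 0
    simp at h4
    have : (1 : F) = 0 := by linear_combination -h4
    exact one_ne_zero this
  · have h0 : n⁻¹ * ι (em ![2, 0]) * n ∈ RH ⊓ cj m RH := ⟨hw', hmw ▸ conj_mem_cj.2 hw⟩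
    rw [hclaim m hmN hmG, mem_bot] at h0
    have h5 : ι (em ![2, 0]) = 1 := by
      calc ι (em ![2, 0]) = n * (n⁻¹ * ι (em ![2, 0]) * n) * n⁻¹ := by group
        _ = 1 := by rw [h0]; group
    rw [← map_one ι, ← h.em_zero] at h5
    have h6 := congrFun (h.em_inj (hinj h5)) 0
    simp at h6
    exact h2 h6

end

end H71.BGNP
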