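import Cfsg.Agent.H71.BGNP.Situation
import Cfsg.Agent.H71.BGNP.Graph
import Cfsg.Agent.H78.PushingUpMain

/-!
The natural module `V = ⟨Ω₁Z(S)^X⟩` in the rank one pushing up situation, any prime.
-/

set_option autoImplicit false
set_option linter.unusedSectionVars false

open Subgroup

namespace H71.BGNP

variable {X : Type*} [Group X] [Finite X] {p : ℕ} [Fact p.Prime]

/-- `A` is an elementary abelian `p`-subgroup. -/
def El (p : ℕ) (A : Subgroup X) : Prop := (∀ a ∈ A, ∀ b ∈ A, a * b = b * a) ∧ ∀ a ∈ A, a ^ p = 1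

/-- The elementary abelian subgroups of `S` of largest order. -/
def maxEl (p : ℕ) (S : Subgroup X) : Set (Subgroup X) :=
  {A | A ≤ S ∧ El p A ∧ ∀ B ≤ S, El p B → Nat.card B ≤ Nat.card A}

theorem exists_maxEl (S : Subgroup X) : ∃ A, A ∈ maxEl p S := by
  obtain ⟨A, ⟨hA, hA'⟩, hmax⟩ := Set.Finite.exists_maximalFor (fun A : Subgroup X => Nat.card A)
    {A : Subgroup X | A ≤ S ∧ El p A} (Set.toFinite _)
    ⟨⊥, bot_le, fun a ha b hb => by rw [mem_bot] at ha hb; simp [ha, hb],
      fun a ha => by rw [mem_bot] at ha; simp [ha]⟩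
  refine ⟨A, hA, hA', fun B hB hB' => ?_⟩
  rcases le_total (Nat.card B) (Nat.card A) with h | h
  · exact h
  · exact hmax ⟨hB, hB'⟩ h

theorem El.map {Y : Type*} [Group Y] {A : Subgroup X} (hA : El p A) (f : X →* Y) : El p (A.map f) := by
  constructor
  · rintro _ ⟨a, ha, rfl⟩ _ ⟨b, hb, rfl⟩
    rw [← map_mul, ← map_mul, hA.1 a ha b hb]
  · rintro _ ⟨a, ha, rfl⟩
    rw [← map_pow, hA.2 a ha, map_one]

/-- An automorphism of `S` permutes the elementary abelian subgroups of largest order. -/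
theorem maxEl_map {S A : Subgroup X} (hA : A ∈ maxEl p S) (φ : MulAut S) :
    ((A.subgroupOf S).map φ.toMonoidHom).map S.subtype ∈ maxEl p S := by
  have hsub : El p (A.subgroupOf S) :=
    ⟨fun a ha b hb => Subtype.ext (hA.2.1.1 _ ha _ hb), fun a ha => Subtype.ext (hA.2.1.2 _ ha)⟩
  refine ⟨map_subtype_le _, (hsub.map _).map _, fun B hB hB' => (hA.2.2 B hB hB').trans_eq ?_⟩
  rw [card_map_of_injective S.subtype_injective, card_map_of_injective φ.injective,
    Nat.card_congr (subgroupOfEquivOfLe hA.1).toEquiv]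

/-- No nontrivial characteristic subgroup of `S` is normal. -/
theorem Sit.eq_bot_of_char {F : Type} [Field F] [Fintype F]
    {ψ : X →* Matrix.ProjectiveSpecialLinearGroup (Fin 2) F} {S : Sylow p X} (hsit : Sit p ψ S) {D : Subgroup X} (hD : D ≤ S)
    (hchar : ∀ φ : MulAut ↥(S : Subgroup X), ∀ d : ↥(S : Subgroup X),
      (d : X) ∈ D → ((φ d : ↥(S : Subgroup X)) : X) ∈ D)
    (hn : D.Normal) : D = ⊥ := by
  by_contra hne
  refine hsit.nochar (D.subgroupOf S) ?_ ?_ ?_
  · rw [characteristic_iff_map_le]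
    rintro φ _ ⟨d, hd, rfl⟩
    exact hchar φ d hd
  · rw [Ne, subgroupOf_eq_bot, disjoint_iff, inf_eq_left.2 hD]
    exact hne
  · rwa [subgroupOf_map_subtype, inf_eq_left.2 hD]

variable {F : Type} [Field F] [Fintype F] {ψ : X →* Matrix.ProjectiveSpecialLinearGroup (Fin 2) F}
  {S : Sylow p X} (hsit : Sit p ψ S)
include hsit

theorem exists_zc_ne_bot : Zc p (S : Subgroup X) ≠ ⊥ := by
  have h1 := hsit.card_sylow
  haveI : Nontrivial (S : Subgroup X) := by
    refine Finite.one_lt_card_iff_nontrivial.1 ?_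
    rw [h1]
    calc 1 < Fintype.card F * 1 := by simpa using Fintype.one_lt_card
      _ ≤ _ := Nat.mul_le_mul_left _ Nat.card_pos
  haveI := S.2.center_nontrivial
  have hd : p ∣ Nat.card (center (S : Subgroup X)) := by
    obtain ⟨k, hk⟩ := IsPGroup.iff_card.1 (S.2.to_subgroup (center (S : Subgroup X)))
    have h2 := Finite.one_lt_card_iff_nontrivial.2
      (inferInstance : Nontrivial (center (S : Subgroup X)))
    rw [hk] at h2 ⊢
    exact dvd_pow_self p (by rintro rfl; simp at h2)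
  obtain ⟨z, hz⟩ := exists_prime_orderOf_dvd_card' p hd
  have hmem : ((z : (S : Subgroup X)) : X) ∈ Zc p (S : Subgroup X) := by
    refine ⟨(z : (S : Subgroup X)).2,
      fun y hy => congrArg Subtype.val (mem_center_iff.1 z.2 ⟨y, hy⟩), ?_⟩
    have h3 : z ^ p = 1 := orderOf_dvd_iff_pow_eq_one.1 hz.dvd
    simpa using congrArg (fun w : center (S : Subgroup X) => ((w : (S : Subgroup X)) : X)) h3
  intro hbot
  rw [hbot, mem_bot] at hmem
  have h4 : z = 1 := Subtype.ext (Subtype.ext hmem)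
  rw [h4, orderOf_one] at hz
  exact (Fact.out : p.Prime).one_lt.ne hz

theorem zc_not_central : ¬ Zc p (S : Subgroup X) ≤ center X := by
  intro hle
  refine exists_zc_ne_bot hsit
    (hsit.eq_bot_of_char (fun z hz => hz.1) (fun φ d hd => ?_) (H78.PU.normal_of_le_center hle))
  refine ⟨(φ d).2, fun y hy => ?_, ?_⟩
  · obtain ⟨w, hw⟩ := φ.surjective (⟨y, hy⟩ : ↥(S : Subgroup X))
    have h1 : w * d = d * w := Subtype.ext (hd.2.1 w w.2)
    have h2 := congrArg (fun u => ((φ u : ↥(S : Subgroup X)) : X)) h1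
    simp only [map_mul, hw, Subgroup.coe_mul] at h2
    exact h2
  · have h1 : d ^ p = 1 := Subtype.ext hd.2.2
    have h2 := congrArg (fun u => ((φ u : ↥(S : Subgroup X)) : X)) h1
    simpa using h2

theorem exists_maxEl_not_le : ∃ A ∈ maxEl p (S : Subgroup X), ¬ A ≤ Cfsg.pCore p X := by
  by_contra hcon
  push Not at hcon
  have hQn := H1.pCore_normal' p X
  set J := sSup (maxEl p (S : Subgroup X)) with hJ
  have hJS : J ≤ (S : Subgroup X) := sSup_le fun A hA => hA.1
  have h0 : J = ⊥ := by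
    refine hsit.eq_bot_of_char hJS (fun φ d hd => ?_) ?_
    · have hle : J.subgroupOf (S : Subgroup X) ≤
          (J.subgroupOf (S : Subgroup X)).comap φ.toMonoidHom := by
        have : J ≤ ((J.subgroupOf (S : Subgroup X)).comap φ.toMonoidHom).map
            (S : Subgroup X).subtype := by
          refine sSup_le fun A hA => ?_
          intro a ha
          refine ⟨⟨a, hA.1 ha⟩, ?_, rfl⟩
          exact (le_sSup (maxEl_map hA φ) : _ ≤ J)
            ⟨φ ⟨a, hA.1 ha⟩, ⟨⟨a, hA.1 ha⟩, ha, rfl⟩, rfl⟩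
        intro w hw
        obtain ⟨w', hw', hww⟩ := this hw
        rwa [← (S : Subgroup X).subtype_injective hww]
      exact hle (show d ∈ J.subgroupOf (S : Subgroup X) from hd)
    · refine H78.PU.normal_of_conj_le fun g => ?_
      rw [map_le_iff_le_comap]
      refine sSup_le fun A hA => ?_
      rw [← map_le_iff_le_comap]
      refine le_sSup ⟨?_, hA.2.1.map _, fun B hB hB' => (hA.2.2 B hB hB').trans_eq ?_⟩
      · rintro _ ⟨a, ha, rfl⟩
        exact H1.pCore_le_sylow S (hQn.conj_mem a (hcon A hA ha) g)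
      · rw [card_map_of_injective (MulAut.conj g).injective]
  obtain ⟨A, hA⟩ := exists_maxEl (p := p) (S : Subgroup X)
  have hAbot : A = ⊥ := le_bot_iff.1 (h0 ▸ le_sSup hA)
  have h1 := hA.2.2 (Zc p (S : Subgroup X)) (fun z hz => hz.1)
    ⟨fun a ha b hb => (hb.2.1 a ha.1), fun a ha => ha.2.2⟩
  rw [hAbot, card_bot] at h1
  exact exists_zc_ne_bot hsit (eq_bot_of_card_le _ h1)

/-- The normal closure of `Ω₁(Z(S))`. -/
theorem module_facts :
    let V := normalClosure (Zc p (S : Subgroup X) : Set X)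
    let Q := Cfsg.pCore p X
    V ≤ Q ∧ V ≤ centralizer (Q : Set X) ∧ (∀ v ∈ V, v ^ p = 1) ∧
    Nat.card V = Fintype.card F * Nat.card (Zc p (S : Subgroup X)) ∧
    (∀ x ∈ (S : Subgroup X), x ∉ Q → ∀ v ∈ V, v * x = x * v → v ∈ Zc p (S : Subgroup X)) ∧
    (∀ v ∈ V, v ∉ Zc p (S : Subgroup X) → ∀ x ∈ (S : Subgroup X), x ∉ Q →
      v * x * v⁻¹ * x⁻¹ ∉ center X) ∧
    (∀ v ∈ V, ∀ x ∈ (S : Subgroup X), v * x * v⁻¹ * x⁻¹ ∈ Zc p (S : Subgroup X)) ∧
    Nat.card (Zc p (S : Subgroup X)) = Fintype.card F * Nat.card ↥(V ⊓ center X) := by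
  intro V Q
  set Sg := (S : Subgroup X) with hSg
  haveI hQn : Q.Normal := H1.pCore_normal' p X
  have hQS : Q ≤ Sg := H1.pCore_le_sylow S
  have hVn : V.Normal := normalClosure_normal
  have h := hsit.ctx
  set q := Fintype.card F with hq
  have hq1 : 1 < q := h.one_lt
  -- first properties of `V`
  have hZS : Zc p Sg ≤ Sg := fun z hz => hz.1
  have hZc : Zc p Sg ≤ Sg ⊓ centralizer (Sg : Set X) := fun z hz => ⟨hz.1, hz.2.1⟩
  have hVQ : V ≤ Q ⊓ centralizer (Q : Set X) :=
    normalClosure_le_normal (hZc.trans h.center_le)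
  have hVab : ∀ v ∈ V, ∀ w ∈ V, v * w = w * v := fun v hv w hw =>
    (hVQ hw).2 v (hVQ hv).1
  have hVsq : ∀ v ∈ V, v ^ p = 1 := by
    have hle : V ≤ Zc p Q := by
      haveI : (Zc p Q).Normal := H78.PU.normal_of_conj_le fun g => by
        show cj g (Zc p Q) ≤ Zc p Q
        rw [cj_Zc, cj_eq_self_of_mem_normalizer (by rw [normalizer_eq_top]; trivial)]
      refine normalClosure_le_normal fun z hz => ?_
      exact ⟨(hVQ (le_normalClosure hz)).1, (hVQ (le_normalClosure hz)).2, hz.2.2⟩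
    exact fun v hv => (hle hv).2.2
  have hVC : ∀ v ∈ V, v ∈ centralizer (Sg : Set X) → v ∈ Zc p Sg := fun v hv hc =>
    ⟨hQS (hVQ hv).1, hc, hVsq v hv⟩
  have hVZ : V ⊓ centralizer (Sg : Set X) = Zc p Sg :=
    le_antisymm (fun v hv => hVC v hv.1 hv.2) fun z hz => ⟨le_normalClosure hz, hz.2.1⟩
  have hNS : centralizer (V : Set X) ⊔ Sg ≠ ⊤ := by
    intro htop'
    refine zc_not_central hsit fun d hd => mem_center_iff.2 fun y => ?_
    have : centralizer (V : Set X) ⊔ Sg ≤ centralizer ({d} : Set X) :=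
      sup_le (centralizer_le (Set.singleton_subset_iff.2 (le_normalClosure hd)))
        (fun s hs => mem_centralizer_singleton_iff.2 (hd.2.1 s hs))
    exact mem_centralizer_singleton_iff.1 (this (htop' ▸ mem_top y))
  have hCS : centralizer (V : Set X) ⊓ Sg ≤ Q := by
    by_contra hcon
    exact hNS (h.normal_sup _ inferInstance hcon)
  -- the offender
  obtain ⟨A, hA, hAQ⟩ := exists_maxEl_not_le hsit
  set W := V ⊓ centralizer (A : Set X) with hW
  have hA' : Nat.card ↥(A ⊓ Q) * Nat.card V ≤ Nat.card A * Nat.card W := by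
    have h1 := H78.card_mul_le_sup_inf (A ⊓ Q) V
    have h2 : Nat.card ↥((A ⊓ Q) ⊔ V) ≤ Nat.card A := by
      refine hA.2.2 _ (sup_le (inf_le_left.trans hA.1) (fun v hv => hQS (hVQ hv).1)) ⟨?_, ?_⟩
      all_goals
        have hcm : (A ⊓ Q) ≤ normalizer (V : Set X) := by rw [normalizer_eq_top]; exact le_top
        intro a ha
        rw [← SetLike.mem_coe, coe_mul_of_left_le_normalizer_right _ _ hcm] at ha
        obtain ⟨a1, ha1, v1, hv1, rfl⟩ := ha
      · intro b hb
        rw [← SetLike.mem_coe, coe_mul_of_left_le_normalizer_right _ _ hcm] at hb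
        obtain ⟨a2, ha2, v2, hv2, rfl⟩ := hb
        have c1 : v1 * a2 = a2 * v1 := ((hVQ hv1).2 a2 ha2.2).symm
        have c2 : v2 * a1 = a1 * v2 := ((hVQ hv2).2 a1 ha1.2).symm
        calc a1 * v1 * (a2 * v2) = a1 * (v1 * a2) * v2 := by group
          _ = (a1 * a2) * (v1 * v2) := by rw [c1]; group
          _ = (a2 * a1) * (v2 * v1) := by rw [hA.2.1.1 a1 ha1.1 a2 ha2.1, hVab v1 hv1 v2 hv2]
          _ = a2 * (a1 * v2) * v1 := by group
          _ = a2 * v2 * (a1 * v1) := by rw [← c2]; group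
      · have c1 : Commute a1 v1 := (hVQ hv1).2 a1 ha1.2
        rw [c1.mul_pow, hA.2.1.2 a1 ha1.1, hVsq v1 hv1, one_mul]
    have h3 : Nat.card ↥((A ⊓ Q) ⊓ V) ≤ Nat.card W :=
      card_le_of_le fun v hv => ⟨hv.2, fun a ha => hA.2.1.1 a ha v hv.1.1⟩
    exact h1.trans (Nat.mul_le_mul h2 h3)
  have hAq : Nat.card A ≤ q * Nat.card ↥(A ⊓ Q) := by
    have h1 := (H78.card_mul_le_sup_inf A Q).trans
      (Nat.mul_le_mul_right _ (card_le_of_le (sup_le hA.1 hQS)))
    rw [h.card_eq, mul_right_comm] at h1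
    exact Nat.le_of_mul_le_mul_right h1 Nat.card_pos
  have hVW : Nat.card V ≤ q * Nat.card W := by
    refine Nat.le_of_mul_le_mul_left ?_ (Nat.card_pos : 0 < Nat.card ↥(A ⊓ Q))
    calc _ ≤ Nat.card A * Nat.card W := hA'
      _ ≤ q * Nat.card ↥(A ⊓ Q) * Nat.card W := Nat.mul_le_mul_right _ hAq
      _ = _ := by ring
  obtain ⟨x, hxA, hxQ⟩ := SetLike.not_le_iff_exists.1 hAQ
  have hWS : W ≤ centralizer (Sg : Set X) := by
    set Cx := V ⊓ centralizer ({x} : Set X) with hCx
    have hWx : W ≤ Cx := inf_le_inf_left V (centralizer_le (Set.singleton_subset_iff.2 hxA))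
    have hx2 : q * Nat.card Cx ≤ Nat.card V := by
      rcases h.fixed_bound V (hVQ.trans inf_le_left) hNS (hA.1 hxA) hxQ with h2 | ⟨g, hg⟩
      · have hlt : Nat.card Cx < Nat.card V := by
          by_contra hcon
          push Not at hcon
          have heq := eq_of_le_of_card_ge (inf_le_left : Cx ≤ V) hcon
          exact hxQ (hCS ⟨fun v hv => mem_centralizer_singleton_iff.1 (heq.ge hv).2, hA.1 hxA⟩)
        have hVp : IsPGroup p V := h.isPGroup.to_le ((hVQ.trans inf_le_left).trans hQS)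
        obtain ⟨a, ha⟩ := IsPGroup.iff_card.1 (hVp.to_le (inf_le_left : Cx ≤ V))
        obtain ⟨c, hc⟩ := IsPGroup.iff_card.1 hVp
        rw [ha, hc] at hlt ⊢
        rw [h2, ← pow_succ']
        exact Nat.pow_le_pow_right (Fact.out : p.Prime).pos
          ((Nat.pow_lt_pow_iff_right (Fact.out : p.Prime).one_lt).1 hlt)
      · set Cy := V ⊓ centralizer ({g * x * g⁻¹} : Set X) with hCy
        have hcy : Nat.card Cy = Nat.card Cx := by
          have : Cy = cj g Cx := by
            ext v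
            rw [mem_cj, hCy, hCx, Subgroup.mem_inf, Subgroup.mem_inf,
              mem_centralizer_singleton_iff, mem_centralizer_singleton_iff]
            refine and_congr ⟨fun hv => by simpa using hVn.conj_mem v hv g⁻¹,
              fun hv => by simpa [mul_assoc] using hVn.conj_mem _ hv g⟩ ⟨fun e => ?_, fun e => ?_⟩
            · calc g⁻¹ * v * g * x = g⁻¹ * (v * (g * x * g⁻¹)) * g := by group
                _ = g⁻¹ * (g * x * g⁻¹ * v) * g := by rw [e]
                _ = x * (g⁻¹ * v * g) := by group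
            · calc v * (g * x * g⁻¹) = g * (g⁻¹ * v * g * x) * g⁻¹ := by group
                _ = g * (x * (g⁻¹ * v * g)) * g⁻¹ := by rw [e]
                _ = g * x * g⁻¹ * v := by group
          rw [this, card_cj]
        have h1 := H78.card_mul_le_sup_inf Cx Cy
        have h2 : Nat.card ↥(Cx ⊔ Cy) ≤ Nat.card V := card_le_of_le (sup_le inf_le_left inf_le_left)
        have h3 : Nat.card ↥(Cx ⊓ Cy) ≤ Nat.card ↥(V ⊓ centralizer ({x} : Set X) ⊓
            centralizer ({g * x * g⁻¹} : Set X)) :=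
          card_le_of_le fun v hv => ⟨hv.1, hv.2.2⟩
        rw [hcy] at h1
        have h4 := Nat.mul_le_mul_left (q * q) (h1.trans (Nat.mul_le_mul h2 h3))
        have h5 : (q * Nat.card Cx) * (q * Nat.card Cx) ≤ Nat.card V * Nat.card V := by
          refine le_trans (le_of_eq (by ring)) (h4.trans ?_)
          rw [mul_comm (Nat.card V), ← mul_assoc]
          exact Nat.mul_le_mul_right _ hg
        exact Nat.mul_self_le_mul_self_iff.1 h5
    have hVWeq : Nat.card V = q * Nat.card W :=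
      le_antisymm hVW ((Nat.mul_le_mul_left q (card_le_of_le hWx)).trans hx2)
    have hAS : Sg ≤ A ⊔ Q := by
      refine (eq_of_le_of_card_ge (sup_le hA.1 hQS) ?_).ge
      have h1 : q * Nat.card ↥(A ⊓ Q) ≤ Nat.card A := by
        refine Nat.le_of_mul_le_mul_right (c := Nat.card W) ?_ Nat.card_pos
        calc q * Nat.card ↥(A ⊓ Q) * Nat.card W = Nat.card ↥(A ⊓ Q) * Nat.card V := by
              rw [hVWeq]; ring
          _ ≤ _ := hA'
      refine Nat.le_of_mul_le_mul_right (c := Nat.card ↥(A ⊓ Q)) ?_ Nat.card_pos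
      rw [h.card_eq]
      calc q * Nat.card Q * Nat.card ↥(A ⊓ Q) = q * Nat.card ↥(A ⊓ Q) * Nat.card Q := by ring
        _ ≤ Nat.card A * Nat.card Q := Nat.mul_le_mul_right _ h1
        _ ≤ _ := H78.card_mul_le_sup_inf A Q
    intro v hv s hs
    have : A ⊔ Q ≤ centralizer ({v} : Set X) :=
      sup_le (fun a ha => mem_centralizer_singleton_iff.2 (hv.2 a ha))
        (fun a ha => mem_centralizer_singleton_iff.2 ((hVQ hv.1).2 a ha))
    exact mem_centralizer_singleton_iff.1 (this (hAS hs))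
  have hup : Nat.card V ≤ q * Nat.card ↥(V ⊓ centralizer (Sg : Set X)) :=
    hVW.trans (Nat.mul_le_mul_left q (card_le_of_le (le_inf inf_le_left hWS)))
  obtain ⟨-, hM⟩ := h.exists_module_of_up (D := Zc p Sg) hZc (zc_not_central hsit) hup
  have hcardV : Nat.card V = q * Nat.card (Zc p Sg) := hVZ ▸ hM.card_V
  have hfix : ∀ y ∈ Sg, y ∉ Q → ∀ v ∈ V, v * y = y * v → v ∈ Zc p Sg := fun y hy hyQ v hv e =>
    hVC v hv (hM.fixed y hy hyQ ⟨hv, mem_centralizer_singleton_iff.2 e⟩)
  have hcomm : ∀ v ∈ V, ∀ y ∈ Sg, v * y * v⁻¹ * y⁻¹ ∈ Zc p Sg := by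
    have hrV : ∀ v ∈ V, ∀ y : X, v * y * v⁻¹ * y⁻¹ ∈ V := fun v hv y => by
      rw [show v * y * v⁻¹ * y⁻¹ = v * (y * v⁻¹ * y⁻¹) by group]
      exact mul_mem hv (hVn.conj_mem _ (inv_mem hv) y)
    have hCV : Zc p Sg ≤ V := le_normalClosure
    have hCfix : ∀ c ∈ Zc p Sg, ∀ y ∈ Sg, y * c * y⁻¹ = c := fun c hc y hy => by
      rw [hc.2.1 y hy, mul_inv_cancel_right]
    have hQfix : ∀ v ∈ V, ∀ k ∈ Q, k * v * k⁻¹ = v := fun v hv k hk => by
      rw [(hVQ hv).2 k hk, mul_inv_cancel_right]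
    have hmul : ∀ v : X, ∀ y w : X, v * (y * w) * v⁻¹ * (y * w)⁻¹ =
        v * y * v⁻¹ * y⁻¹ * (y * (v * w * v⁻¹ * w⁻¹) * y⁻¹) := fun v y w => by group
    let D : Subgroup X :=
      { carrier := {v | v ∈ V ∧ ∀ y ∈ Sg, v * y * v⁻¹ * y⁻¹ ∈ Zc p Sg}
        one_mem' := ⟨one_mem _, fun y _ => by simp [one_mem]⟩
        mul_mem' := fun {a b} ha hb => ⟨mul_mem ha.1 hb.1, fun y hy => by
          rw [show a * b * y * (a * b)⁻¹ * y⁻¹ =
            a * (b * y * b⁻¹ * y⁻¹) * a⁻¹ * (a * y * a⁻¹ * y⁻¹) by group]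
          refine mul_mem ?_ (ha.2 y hy)
          rw [hVab a ha.1 _ (hCV (hb.2 y hy)), mul_inv_cancel_right]
          exact hb.2 y hy⟩
        inv_mem' := fun {a} ha => ⟨inv_mem ha.1, fun y hy => by
          rw [show a⁻¹ * y * a⁻¹⁻¹ * y⁻¹ = a⁻¹ * (a * y * a⁻¹ * y⁻¹)⁻¹ * a by group,
            hVab a⁻¹ (inv_mem ha.1) _ (inv_mem (hCV (ha.2 y hy))), inv_mul_cancel_right]
          exact inv_mem (ha.2 y hy)⟩ }
    have hDV : D ≤ V := fun v hv => hv.1
    have hCD : Zc p Sg ≤ D := fun c hc => ⟨hCV hc, fun y hy => by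
      rw [← hc.2.1 y hy, mul_inv_cancel_right, mul_inv_cancel]
      exact one_mem _⟩
    suffices hle : V ≤ D from fun v hv => (hle hv).2
    by_contra hnle
    have hSn : Sg.subgroupOf Sg ≤ normalizer ((V.subgroupOf Sg : Subgroup Sg) : Set Sg) := by
      haveI : (V.subgroupOf Sg).Normal := hVn.comap Sg.subtype
      rw [normalizer_eq_top]; exact le_top
    obtain ⟨z, hzV, hzD, hz⟩ := H78.exists_fixed_mod h.isPGroup (Sg.subgroupOf Sg)
      (V.subgroupOf Sg) (D.subgroupOf Sg) hSn (fun hle => hnle fun v hv => by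
        have hvS : v ∈ Sg := hQS (hVQ hv).1
        exact hle (show (⟨v, hvS⟩ : Sg) ∈ V.subgroupOf Sg from hv))
    have hzV' : (z : X) ∈ V := hzV
    have hzD' : (z : X) ∉ D := hzD
    set r : X → X := fun y => (z : X) * y * (z : X)⁻¹ * y⁻¹ with hr
    have hrD : ∀ y ∈ Sg, r y ∈ D := fun y hy => by
      have h1 := inv_mem (mem_subgroupOf.1 (hz ⟨y, hy⟩ (mem_subgroupOf.2 hy)))
      simpa [hr, commutatorElement_def, mul_assoc] using h1
    -- some `y` outside `Q` with `r y ∈ Zc S` forces all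
    have hone : ∀ y ∈ Sg, y ∉ Q → r y ∉ Zc p Sg := by
      intro y hy hyQ hyC
      refine hzD' ⟨hzV', fun x hx => ?_⟩
      refine hfix y hy hyQ _ (hrV _ hzV' x) ?_
      have hxy : y * x * (x * y)⁻¹ ∈ Q := by
        have h1 := h.elem
        haveI := hsit.char
        refine hsit.mem_pCore_of_ker S (mul_mem (mul_mem hy hx) (inv_mem (mul_mem hx hy))) ?_
        obtain ⟨a, ha⟩ := (hsit.upper (ψ x)).1 (mem_map_of_mem ψ hx)
        obtain ⟨b, hb⟩ := (hsit.upper (ψ y)).1 (mem_map_of_mem ψ hy)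
        rw [map_mul, map_inv, map_mul, map_mul, ha, hb, H39.transl_mul, H39.transl_mul, add_comm a b,
          mul_inv_cancel]
      have hσ : y * (x * (z : X) * x⁻¹) * y⁻¹ = x * (y * (z : X) * y⁻¹) * x⁻¹ := by
        have hk := hQfix _ (hVn.conj_mem _ (hVn.conj_mem _ hzV' y) x) _ hxy
        rw [← hk]; group
      have hy' : y * (z : X) * y⁻¹ = (r y)⁻¹ * (z : X) := by simp only [hr]; group
      have hyz : r y ∈ Zc p Sg := hyC
      -- `y` fixes `r x`
      have h2 : y * r x * y⁻¹ = r x := by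
        calc y * r x * y⁻¹ = y * (z : X) * y⁻¹ * (y * (x * (z : X) * x⁻¹) * y⁻¹)⁻¹ := by
              simp only [hr]; group
          _ = (r y)⁻¹ * (z : X) * (x * ((r y)⁻¹ * (z : X)) * x⁻¹)⁻¹ := by rw [hσ, hy']
          _ = (r y)⁻¹ * r x * (x * r y * x⁻¹) := by simp only [hr]; group
          _ = (r y)⁻¹ * r x * r y := by rw [hCfix _ hyz x hx]
          _ = r x := by
            rw [hVab _ (inv_mem (hCV hyz)) _ (hrV _ hzV' x), inv_mul_cancel_right]
      show r x * y = y * r x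
      calc r x * y = y * r x * y⁻¹ * y := by rw [h2]
        _ = y * r x := by group
    set T := Q.subgroupOf Sg with hT
    have hinj : Function.Injective (fun w : (↥Sg ⧸ T) × Zc p Sg =>
        (⟨r w.1.out * (w.2 : X), mul_mem (hrD _ w.1.out.2) (hCD w.2.2)⟩ : D)) := by
      rintro ⟨u, c⟩ ⟨v, d⟩ e
      have e' : r u.out * (c : X) = r v.out * (d : X) := congrArg Subtype.val e
      have huv : u = v := by
        rw [← QuotientGroup.out_eq' u, ← QuotientGroup.out_eq' v, QuotientGroup.eq]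
        refine mem_subgroupOf.2 ?_
        by_contra hnQ
        set w : X := ((u.out⁻¹ * v.out : Sg) : X) with hw
        have hvw : (v.out : X) = (u.out : X) * w := by rw [hw]; simp
        have h1 : r v.out = r u.out * ((u.out : X) * r w * (u.out : X)⁻¹) := by
          simp only [hr]; rw [hvw, hmul]
        have h2 : (u.out : X) * r w * (u.out : X)⁻¹ ∈ Zc p Sg := by
          have : (u.out : X) * r w * (u.out : X)⁻¹ = (c : X) * (d : X)⁻¹ := by
            have h4 : (c : X) = (u.out : X) * r w * (u.out : X)⁻¹ * (d : X) :=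
              mul_left_cancel (e'.trans (by rw [h1]; exact mul_assoc _ _ _))
            rw [h4]; group
          rw [this]
          exact mul_mem c.2 (inv_mem d.2)
        refine hone w (u.out⁻¹ * v.out : Sg).2 hnQ ?_
        have h3 := hCfix _ h2 (u.out : X)⁻¹ (inv_mem u.out.2)
        rw [show r w = (u.out : X)⁻¹ * ((u.out : X) * r w * (u.out : X)⁻¹) * (u.out : X)⁻¹⁻¹ by
          group, h3]
        exact h2
      subst huv
      rw [mul_right_inj] at e'
      rw [Subtype.ext e']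
    have hcard := Nat.card_le_card_of_injective _ hinj
    have hidx : Nat.card (↥Sg ⧸ T) = q := by
      have h1 := card_mul_index T
      rw [hT, Nat.card_congr (subgroupOfEquivOfLe hQS).toEquiv, h.card_eq, mul_comm q] at h1
      rw [← index_eq_card]
      exact Nat.eq_of_mul_eq_mul_left Nat.card_pos h1
    rw [Nat.card_prod, hidx, ← hcardV] at hcard
    exact hnle (eq_of_le_of_card_ge hDV hcard).ge
  -- a commutator with a noncentral element is not central
  have cover_aux : ∀ v ∈ V, v ∉ Zc p Sg → ∀ x ∈ Sg, x ∉ Q → v * x * v⁻¹ * x⁻¹ ∉ center X := by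
    intro v hv hvZ y hy hyQ hcen
    obtain ⟨g, hg⟩ := h.gen
    set C' := cj g (Zc p Sg) with hC'
    have hC'V : C' ≤ V := by
      rintro _ ⟨c, hc, rfl⟩
      exact hVn.conj_mem c (le_normalClosure hc) g
    have hC'c : C' ≤ centralizer ((Sg.map (MulAut.conj g).toMonoidHom : Subgroup X) : Set X) := by
      rintro _ ⟨c, hc, rfl⟩ _ ⟨s, hs, rfl⟩
      rw [← map_mul, ← map_mul, hc.2.1 s hs]
    have hVeq : Zc p Sg ⊔ C' = V := by
      refine eq_of_le_of_card_ge (sup_le (fun z hz => le_normalClosure hz) hC'V) ?_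
      have h1 := H78.card_mul_le_sup_inf (Zc p Sg) C'
      have h2 : Nat.card ↥(Zc p Sg ⊓ C') ≤ Nat.card ↥(V ⊓ center X) := card_le_of_le fun w hw =>
        ⟨hC'V hw.2, h.central_of_fixed hg (hA.1 hxA) hxQ
          (mem_centralizer_singleton_iff.2 (hw.1.2.1 x (hA.1 hxA)).symm) (hC'c hw.2)⟩
      rw [hC', card_cj, ← hC'] at h1
      refine Nat.le_of_mul_le_mul_right (c := Nat.card ↥(V ⊓ center X)) ?_ Nat.card_pos
      calc Nat.card V * Nat.card ↥(V ⊓ center X) = Nat.card (Zc p Sg) * Nat.card (Zc p Sg) := by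
            rw [hcardV]
            have := hM.card_C
            rw [hVZ] at this
            rw [this]; ring
        _ ≤ _ := h1.trans (Nat.mul_le_mul_left _ h2)
    have hv' := hv
    rw [← hVeq, ← SetLike.mem_coe, coe_mul_of_left_le_normalizer_right _ _
      (fun z hz => centralizer_le_normalizer _
        (fun c hc => hVab c (hC'V hc) z (le_normalClosure hz)))] at hv'
    obtain ⟨c, hc, d, hd, rfl⟩ := hv'
    have hcy : c * y = y * c := (hc.2.1 y hy).symm
    have hdy : d * y * d⁻¹ * y⁻¹ ∈ center X := by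
      have h1 : c * d * y * (c * d)⁻¹ * y⁻¹ = d * y * d⁻¹ * y⁻¹ := by
        have e1 : c * d = d * c := hVab c (le_normalClosure hc) d (hC'V hd)
        calc c * d * y * (c * d)⁻¹ * y⁻¹ = d * (c * y * c⁻¹) * d⁻¹ * y⁻¹ := by rw [e1]; group
          _ = _ := by rw [hcy, mul_inv_cancel_right]
      rwa [h1] at hcen
    have hstab : zpowers y ⊔ Sg.map (MulAut.conj g).toMonoidHom ≤
        { carrier := {a | a * d * a⁻¹ * d⁻¹ ∈ center X}
          one_mem' := by simp [one_mem]
          mul_mem' := fun {a b} ha hb => by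
            show a * b * d * (a * b)⁻¹ * d⁻¹ ∈ center X
            rw [show a * b * d * (a * b)⁻¹ * d⁻¹ =
              a * (b * d * b⁻¹ * d⁻¹) * a⁻¹ * (a * d * a⁻¹ * d⁻¹) by group]
            exact mul_mem (Normal.conj_mem inferInstance _ hb a) ha
          inv_mem' := fun {a} ha => by
            show a⁻¹ * d * a⁻¹⁻¹ * d⁻¹ ∈ center X
            rw [show a⁻¹ * d * a⁻¹⁻¹ * d⁻¹ = a⁻¹ * (a * d * a⁻¹ * d⁻¹)⁻¹ * a⁻¹⁻¹ by group]
            exact Normal.conj_mem inferInstance _ (inv_mem ha) a⁻¹ } := by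
      refine sup_le (zpowers_le.2 ?_) fun s hs => ?_
      · show y * d * y⁻¹ * d⁻¹ ∈ center X
        rw [show y * d * y⁻¹ * d⁻¹ = (d * y * d⁻¹ * y⁻¹)⁻¹ by group]
        exact inv_mem hdy
      · show s * d * s⁻¹ * d⁻¹ ∈ center X
        rw [hC'c hd s hs, mul_inv_cancel_right, mul_inv_cancel]
        exact one_mem _
    have hd0 : d ∈ center X := by
      refine h.central_mod hg (fun a => ?_) (hC'c hd)
      rw [commutatorElement_def]
      exact hstab (hg y hy hyQ ▸ mem_top a)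
    refine hvZ (mul_mem hc (hVC d (hC'V hd) ?_))
    exact center_le_centralizer _ hd0
  exact ⟨hVQ.trans inf_le_left, hVQ.trans inf_le_right, hVsq, hcardV, hfix, cover_aux, hcomm,
    hVZ ▸ hM.card_C⟩

end H71.BGNP
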