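import Cfsg.Agent.H78.PSL2Facts
import Cfsg.Agent.H78.PushingUpCtx
import Cfsg.Agent.H78.PushingUpModule
import Cfsg.Agent.H1.Cores

/-!
A finite group with a map onto `PSL₂(F)`, a Sylow `p`-subgroup in a unique maximal subgroup.

The kernel need not be `O_p`; edges are compared through their images in `PSL₂(F)`.
-/

set_option autoImplicit false
set_option linter.unusedSectionVars false

open Subgroup Matrix
open scoped MatrixGroups Pointwise

namespace H71.BGNP

variable {X : Type*} [Group X] [Finite X] {p : ℕ} [Fact p.Prime] {F : Type} [Field F] [Fintype F]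

/-- The rank one pushing up situation. -/
structure Sit (p : ℕ) [Fact p.Prime] (ψ : X →* Matrix.ProjectiveSpecialLinearGroup (Fin 2) F)
    (S : Sylow p X) : Prop where
  surj : Function.Surjective ψ
  char : CharP F p
  cent : centralizer (Cfsg.pCore p X : Set X) ≤ Cfsg.pCore p X
  uniq : ∃! M : Subgroup X, IsCoatom M ∧ (S : Subgroup X) ≤ M
  nochar : ∀ C : Subgroup ↥(S : Subgroup X), C.Characteristic → C ≠ ⊥ →
    ¬ ((C.map (S : Subgroup X).subtype).Normal)
  upper : ∀ t : Matrix.ProjectiveSpecialLinearGroup (Fin 2) F,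
    t ∈ (S : Subgroup X).map ψ ↔ ∃ a, t = H39.transl a

variable {ψ : X →* Matrix.ProjectiveSpecialLinearGroup (Fin 2) F} {S : Sylow p X}

/-- Every situation as in the statements can be adapted. -/
theorem exists_sit {n : ℕ} (hF : Fintype.card F = p ^ n) (K : Subgroup X) [K.Normal]
    (e : X ⧸ K ≃* Matrix.ProjectiveSpecialLinearGroup (Fin 2) F) (S : Sylow p X)
    (hcent : centralizer (Cfsg.pCore p X : Set X) ≤ Cfsg.pCore p X)
    (huniq : ∃! M : Subgroup X, IsCoatom M ∧ (S : Subgroup X) ≤ M)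
    (hd : ∀ T : Subgroup ↥(S : Subgroup X), T ≠ ⊥ → T.Characteristic →
      ¬ (T.map (S : Subgroup X).subtype).Normal) :
    ∃ ψ : X →* Matrix.ProjectiveSpecialLinearGroup (Fin 2) F, Sit p ψ S := by
  haveI : CharP F p := charP_of_card_eq_prime_pow hF
  set π : X →* Matrix.ProjectiveSpecialLinearGroup (Fin 2) F :=
    e.toMonoidHom.comp (QuotientGroup.mk' K) with hπ
  have hπs : Function.Surjective π := e.surjective.comp (QuotientGroup.mk'_surjective K)
  obtain ⟨P0, hP0⟩ := H39.exists_sylow_transl (F := F) p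
  obtain ⟨a, ha⟩ := MulAction.exists_smul_eq (Matrix.ProjectiveSpecialLinearGroup (Fin 2) F)
    (S.mapSurjective hπs) P0
  refine ⟨(MulAut.conj a).toMonoidHom.comp π,
    (MulAut.conj a).surjective.comp hπs, inferInstance, hcent, huniq,
    fun C h1 h2 => hd C h2 h1, fun t => ?_⟩
  rw [← hP0, ← Subgroup.map_map, ← Sylow.coe_mapSurjective hπs, ← ha, Sylow.coe_subgroup_smul]
  rfl

theorem Sit.charP (h : Sit p ψ S) : CharP F p := h.char

theorem Sit.exists_card (h : Sit p ψ S) : ∃ n : ℕ, 1 ≤ n ∧ Fintype.card F = p ^ n := by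
  haveI := h.char
  obtain ⟨n, -, hn⟩ := FiniteField.card F p
  exact ⟨n, n.pos, hn⟩

theorem Sit.top_ne_bot (h : Sit p ψ S) : (⊤ : Subgroup X) ≠ ⊥ := by
  intro e
  haveI := h.char
  obtain ⟨Q, hQ⟩ := H78.PSL2.exists_sylow_ne (S.mapSurjective h.surj)
  refine hQ (Sylow.ext (SetLike.ext fun y => ?_))
  obtain ⟨x, rfl⟩ := h.surj y
  have : x = 1 := mem_bot.1 (e ▸ mem_top x)
  simp [this, one_mem]

theorem Sit.isPUS (h : Sit p ψ S) : Cfsg.IsPushingUpSituation p (S : Subgroup X) := by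
  obtain ⟨n, -, hn⟩ := h.exists_card
  exact ⟨h.top_ne_bot, ⟨S, rfl⟩, h.cent, h.uniq, ψ.ker, inferInstance, F, inferInstance,
    inferInstance, n, hn, ⟨QuotientGroup.quotientKerEquivOfSurjective ψ h.surj⟩⟩

/-- The image of a subgroup that maps properly lies in a maximal subgroup of `PSL₂`. -/
theorem Sit.ker_le_max (h : Sit p ψ S) {M : Subgroup X} (hM : IsCoatom M)
    (hSM : (S : Subgroup X) ≤ M) : ψ.ker ≤ M := by
  haveI := h.char
  set A := (((S.mapSurjective h.surj : Sylow p _) :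
    Subgroup (Matrix.ProjectiveSpecialLinearGroup (Fin 2) F))).comap ψ with hA
  have hSA : (S : Subgroup X) ≤ A := by
    rw [hA, Sylow.coe_mapSurjective]
    exact le_comap_map _ _
  have hAne : A ≠ ⊤ := by
    intro e
    obtain ⟨Q, hQ⟩ := H78.PSL2.exists_sylow_ne (S.mapSurjective h.surj)
    rw [hA, ← comap_top ψ] at e
    have e' := comap_injective h.surj e
    exact hQ (Sylow.ext ((Q.3 (S.mapSurjective h.surj).2 (le_top.trans e'.ge)).symm))
  obtain ⟨C, hC, hAC⟩ := (eq_top_or_exists_le_coatom A).resolve_left hAne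
  obtain ⟨M', -, hu⟩ := h.uniq
  rw [hu M ⟨hM, hSM⟩, ← hu C ⟨hC, hSA.trans hAC⟩]
  refine le_trans ?_ hAC
  intro x hx
  rw [hA, Subgroup.mem_comap, MonoidHom.mem_ker.1 hx]
  exact one_mem _

/-- A subgroup containing a Sylow subgroup and mapping onto `PSL₂` is everything. -/
theorem Sit.top_of_map (h : Sit p ψ S) (P : Sylow p X) {A : Subgroup X}
    (hPA : (P : Subgroup X) ≤ A) (hA : A.map ψ = ⊤) : A = ⊤ := by
  by_contra hne
  obtain ⟨C, hC, hAC⟩ := (eq_top_or_exists_le_coatom A).resolve_left hne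
  obtain ⟨g, rfl⟩ := MulAction.exists_smul_eq X S P
  set C' := C.map (MulAut.conj g⁻¹).toMonoidHom with hC'
  have hC'co : IsCoatom C' := (OrderIso.isCoatom_iff (MulEquiv.mapSubgroup (MulAut.conj g⁻¹)) C).2 hC
  have hSC' : (S : Subgroup X) ≤ C' := by
    intro s hs
    refine ⟨g * s * g⁻¹, hAC (hPA ?_), by simp [mul_assoc]⟩
    rw [Sylow.coe_subgroup_smul, mem_pointwise_smul_iff_inv_smul_mem]
    simpa [MulAut.smul_def, mul_assoc] using hs
  have hK := h.ker_le_max hC'co hSC'
  have hKC : ψ.ker ≤ C := by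
    intro k hk
    obtain ⟨c, hc, hck⟩ := hK ((inferInstance : ψ.ker.Normal).conj_mem k hk g⁻¹)
    have : c = k := by simpa [mul_assoc] using hck
    rwa [← this]
  have h1 : C.map ψ = ⊤ := eq_top_iff.2 (hA.ge.trans (map_mono hAC))
  exact hC.1 (by rw [← comap_map_eq_self hKC, h1, comap_top])

theorem Sit.pCore_le_ker (h : Sit p ψ S) : Cfsg.pCore p X ≤ ψ.ker := by
  haveI := h.char
  haveI := H1.pCore_normal' p X
  haveI : ((Cfsg.pCore p X).map ψ).Normal := Normal.map inferInstance ψ h.surj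
  exact (Subgroup.map_eq_bot_iff _).1
    (H78.PSL2.pCore_trivial _ ((H1.isPGroup_pCore (p := p) (G := X)).map ψ))

theorem Sit.mem_pCore_of_ker (h : Sit p ψ S) (P : Sylow p X) {x : X} (hx : x ∈ (P : Subgroup X))
    (hψ : ψ x = 1) : x ∈ Cfsg.pCore p X := by
  obtain ⟨M, ⟨hM, hSM⟩, -⟩ := h.uniq
  obtain ⟨q, hctx⟩ := H78.PU.exists_ctx h.isPUS
  have key : ψ.ker ⊓ (S : Subgroup X) ≤ Cfsg.pCore p X := by
    by_contra hcon
    exact hM.1 (eq_top_iff.2 ((hctx.normal_sup _ inferInstance hcon).ge.trans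
      (sup_le (h.ker_le_max hM hSM) hSM)))
  obtain ⟨g, rfl⟩ := MulAction.exists_smul_eq X S P
  rw [Sylow.coe_subgroup_smul, mem_pointwise_smul_iff_inv_smul_mem] at hx
  have hx' : g⁻¹ * x * g ∈ (S : Subgroup X) := by simpa [MulAut.smul_def] using hx
  have := (H1.pCore_normal' p X).conj_mem _
    (key ⟨show ψ (g⁻¹ * x * g) = 1 by rw [map_mul, map_mul, hψ, mul_one, ← map_mul,
      inv_mul_cancel, map_one], hx'⟩) g
  simpa [mul_assoc] using this

theorem Sit.card_sylow (h : Sit p ψ S) :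
    Nat.card (S : Subgroup X) = Fintype.card F * Nat.card (Cfsg.pCore p X) := by
  haveI := h.char
  have h1 := card_mul_index (ψ.domRestrict (S : Subgroup X)).ker
  rw [index_ker, MonoidHom.domRestrict_range, ← Sylow.coe_mapSurjective h.surj,
    show Nat.card ((S.mapSurjective h.surj : Sylow p _) :
        Subgroup (Matrix.ProjectiveSpecialLinearGroup (Fin 2) F)) =
      Nat.card (S.mapSurjective h.surj : Sylow p _) from rfl,
    H78.PSL2.sylow_card, Nat.card_eq_fintype_card (α := F)] at h1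
  rw [← h1, mul_comm]
  congr 1
  refine Nat.card_congr (Equiv.trans ?_
    (subgroupOfEquivOfLe (H1.pCore_le_sylow S)).toEquiv).symm |>.symm
  exact Equiv.setCongr (Set.ext fun x => ⟨fun hx => h.mem_pCore_of_ker S x.2 hx,
    fun hx => MonoidHom.mem_ker.1 (h.pCore_le_ker hx)⟩)

theorem Sit.ctx (h : Sit p ψ S) : H78.PU.Ctx p (Fintype.card F) (S : Subgroup X) := by
  obtain ⟨q, hctx⟩ := H78.PU.exists_ctx h.isPUS
  obtain rfl : q = Fintype.card F :=
    Nat.eq_of_mul_eq_mul_right Nat.card_pos (hctx.card_eq.symm.trans h.card_sylow)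
  exact hctx

/-- Two Sylow subgroups with the same image differ by an element of the kernel. -/
theorem Sit.exists_ker_smul (h : Sit p ψ S) {P P' : Sylow p X}
    (e : (P : Subgroup X).map ψ = (P' : Subgroup X).map ψ) : ∃ k ∈ ψ.ker, k • P = P' := by
  set A := ((P : Subgroup X).map ψ).comap ψ with hA
  have hP : (P : Subgroup X) ≤ A := le_comap_map _ _
  have hP' : (P' : Subgroup X) ≤ A := by rw [hA, e]; exact le_comap_map _ _
  obtain ⟨a, ha⟩ := MulAction.exists_smul_eq A (P.subtype hP) (P'.subtype hP')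
  have ha' : (a : X) • P = P' := by
    rw [Sylow.smul_subtype] at ha
    exact Sylow.subtype_injective ha
  obtain ⟨s, hs, hsa⟩ := (a.2 : ψ a ∈ (P : Subgroup X).map ψ)
  refine ⟨a * s⁻¹, by rw [MonoidHom.mem_ker, map_mul, map_inv, hsa, mul_inv_cancel], ?_⟩
  have hs' : s⁻¹ • P = P := Sylow.smul_eq_iff_mem_normalizer.2
    (by rw [← Sylow.coe_coe]; exact le_normalizer (inv_mem hs))
  rw [mul_smul, hs', ha']

/-- A nontrivial element of one Sylow subgroup and another with a different image generate. -/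
theorem Sit.sup_eq_top (h : Sit p ψ S) {P P' : Sylow p X}
    (hne : (P : Subgroup X).map ψ ≠ (P' : Subgroup X).map ψ) {x : X}
    (hx : x ∈ (P : Subgroup X)) (hxQ : x ∉ Cfsg.pCore p X) :
    zpowers x ⊔ (P' : Subgroup X) = ⊤ := by
  haveI := h.char
  refine h.top_of_map P' le_sup_right ?_
  rw [Subgroup.map_sup, MonoidHom.map_zpowers]
  set R := P.mapSurjective h.surj with hR
  set R' := P'.mapSurjective h.surj with hR'
  have hxR : ψ x ∈ (R : Subgroup (Matrix.ProjectiveSpecialLinearGroup (Fin 2) F)) := by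
    rw [hR, Sylow.coe_mapSurjective]; exact mem_map_of_mem ψ hx
  have hRR : R ≠ R' := fun e => hne (by
    rw [← Sylow.coe_mapSurjective h.surj, ← Sylow.coe_mapSurjective h.surj]
    exact congrArg (Sylow.toSubgroup) e)
  rw [← Sylow.coe_mapSurjective h.surj, ← hR']
  have hne' : ψ x • R' ≠ R' := by
    intro e
    rw [Sylow.smul_eq_iff_mem_normalizer, ← Sylow.coe_coe] at e
    have h2 : IsPGroup p ↥(zpowers (ψ x) ⊔
        (R' : Subgroup (Matrix.ProjectiveSpecialLinearGroup (Fin 2) F))) :=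
      (R.2.to_le (zpowers_le.2 hxR)).to_sup_of_normal_right' R'.2 (zpowers_le.2 e)
    have h3 : ψ x ∈ (R' : Subgroup (Matrix.ProjectiveSpecialLinearGroup (Fin 2) F)) :=
      (R'.3 h2 le_sup_right).le (mem_sup_left (mem_zpowers _))
    exact hxQ (h.mem_pCore_of_ker P hx
      (mem_bot.1 (H78.PSL2.sylow_inf R R' hRR ▸ ⟨hxR, h3⟩)))
  refine eq_top_iff.2 ((H78.PSL2.sylow_sup_eq_top (ψ x • R') R' hne').ge.trans
    (sup_le ?_ le_sup_right))
  rw [Sylow.coe_subgroup_smul]
  intro y hy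
  rw [mem_pointwise_smul_iff_inv_smul_mem] at hy
  have hy' : (ψ x)⁻¹ * y * ψ x ∈
      (R' : Subgroup (Matrix.ProjectiveSpecialLinearGroup (Fin 2) F)) := by
    simpa [MulAut.smul_def] using hy
  have h4 := mul_mem (mul_mem (mem_sup_left (T := (R' : Subgroup _)) (mem_zpowers (ψ x)))
    (mem_sup_right hy')) (mem_sup_left (inv_mem (mem_zpowers (ψ x))))
  simpa [mul_assoc] using h4

/-- Conjugating by an element outside `O_p` of a second Sylow subgroup moves the image. -/
theorem Sit.map_smul_ne (h : Sit p ψ S) {P P' : Sylow p X}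
    (hne : (P : Subgroup X).map ψ ≠ (P' : Subgroup X).map ψ) {t : X}
    (ht : t ∈ (P' : Subgroup X)) (htQ : t ∉ Cfsg.pCore p X) :
    (P : Subgroup X).map ψ ≠ ((t • P : Sylow p X) : Subgroup X).map ψ := by
  intro e
  haveI := h.char
  set A := (P : Subgroup X).map ψ with hA
  set N := (normalizer (A : Set (Matrix.ProjectiveSpecialLinearGroup (Fin 2) F))).comap ψ with hN
  have hPN : (P : Subgroup X) ≤ N := fun x hx => le_normalizer (mem_map_of_mem ψ hx)
  have htN : t ∈ N := by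
    refine Subgroup.mem_comap.2 (mem_normalizer_iff.2 fun y => ?_)
    conv_rhs => rw [e]
    constructor
    · rintro ⟨s, hs, rfl⟩
      refine ⟨t * s * t⁻¹, ?_, by simp⟩
      show t * s * t⁻¹ ∈ ((t • P : Sylow p X) : Subgroup X)
      rw [Sylow.coe_subgroup_smul, mem_pointwise_smul_iff_inv_smul_mem]
      simpa only [SetLike.mem_coe, MulAut.smul_def, MulAut.inv_apply, MulAut.conj_symm_apply, mul_assoc, inv_mul_cancel_left, inv_mul_cancel, mul_one] using hs
    · rintro ⟨z, hz, hzy⟩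
      rw [SetLike.mem_coe, Sylow.coe_subgroup_smul, mem_pointwise_smul_iff_inv_smul_mem] at hz
      refine ⟨t⁻¹ * z * t, by simpa only [SetLike.mem_coe, MulAut.smul_def, MulAut.inv_apply, MulAut.conj_symm_apply] using hz, ?_⟩
      rw [map_mul, map_mul, map_inv, hzy]
      group
  have hNtop : N = ⊤ := eq_top_iff.2 ((h.sup_eq_top hne.symm ht htQ).ge.trans
    (sup_le (zpowers_le.2 htN) hPN))
  haveI : A.Normal := normalizer_eq_top_iff.1 (eq_top_iff.2 fun y _ => by
    obtain ⟨g, rfl⟩ := h.surj y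
    have hg : g ∈ N := hNtop ▸ mem_top g
    exact hg)
  have h2 := H78.PSL2.pCore_trivial A (P.2.map ψ)
  refine hne ?_
  obtain ⟨g, rfl⟩ := MulAction.exists_smul_eq X P P'
  rw [h2, eq_comm, Subgroup.map_eq_bot_iff]
  intro y hy
  rw [Sylow.coe_subgroup_smul, mem_pointwise_smul_iff_inv_smul_mem] at hy
  have hy' : g⁻¹ * y * g ∈ (P : Subgroup X) := by simpa [MulAut.smul_def] using hy
  have := (Subgroup.map_eq_bot_iff _).1 (hA ▸ h2) hy'
  simpa [mul_assoc] using (inferInstance : ψ.ker.Normal).conj_mem _ this g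

theorem Sit.exists_map_ne (h : Sit p ψ S) (P : Sylow p X) :
    ∃ P' : Sylow p X, (P : Subgroup X).map ψ ≠ (P' : Subgroup X).map ψ := by
  haveI := h.char
  obtain ⟨R, hR⟩ := H78.PSL2.exists_sylow_ne (P.mapSurjective h.surj)
  obtain ⟨P', rfl⟩ := Sylow.mapSurjective_surjective h.surj p R
  refine ⟨P', fun e => hR (Sylow.ext ?_)⟩
  rw [Sylow.coe_mapSurjective, Sylow.coe_mapSurjective, e]

end H71.BGNP
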