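import Cfsg.Agent.H71.BGNP.SylowTwo
import Cfsg.Agent.H39.SL2Multiplier
import Cfsg.Agent.H39.PSL2Multiplier
import Cfsg.Agent.H74.Qd

/-!
For `p ≥ 5` the group in the rank one pushing up situation is `(N ⋊ SL₂(q)) × R` with `N` the
natural module and `R` of exponent `p`.
-/

set_option autoImplicit false
set_option linter.unusedSectionVars false
set_option linter.style.haveILetI false

open Subgroup Matrix
open scoped MatrixGroups Pointwise commutatorElement

namespace H71.BGNP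

/-- A decomposition `X = (N ⋊ SL₂(F)) × R`. -/
structure Split {X : Type*} [Group X] (p : ℕ) (F : Type) [Field F] (S Q : Subgroup X)
    (r : X →* SL(2, F)) (s : SL(2, F) →* X) (N R : Subgroup X) (em : (Fin 2 → F) → X) : Prop where
  ker : r.ker = Q
  section' : ∀ A, r (s A) = A
  N_eq : ∀ x, x ∈ N ↔ ∃ v, em v = x
  em_add : ∀ v w, em (v + w) = em v * em w
  em_inj : Function.Injective em
  em_act : ∀ A v, s A * em v * (s A)⁻¹ = em ((A : Matrix (Fin 2) (Fin 2) F).mulVec v)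
  N_le : N ≤ Q
  R_le : R ≤ Q
  Q_eq : ∀ x ∈ Q, ∃ v, ∃ c ∈ R, em v * c = x
  disj : N ⊓ R = ⊥
  commN : ∀ v, ∀ c ∈ R, em v * c = c * em v
  commS : ∀ A, ∀ c ∈ R, s A * c = c * s A
  pow : ∀ c ∈ R, c ^ p = 1
  S_mem : ∀ x, x ∈ S ↔ ∃ t, r x = H37.upper2 t

/-- `SL₂(q)` is generated by its elements of order prime to `p`, for `q ≥ 4`. -/
theorem pResidual_SL2 {F : Type} [Field F] [Fintype F] {p : ℕ} [Fact p.Prime] [CharP F p]
    (h4 : 4 ≤ Fintype.card F) : Cfsg.pResidual p SL(2, F) = ⊤ := by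
  haveI := H75.pResidual_normal p SL(2, F)
  have hQ := H75.isPGroup_quotient_of_pResidual_le (p := p) (le_refl (Cfsg.pResidual p SL(2, F)))
  haveI := hQ.isNilpotent
  obtain ⟨n, hn⟩ := Subgroup.nilpotent_iff_lowerCentralSeries.1
    (inferInstance : Group.IsNilpotent (SL(2, F) ⧸ Cfsg.pResidual p SL(2, F)))
  have hconst : ∀ m, (⊤ : Subgroup (SL(2, F) ⧸ Cfsg.pResidual p SL(2, F))).lowerCentralSeries m = ⊤ := by
    intro m
    induction m with
    | zero => rfl
    | succ m ih =>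
      rw [Subgroup.lowerCentralSeries_succ, ih,
        ← Subgroup.map_top_of_surjective _ (QuotientGroup.mk'_surjective (Cfsg.pResidual p SL(2, F))),
        ← Subgroup.map_commutator, ← _root_.commutator_def, H39.SL2_perfect' (F := F) h4]
  rw [hconst] at hn
  rw [eq_top_iff]
  intro g _
  rw [← QuotientGroup.eq_one_iff, ← mem_bot, ← hn]
  exact Subgroup.mem_top _

variable {X : Type*} [Group X] [Finite X] {p : ℕ} [Fact p.Prime] {F : Type} [Field F] [Fintype F]
  {ψ : X →* Matrix.ProjectiveSpecialLinearGroup (Fin 2) F} {S : Sylow p X} (h : Sit p ψ S)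
include h

/-- The decomposition for `p ≥ 5`. -/
theorem Sit.exists_split (hp5 : 5 ≤ p) :
    ∃ (r : X →* SL(2, F)) (s : SL(2, F) →* X) (N R : Subgroup X) (em : (Fin 2 → F) → X),
      Split p F (S : Subgroup X) (Cfsg.pCore p X) r s N R em := by
  classical
  haveI := h.char
  haveI hQn := H1.pCore_normal' p X
  obtain ⟨T, hT⟩ : ∃ T, CaseOne p (S : Subgroup X) (Cfsg.pCore p X) T := by
    rcases h.exists_case with hT | ⟨T, U, W, P, hT⟩
    · exact hT
    · have := (h.two_exponent hT).1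
      omega
  have hpne : p ≠ 2 := by omega
  have hexpS : ∀ x ∈ (S : Subgroup X), x ^ p = 1 := by
    have hpp : p.Prime := Fact.out
    exact h.one_pow hT dvd_rfl (hpp.dvd_choose_self two_ne_zero (by omega))
  obtain ⟨hVQ, hVC, hVp, -⟩ := module_facts h
  obtain ⟨hchV, hncV⟩ := h.chief_V
  obtain ⟨S', hS'⟩ := h.exists_lower
  obtain ⟨r, hr⟩ := h.exists_natHom hS'
  have hker := h.ker_natHom hS' hr
  set V := normalClosure (Zc p (S : Subgroup X) : Set X) with hV
  haveI hVn : V.Normal := normalClosure_normal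
  set C := V ⊓ center X with hC
  haveI hCn : C.Normal := inferInstance
  set Q := Cfsg.pCore p X with hQ
  have hQp : IsPGroup p Q := H1.isPGroup_pCore p X
  set π := QuotientGroup.mk' C with hπ
  obtain ⟨θ, hθ⟩ : ∃ θ : (Fin 2 → F) ≃+ Additive (V.map π), ∀ g v,
      π g * ((Additive.toMul (θ v) : V.map π) : X ⧸ C) * (π g)⁻¹ =
        ((Additive.toMul (θ (((r g : SL(2, F)) : Matrix (Fin 2) (Fin 2) F).mulVec v)) :
          V.map π) : X ⧸ C) := h.natural_data hS' hr hchV hVQ hncV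
  have hVab : ∀ v ∈ V, ∀ w ∈ V, v * w = w * v := fun v hv w hw => hVC hw v (hVQ hv)
  -- elements of order prime to `p` act trivially on `Q / V`
  have hQV : ∀ x : X, (orderOf x).Coprime p → ∀ u ∈ Q, ⁅x, u⁆ ∈ V := by
    obtain ⟨k, hk⟩ := exists_iter_le (A := V) (Nat.card Q) le_rfl hQn hVn hVQ
      fun U W hc hVW hUQ => h.central_of_fixed_cover hc hUQ hT.sup fun t ht u hu => hVW (by
        rw [← commutatorElement_inv]
        exact inv_mem (le_normalClosure (hT.comm_mem u (hUQ hu) t ht)))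
    exact fun x hx => comm_mem_of_iter hQp hQn hx k hk
  -- the involution
  obtain ⟨x0, hx0⟩ := hr.2.2 (-1)
  obtain ⟨k0, hco⟩ := H75.exists_pow_coprime (p := p) x0
  set i := x0 ^ p ^ k0 with hi
  have hri : r i = -1 := by
    rw [hi, map_pow, hx0]
    have hodd : Odd (p ^ k0) := ((Fact.out : p.Prime).odd_of_ne_two hpne).pow
    exact hodd.neg_one_pow
  have hii : i * i = 1 := by
    refine H75.eq_one_of_mem_of_coprime hQp ?_ ?_
    · rw [← hker, MonoidHom.mem_ker, map_mul, hri, neg_mul_neg, one_mul]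
    · rw [← sq]
      exact Nat.Coprime.coprime_dvd_left (orderOf_pow_dvd 2) hco
  have hiinv : i⁻¹ = i := inv_eq_of_mul_eq_one_right hii
  have hneg : ∀ {v : X}, v ∈ V → π (i * v * i⁻¹) = π v⁻¹ := by
    intro v hv
    set w := θ.symm (Additive.ofMul ⟨π v, mem_map_of_mem π hv⟩) with hw
    have hw' : ((Additive.toMul (θ w) : V.map π) : X ⧸ C) = π v := by
      rw [hw, AddEquiv.apply_symm_apply]; rfl
    have h1 := hθ i w
    rw [hri, hw', show ((-1 : SL(2, F)) : Matrix (Fin 2) (Fin 2) F).mulVec w = -w by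
      simp [Matrix.neg_mulVec], map_neg, toMul_neg, Subgroup.coe_inv, hw'] at h1
    rw [map_mul, map_mul, map_inv, map_inv, h1]
  let N : Subgroup X :=
    { carrier := {v | v ∈ V ∧ i * v * i⁻¹ = v⁻¹}
      one_mem' := ⟨one_mem _, by group⟩
      mul_mem' := fun {a b} ha hb => ⟨mul_mem ha.1 hb.1, by
        rw [show i * (a * b) * i⁻¹ = i * a * i⁻¹ * (i * b * i⁻¹) by group, ha.2, hb.2,
          _root_.mul_inv_rev, hVab _ (inv_mem ha.1) _ (inv_mem hb.1)]⟩
      inv_mem' := fun {a} ha => ⟨inv_mem ha.1, by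
        rw [show i * a⁻¹ * i⁻¹ = (i * a * i⁻¹)⁻¹ by group, ha.2]⟩ }
  have hNV : N ≤ V := fun v hv => hv.1
  obtain ⟨k, hk⟩ : ∃ k, p + 1 = 2 * k := by
    obtain ⟨a, ha⟩ := (Fact.out : p.Prime).odd_of_ne_two hpne
    exact ⟨a + 1, by omega⟩
  have hhalf : ∀ {v : X}, v ^ p = 1 → v = (v * v) ^ k := fun {v} hv => by
    rw [← sq, ← pow_mul, ← hk, pow_succ, hv, one_mul]
  have hNC : ∀ {v : X}, v ∈ N → v ∈ center X → v = 1 := by
    intro v hv hc
    have h1 := hv.2
    rw [mem_center_iff.1 hc i, mul_inv_cancel_right] at h1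
    rw [hhalf (hVp v hv.1), mul_eq_one_iff_eq_inv.2 h1, _root_.one_pow]
  have hdec : ∀ {v : X}, v ∈ V → ∃ a ∈ N, ∃ c ∈ C, a * c = v := by
    intro v hv
    have hv' : i * v⁻¹ * i⁻¹ ∈ V := hVn.conj_mem _ (inv_mem hv) i
    have ha : v * (i * v⁻¹ * i⁻¹) ∈ N := by
      refine ⟨mul_mem hv hv', ?_⟩
      rw [show i * (v * (i * v⁻¹ * i⁻¹)) * i⁻¹ = i * v * i⁻¹ * (i * i * v⁻¹ * (i * i)⁻¹) by group,
        hii, one_mul, inv_one, mul_one, _root_.mul_inv_rev,
        show (i * v⁻¹ * i⁻¹)⁻¹ = i * v * i⁻¹ by group]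
    have hc : v * (i * v * i⁻¹) ∈ C := by
      rw [← QuotientGroup.eq_one_iff, ← QuotientGroup.mk'_apply, ← hπ, map_mul, hneg hv, map_inv,
        mul_inv_cancel]
    refine ⟨_, pow_mem ha k, _, pow_mem hc k, ?_⟩
    have hcomm : Commute (v * (i * v⁻¹ * i⁻¹)) (v * (i * v * i⁻¹)) :=
      hVab _ (mul_mem hv hv') _ hc.1
    rw [← hcomm.mul_pow]
    conv_rhs => rw [hhalf (hVp v hv)]
    congr 1
    have hw : v * (i * v⁻¹ * i⁻¹) = i * v⁻¹ * i⁻¹ * v := hVab _ hv _ hv'
    calc v * (i * v⁻¹ * i⁻¹) * (v * (i * v * i⁻¹))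
        = v * ((i * v⁻¹ * i⁻¹) * v) * (i * v * i⁻¹) := by group
      _ = v * (v * (i * v⁻¹ * i⁻¹)) * (i * v * i⁻¹) := by rw [← hw]
      _ = v * v := by group
  -- the coordinates on `N`
  let φ : N →* V.map π := (π.comp N.subtype).codRestrict (V.map π) fun x => mem_map_of_mem π (hNV x.2)
  have hφb : Function.Bijective φ := by
    refine ⟨(injective_iff_map_eq_one φ).2 fun x hx => Subtype.ext (hNC x.2 ?_), ?_⟩
    · exact ((QuotientGroup.eq_one_iff (N := C) (x : X)).1 (congrArg Subtype.val hx)).2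
    · rintro ⟨_, v, hv, rfl⟩
      obtain ⟨a, ha, c, hc, rfl⟩ := hdec hv
      refine ⟨⟨a, ha⟩, Subtype.ext ?_⟩
      show π a = π (a * c)
      rw [map_mul, hπ, QuotientGroup.mk'_apply, QuotientGroup.mk'_apply,
        (QuotientGroup.eq_one_iff c).2 hc, mul_one]
  let e := MulEquiv.ofBijective φ hφb
  let em : (Fin 2 → F) → X := fun v => ((e.symm (Additive.toMul (θ v)) : N) : X)
  have hπem : ∀ v, π (em v) = ((Additive.toMul (θ v) : V.map π) : X ⧸ C) := fun v =>
    congrArg Subtype.val (e.apply_symm_apply (Additive.toMul (θ v)))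
  have hemN : ∀ v, em v ∈ N := fun v => (e.symm _).2
  have hNeq : ∀ {a b : X}, a ∈ N → b ∈ N → π a = π b → a = b := fun {a b} ha hb hab =>
    congrArg Subtype.val (hφb.1 (show φ ⟨a, ha⟩ = φ ⟨b, hb⟩ from Subtype.ext hab))
  have hNn : N.Normal := by
    refine ⟨fun v hv g => ⟨hVn.conj_mem v hv.1 g, ?_⟩⟩
    have hq : i⁻¹ * (g * i * g⁻¹) ∈ Q := by
      rw [← hker, MonoidHom.mem_ker, map_mul, map_inv, map_mul, map_mul, map_inv, hri]
      simp
    set q := i⁻¹ * (g * i * g⁻¹) with hqdef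
    have e1 : i = g * i * g⁻¹ * q⁻¹ := by rw [hqdef]; group
    have hfix : q⁻¹ * (g * v * g⁻¹) * q⁻¹⁻¹ = g * v * g⁻¹ := by
      rw [hVC (hVn.conj_mem v hv.1 g) q⁻¹ (inv_mem hq), mul_inv_cancel_right]
    calc i * (g * v * g⁻¹) * i⁻¹
        = g * i * g⁻¹ * (q⁻¹ * (g * v * g⁻¹) * q⁻¹⁻¹) * (g * i * g⁻¹)⁻¹ := by
          conv_lhs => rw [e1]
          group
      _ = g * (i * v * i⁻¹) * g⁻¹ := by rw [hfix]; group
      _ = (g * v * g⁻¹)⁻¹ := by rw [hv.2]; group
  -- the centralizer of the involution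
  set L := centralizer ({i} : Set X) with hL
  have hmemL : ∀ {x : X}, x ∈ L ↔ x * i = i * x := mem_centralizer_singleton_iff
  have hsplit : ∀ g : X, ∃ a ∈ N, ∃ l ∈ L, a * l = g := by
    intro g
    set q := g * i * g⁻¹ * i⁻¹ with hqdef
    have hq : q ∈ Q := by
      rw [← hker, MonoidHom.mem_ker, hqdef, map_mul, map_mul, map_mul, map_inv, map_inv, hri]
      simp
    have hqi : i * q * i⁻¹ = q⁻¹ := by
      rw [hqdef]
      calc i * (g * i * g⁻¹ * i⁻¹) * i⁻¹ = i * (g * i * g⁻¹) * (i * i)⁻¹ := by group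
        _ = i * (g * i⁻¹ * g⁻¹) := by rw [hii, hiinv]; group
        _ = _ := by group
    have hqV : q ∈ V := by
      have h1 := hQV i hco q hq
      rw [commutatorElement_def, hqi, ← _root_.mul_inv_rev] at h1
      have h2 := pow_mem (inv_mem h1) k
      rwa [inv_inv, ← hhalf (hexpS q (H1.pCore_le_sylow S hq))] at h2
    set a := q ^ k with ha
    have haN : a ∈ N := pow_mem (show q ∈ N from ⟨hqV, hqi⟩) k
    refine ⟨a, haN, a⁻¹ * g, hmemL.2 ?_, mul_inv_cancel_left a g⟩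
    have hqa : q = a * a := by
      rw [ha, ← (Commute.refl q).mul_pow]
      exact hhalf (hVp q hqV)
    have hconj : g * i = q * i * g := by rw [hqdef]; group
    have h2 : a * i = i * a⁻¹ := by
      rw [← haN.2]
      calc a * i = i * i * a * i := by rw [hii, one_mul]
        _ = i * (i * a * i⁻¹) := by rw [hiinv]; group
    calc a⁻¹ * g * i = a⁻¹ * (q * i * g) := by rw [mul_assoc, hconj]
      _ = (a * i) * g := by rw [hqa]; group
      _ = i * (a⁻¹ * g) := by rw [h2, mul_assoc]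
  set R := L ⊓ Q with hR
  have hRN : ∀ {x : X}, x ∈ L → x ∈ V → x ∈ C := by
    intro x hxL hxV
    obtain ⟨a, ha, c, hc, rfl⟩ := hdec hxV
    have hcL : c ∈ L := hmemL.2 (mem_center_iff.1 hc.2 i).symm
    have haL : a ∈ L := by simpa using mul_mem hxL (inv_mem hcL)
    have h1 := ha.2
    rw [← hmemL.1 haL, mul_inv_cancel_right] at h1
    rw [hhalf (hVp a ha.1), mul_eq_one_iff_eq_inv.2 h1, _root_.one_pow, one_mul]
    exact hc
  -- elements of order prime to `p` in `L` centralize `R`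
  have hcoR : ∀ {x : X}, x ∈ L → (orderOf x).Coprime p → ∀ c ∈ R, Commute x c := by
    intro x hxL hx c hc
    have hxc : ⁅x, c⁆ ∈ C := hRN
      (mul_mem (mul_mem (mul_mem hxL hc.1) (inv_mem hxL)) (inv_mem hc.1)) (hQV x hx c hc.2)
    exact H75.commute_of_coprime_step hQp hx (hVQ hxc.1) (mem_center_iff.1 hxc.2 x)
  set A := closure {x : X | x ∈ L ∧ (orderOf x).Coprime p} with hA
  have hAL : A ≤ L := (closure_le _).2 fun x hx => hx.1
  have hAR : A ≤ centralizer (R : Set X) :=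
    (closure_le _).2 fun x hx c hc => ((hcoR hx.1 hx.2 c hc).eq).symm
  have hq4 : 4 ≤ Fintype.card F := by
    obtain ⟨n, hn, hF⟩ := h.exists_card
    rw [hF]
    exact le_trans (by omega) (Nat.le_self_pow (by omega : n ≠ 0) p)
  have hAmap : A.map r = ⊤ := by
    rw [eq_top_iff, ← pResidual_SL2 (F := F) (p := p) hq4]
    refine (closure_le _).2 fun y hy => ?_
    obtain ⟨g, rfl⟩ := hr.2.2 y
    obtain ⟨a, ha, l, hl, rfl⟩ := hsplit g
    have hra : r a = 1 := by rw [← MonoidHom.mem_ker, hker]; exact hVQ ha.1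
    rw [map_mul, hra, one_mul] at hy ⊢
    obtain ⟨j, hj⟩ := H75.exists_pow_coprime (p := p) l
    have h1 : r l ^ p ^ j ∈ A.map r :=
      ⟨l ^ p ^ j, subset_closure ⟨pow_mem hl _, hj⟩, map_pow r l _⟩
    obtain ⟨m, hm⟩ := exists_pow_eq_self_of_coprime ((Nat.Coprime.pow_right j hy).symm)
    show r l ∈ A.map r
    rw [← hm]
    exact pow_mem h1 m
  -- the derived subgroup is perfect
  set B := ⁅A, A⁆ with hB
  have hBA : B ≤ A := commutator_le_self A
  have hBmap : B.map r = ⊤ := by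
    rw [hB, Subgroup.map_commutator, hAmap, ← _root_.commutator_def, H39.SL2_perfect' (F := F) hq4]
  have hcen : ∀ x ∈ A, r x = 1 → ∀ y ∈ A, x * y = y * x := fun x hx hx1 y hy =>
    hAR hy x ⟨hAL hx, hker ▸ hx1⟩
  have hBB : ⁅B, B⁆ = B := by
    refine le_antisymm (commutator_le_self B) (commutator_le.2 fun x hx y hy => ?_)
    have hlift : ∀ z : X, ∃ z' ∈ B, r z' = r z := fun z => by
      obtain ⟨z', hz', e⟩ := (hBmap ▸ Subgroup.mem_top (r z) : r z ∈ B.map r)
      exact ⟨z', hz', e⟩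
    obtain ⟨x', hx', ex⟩ := hlift x
    obtain ⟨y', hy', ey⟩ := hlift y
    have := H39.comm_congr_central (π := r.comp A.subtype)
      (fun z hz => mem_center_iff.2 fun w => Subtype.ext (hcen z z.2 hz w w.2).symm)
      (x := (⟨x, hx⟩ : A)) (x' := ⟨x', hBA hx'⟩) (y := ⟨y, hy⟩) (y' := ⟨y', hBA hy'⟩) ex.symm ey.symm
    have h2 := congrArg Subtype.val this
    rw [show ⁅x, y⁆ = ⁅x', y'⁆ from h2]
    exact commutator_mem_commutator hx' hy'
  set σ := r.comp B.subtype with hσ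
  have hσs : Function.Surjective σ := fun y => by
    obtain ⟨x, hx, e⟩ := (hBmap ▸ Subgroup.mem_top y : y ∈ B.map r)
    exact ⟨⟨x, hx⟩, e⟩
  have hstem : Cfsg.IsStemExtension σ := by
    refine ⟨hσs, fun z hz => mem_center_iff.2 fun w =>
      Subtype.ext (hcen z (hBA z.2) hz w (hBA w.2)).symm, fun z _ => ?_⟩
    rw [← mem_map_iff_mem B.subtype_injective, map_subtype_commutator, hBB]
    exact z.2
  have hσb : Function.Bijective σ := by
    refine ⟨(MonoidHom.ker_eq_bot_iff σ).1 (H39.stem_ker_eq_bot p ?_ ?_ hstem), hσs⟩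
    all_goals
      intro e
      obtain ⟨n, hn, hF⟩ := h.exists_card
      rw [hF] at e
    · have hd : p ∣ 2 ^ 2 := by
        rw [show (2 : ℕ) ^ 2 = 4 from rfl, ← e]
        exact dvd_pow_self p (by omega : n ≠ 0)
      have := (Fact.out : p.Prime).dvd_of_dvd_pow hd
      have := Nat.le_of_dvd two_pos this
      omega
    · have hd : p ∣ 3 ^ 2 := by
        rw [show (3 : ℕ) ^ 2 = 9 from rfl, ← e]
        exact dvd_pow_self p (by omega : n ≠ 0)
      have := (Fact.out : p.Prime).dvd_of_dvd_pow hd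
      have := Nat.le_of_dvd three_pos this
      omega
  let s : SL(2, F) →* X := B.subtype.comp (MulEquiv.ofBijective σ hσb).symm.toMonoidHom
  have hrs : ∀ M, r (s M) = M := fun M => (MulEquiv.ofBijective σ hσb).apply_symm_apply M
  have hsA : ∀ M, s M ∈ A := fun M => hBA ((MulEquiv.ofBijective σ hσb).symm M).2
  refine ⟨r, s, N, R, em,
    { ker := hker
      section' := hrs
      N_eq := fun x => ⟨fun hx => ⟨θ.symm (Additive.ofMul ⟨π x, mem_map_of_mem π (hNV hx)⟩), ?_⟩,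
        fun ⟨v, hv⟩ => hv ▸ hemN v⟩
      em_add := fun v w => ?_
      em_inj := fun v w e => ?_
      em_act := fun M v => ?_
      N_le := hNV.trans hVQ
      R_le := inf_le_right
      Q_eq := fun x hx => ?_
      disj := ?_
      commN := fun v c hc => (hVC (hNV (hemN v)) c hc.2).symm
      commS := fun M c hc => (hAR (hsA M) c hc).symm
      pow := fun c hc => hexpS c (H1.pCore_le_sylow S hc.2)
      S_mem := fun x => ?_ }⟩
  · refine hNeq (hemN _) hx ?_
    rw [hπem, AddEquiv.apply_symm_apply]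
    rfl
  · refine hNeq (hemN _) (mul_mem (hemN v) (hemN w)) ?_
    rw [map_mul, hπem, hπem, hπem, map_add, toMul_add, Subgroup.coe_mul]
  · refine θ.injective (Additive.toMul.injective (Subtype.ext ?_))
    rw [← hπem, e, hπem]
  · refine hNeq (hNn.conj_mem _ (hemN v) _) (hemN _) ?_
    rw [map_mul, map_mul, map_inv, hπem, hπem, hθ, hrs]
  · obtain ⟨a, ha, l, hl, rfl⟩ := hsplit x
    refine ⟨θ.symm (Additive.ofMul ⟨π a, mem_map_of_mem π (hNV ha)⟩), l, ⟨hl, ?_⟩, ?_⟩
    · simpa using mul_mem (inv_mem (hVQ (hNV ha))) hx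
    · congr 1
      refine hNeq (hemN _) ha ?_
      rw [hπem, AddEquiv.apply_symm_apply]
      rfl
  · rw [eq_bot_iff]
    intro x hx
    exact hNC hx.1 (hRN hx.2.1 (hNV hx.1)).2
  · constructor
    · intro hx
      obtain ⟨t, ht⟩ := (h.upper _).1 (mem_map_of_mem ψ hx)
      exact ⟨t, hr.1 x hx t ht⟩
    · rintro ⟨t, ht⟩
      obtain ⟨y, hy, hyt⟩ := (h.upper (H39.transl t)).2 ⟨t, rfl⟩
      have h1 : y⁻¹ * x ∈ Q := by
        rw [← hker, MonoidHom.mem_ker, map_mul, map_inv, hr.1 y hy t hyt, ht, inv_mul_cancel]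
      have := mul_mem hy (H1.pCore_le_sylow S h1)
      rwa [mul_inv_cancel_left] at this

end H71.BGNP
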