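import Cfsg.Agent.H71.BGNP.Situation
import Cfsg.Agent.H78.SL2Natural

/-!
An irreducible quadratic module in the rank one pushing up situation is natural, as soon as the
kernel of `ψ` fixes the fixed subgroup of `S`.

The fixed subgroups of the Sylow subgroups only depend on their images in `PSL₂(F)`; writing the
action of `S` and an opposite Sylow subgroup `S'` through maps `f t` between the two fixed
subgroups, the geometry of the projective line gives `f t⁻¹ = (f t)⁻¹`, and Hua's identity makes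
`f` multiplicative.
-/

set_option autoImplicit false
set_option linter.unusedSectionVars false

open Subgroup Matrix
open scoped MatrixGroups Pointwise

namespace H71.BGNP

section hua

variable {F : Type*} [Field F] [Finite F] {R : Type*} [Ring R]

/-- An additive map respecting inverses respects products. -/
theorem map_mul_of_inv {f : F → R} (hadd : ∀ s t, f (s + t) = f s + f t) (h1 : f 1 = 1)
    (hinv : ∀ t, t ≠ 0 → f t⁻¹ * f t = 1) : ∀ s t, f (s * t) = f s * f t := by
  classical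
  have h0 : f 0 = 0 := by have := hadd 0 0; simpa using this
  have hsub : ∀ s t, f (s - t) = f s - f t := fun s t => by
    rw [eq_sub_iff_add_eq, ← hadd, sub_add_cancel]
  have hinv' : ∀ t, t ≠ 0 → f t * f t⁻¹ = 1 := fun t ht => by
    simpa using hinv t⁻¹ (inv_ne_zero ht)
  -- Hua's identity
  have hua : ∀ a b : F, f (a * b * a) = f a * f b * f a := by
    intro a b
    by_cases ha : a = 0
    · simp [ha, h0]
    by_cases hb : b = 0
    · simp [hb, h0]
    by_cases hz : b⁻¹ - a = 0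
    · have hba : b = a⁻¹ := by rw [sub_eq_zero] at hz; rw [← hz, inv_inv]
      rw [hba, mul_inv_cancel₀ ha, one_mul, hinv' a ha, one_mul]
    have hs : a⁻¹ + (b⁻¹ - a)⁻¹ = (b⁻¹ - a)⁻¹ * b⁻¹ * a⁻¹ := by
      calc a⁻¹ + (b⁻¹ - a)⁻¹
          = (b⁻¹ - a)⁻¹ * (b⁻¹ - a) * a⁻¹ + (b⁻¹ - a)⁻¹ * (a * a⁻¹) := by
            rw [inv_mul_cancel₀ hz, one_mul, mul_inv_cancel₀ ha, mul_one]
        _ = _ := by ring
    have hs0 : a⁻¹ + (b⁻¹ - a)⁻¹ ≠ 0 := by
      rw [hs]
      exact mul_ne_zero (mul_ne_zero (inv_ne_zero hz) (inv_ne_zero hb)) (inv_ne_zero ha)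
    have hkey : (a⁻¹ + (b⁻¹ - a)⁻¹)⁻¹ = a - a * b * a := by
      rw [hs, mul_inv, mul_inv, inv_inv, inv_inv, inv_inv]
      have : b⁻¹ * b = 1 := inv_mul_cancel₀ hb
      linear_combination a * this
    -- the same computation in `R`
    set A := f a with hA
    set B := f b with hB
    set Z := f (b⁻¹ - a) with hZ
    have hZ' : Z = f b⁻¹ - A := by rw [hZ, hsub]
    have hsum : f (a⁻¹ + (b⁻¹ - a)⁻¹) = f a⁻¹ + f (b⁻¹ - a)⁻¹ := hadd _ _
    have hfac : f a⁻¹ + f (b⁻¹ - a)⁻¹ = f a⁻¹ * f b⁻¹ * f (b⁻¹ - a)⁻¹ := by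
      calc f a⁻¹ + f (b⁻¹ - a)⁻¹
          = f a⁻¹ * Z * f (b⁻¹ - a)⁻¹ + f a⁻¹ * A * f (b⁻¹ - a)⁻¹ := by
            rw [mul_assoc (f a⁻¹) Z, hinv' _ hz, mul_one, hinv a ha, one_mul]
        _ = f a⁻¹ * (Z + A) * f (b⁻¹ - a)⁻¹ := by noncomm_ring
        _ = _ := by rw [hZ', sub_add_cancel]
    have hright : f (a⁻¹ + (b⁻¹ - a)⁻¹) * (Z * B * A) = 1 := by
      rw [hsum, hfac]
      calc f a⁻¹ * f b⁻¹ * f (b⁻¹ - a)⁻¹ * (Z * B * A)
          = f a⁻¹ * (f b⁻¹ * ((f (b⁻¹ - a)⁻¹ * Z) * B)) * A := by noncomm_ring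
        _ = 1 := by rw [hinv _ hz, one_mul, hinv b hb, mul_one, hinv a ha]
    have h2 := hinv _ hs0
    have h3 : f (a⁻¹ + (b⁻¹ - a)⁻¹)⁻¹ = Z * B * A := left_inv_eq_right_inv h2 hright
    rw [hkey, hsub, hZ', sub_mul, sub_mul, hinv b hb, one_mul] at h3
    exact sub_right_injective h3
  obtain ⟨g, hg⟩ := IsCyclic.exists_monoid_generator (α := Fˣ)
  have hpow : ∀ n : ℕ, f ((g : F) ^ n) = f (g : F) ^ n ∧
      f ((g : F) ^ (n + 1)) = f (g : F) ^ (n + 1) := by
    intro n
    induction n with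
    | zero => simp [h1]
    | succ n ih =>
      refine ⟨ih.2, ?_⟩
      rw [show (g : F) ^ (n + 1 + 1) = (g : F) * (g : F) ^ n * (g : F) by ring, hua, ih.1,
        ← pow_succ', ← pow_succ]
  intro s t
  by_cases hs : s = 0
  · simp [hs, h0]
  by_cases ht : t = 0
  · simp [ht, h0]
  obtain ⟨i, hi⟩ := Submonoid.mem_powers_iff _ _ |>.1 (hg (Units.mk0 s hs))
  obtain ⟨j, hj⟩ := Submonoid.mem_powers_iff _ _ |>.1 (hg (Units.mk0 t ht))
  have hi' : (g : F) ^ i = s := by simpa using congrArg Units.val hi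
  have hj' : (g : F) ^ j = t := by simpa using congrArg Units.val hj
  rw [← hi', ← hj', ← pow_add, (hpow (i + j)).1, (hpow i).1, (hpow j).1, pow_add]

end hua

/-- Lower unipotent elements of `PSL₂`. -/
def lowP {F : Type*} [Field F] (r : F) : Matrix.ProjectiveSpecialLinearGroup (Fin 2) F :=
  H39.proj (H37.lower2 r)

section psl

variable {F : Type*} [Field F]

theorem transl_eq (t : F) : H39.transl t = H39.proj (H37.upper2 t) := rfl

theorem low_mul (s t : F) : H37.lower2 s * H37.lower2 t = H37.lower2 (s + t) := by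
  apply Subtype.ext; ext i j
  fin_cases i <;> fin_cases j <;>
    simp [H37.coe_lower2, Matrix.mul_apply, Fin.sum_univ_two]

theorem low_zero : H37.lower2 (0 : F) = 1 := by
  apply Subtype.ext; ext i j
  fin_cases i <;> fin_cases j <;> simp [H37.coe_lower2]

theorem lowP_zero : lowP (0 : F) = 1 := by rw [lowP, low_zero, map_one]

theorem transl_conj_lowP {t : F} (ht : t ≠ 0) (c : F) :
    H39.transl t * lowP c * (H39.transl t)⁻¹ =
      lowP t⁻¹ * H39.transl (-(t * t * c)) * (lowP t⁻¹)⁻¹ := by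
  simp only [transl_eq, lowP, ← map_inv, ← map_mul]
  congr 1
  apply Subtype.ext; ext i j
  fin_cases i <;> fin_cases j <;>
    simp [H37.coe_upper2, H37.coe_lower2, Matrix.SpecialLinearGroup.coe_mul,
      Matrix.SpecialLinearGroup.coe_inv, Matrix.adjugate_fin_two, Matrix.mul_apply,
      Fin.sum_univ_two] <;>
    field_simp <;> ring

theorem weyl_conj_lowP {t : F} (ht : t ≠ 0) (c : F) :
    H39.transl 1 * lowP (-1) * H39.transl 1 * (H39.transl t * lowP c * (H39.transl t)⁻¹) *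
        (H39.transl 1 * lowP (-1) * H39.transl 1)⁻¹ =
      H39.transl (-t⁻¹) * lowP (t * t * c) * (H39.transl (-t⁻¹))⁻¹ := by
  simp only [transl_eq, lowP, ← map_inv, ← map_mul]
  congr 1
  apply Subtype.ext; ext i j
  fin_cases i <;> fin_cases j <;>
    simp [H37.coe_upper2, H37.coe_lower2, Matrix.SpecialLinearGroup.coe_mul,
      Matrix.SpecialLinearGroup.coe_inv, Matrix.adjugate_fin_two, Matrix.mul_apply,
      Fin.sum_univ_two] <;>
    field_simp <;> ring

theorem lowP_ne_transl (t : F) : lowP 1 ≠ H39.transl t := by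
  intro h
  rw [transl_eq, lowP] at h
  rcases H39.proj_eq_proj_iff.1 h with h | h
  · have := congrArg (fun g : SL(2, F) => g 1 0) h
    simp [H37.coe_upper2, H37.coe_lower2] at this
  · have := congrArg (fun g : SL(2, F) => g 1 0) h
    simp [H37.coe_upper2, H37.coe_lower2] at this

end psl

variable {X : Type*} [Group X] [Finite X] {p : ℕ} [Fact p.Prime] {F : Type} [Field F] [Fintype F]
  {ψ : X →* Matrix.ProjectiveSpecialLinearGroup (Fin 2) F} {S : Sylow p X}
  {U : Type*} [AddCommGroup U]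

/-- There is a Sylow subgroup with image the lower unipotent elements. -/
theorem Sit.exists_lower (h : Sit p ψ S) : ∃ S' : Sylow p X,
    ∀ y, y ∈ (S' : Subgroup X).map ψ ↔ ∃ r, y = lowP r := by
  obtain ⟨g, hg⟩ := h.surj (H39.proj (H78.Nat2.ww : SL(2, F)))
  refine ⟨g • S, fun y => ?_⟩
  have key : ∀ t : F, H39.proj (H78.Nat2.ww : SL(2, F)) * H39.transl t *
      (H39.proj (H78.Nat2.ww : SL(2, F)))⁻¹ = lowP (-t) := fun t => by
    rw [transl_eq, ← map_inv, ← map_mul, ← map_mul, H78.Nat2.ww_up, mul_inv_cancel_right]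
    rfl
  constructor
  · rintro ⟨x, hx, rfl⟩
    rw [SetLike.mem_coe, Sylow.coe_subgroup_smul, mem_pointwise_smul_iff_inv_smul_mem] at hx
    have hx' : g⁻¹ * x * g ∈ (S : Subgroup X) := by
      simpa only [MulAut.smul_def, MulAut.inv_apply, MulAut.conj_symm_apply] using hx
    obtain ⟨a, ha⟩ := (h.upper _).1 (mem_map_of_mem ψ hx')
    refine ⟨-a, ?_⟩
    rw [← key a, ← ha, ← hg, ← map_inv, ← map_mul, ← map_mul]
    congr 1
    group
  · rintro ⟨r, rfl⟩
    obtain ⟨x, hx, hxe⟩ := (h.upper (H39.transl (-r))).2 ⟨-r, rfl⟩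
    refine ⟨g * x * g⁻¹, ?_, ?_⟩
    · rw [SetLike.mem_coe, Sylow.coe_subgroup_smul, mem_pointwise_smul_iff_inv_smul_mem]
      simpa only [SetLike.mem_coe, MulAut.smul_def, MulAut.inv_apply, MulAut.conj_symm_apply, mul_assoc,
        inv_mul_cancel_left, inv_mul_cancel, mul_one] using hx
    · rw [map_mul, map_mul, map_inv, hg, hxe, key, neg_neg]

/-- An irreducible, nontrivial, quadratic module. -/
structure QMod (p : ℕ) (S : Sylow p X) (ρ : X →* AddMonoid.End U) : Prop where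
  irr : ∀ W : AddSubgroup U, (∀ g : X, ∀ w ∈ W, ρ g w ∈ W) → W = ⊥ ∨ W = ⊤
  nt : ∃ (g : X) (u : U), ρ g u ≠ u
  triv : ∀ k ∈ Cfsg.pCore p X, ρ k = 1
  quad : ∀ x ∈ (S : Subgroup X), ∀ y ∈ (S : Subgroup X), ∀ u,
    ρ x (ρ y u - u) = ρ y u - u

variable {ρ : X →* AddMonoid.End U}

theorem rho_mul (g h : X) (u : U) : ρ (g * h) u = ρ g (ρ h u) := by
  rw [map_mul]; rfl

theorem rho_one (u : U) : ρ 1 u = u := by rw [map_one]; rfl

theorem rho_inv_self (g : X) (u : U) : ρ g⁻¹ (ρ g u) = u := by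
  rw [← rho_mul, inv_mul_cancel, rho_one]

theorem rho_self_inv (g : X) (u : U) : ρ g (ρ g⁻¹ u) = u := by
  rw [← rho_mul, mul_inv_cancel, rho_one]

/-- The fixed points of a subgroup. -/
def fix (ρ : X →* AddMonoid.End U) (P : Subgroup X) : AddSubgroup U where
  carrier := {u | ∀ x ∈ P, ρ x u = u}
  zero_mem' := fun x _ => map_zero _
  add_mem' := fun {a b} ha hb x hx => by rw [map_add, ha x hx, hb x hx]
  neg_mem' := fun {a} ha x hx => by rw [map_neg, ha x hx]

theorem mem_fix {P : Subgroup X} {u : U} : u ∈ fix ρ P ↔ ∀ x ∈ P, ρ x u = u := Iff.rfl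

theorem mem_fix_smul {g : X} {P : Sylow p X} {u : U} :
    u ∈ fix ρ ((g • P : Sylow p X) : Subgroup X) ↔ ρ g⁻¹ u ∈ fix ρ (P : Subgroup X) := by
  constructor
  · intro hu x hx
    have hx' : g * x * g⁻¹ ∈ ((g • P : Sylow p X) : Subgroup X) := by
      rw [Sylow.coe_subgroup_smul, mem_pointwise_smul_iff_inv_smul_mem]
      simpa only [MulAut.smul_def, MulAut.inv_apply, MulAut.conj_symm_apply, mul_assoc,
        inv_mul_cancel_left, inv_mul_cancel, mul_one] using hx
    calc ρ x (ρ g⁻¹ u) = ρ g⁻¹ (ρ (g * x * g⁻¹) u) := by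
          rw [← rho_mul, ← rho_mul]; congr 2; group
      _ = ρ g⁻¹ u := by rw [hu _ hx']
  · intro hu x hx
    rw [Sylow.coe_subgroup_smul, mem_pointwise_smul_iff_inv_smul_mem] at hx
    have hx' : g⁻¹ * x * g ∈ (P : Subgroup X) := by
      simpa only [MulAut.smul_def, MulAut.inv_apply, MulAut.conj_symm_apply] using hx
    calc ρ x u = ρ g (ρ (g⁻¹ * x * g) (ρ g⁻¹ u)) := by
          rw [← rho_mul, ← rho_mul]; congr 2; group
      _ = u := by rw [hu _ hx', rho_self_inv]

/-- A set of elements preserving an additive subgroup of a finite module. -/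
def stab [Finite U] (ρ : X →* AddMonoid.End U) (W : AddSubgroup U) : Subgroup X where
  carrier := {g | ∀ w ∈ W, ρ g w ∈ W}
  one_mem' := fun w hw => by rwa [rho_one]
  mul_mem' := fun {a b} ha hb w hw => by rw [rho_mul]; exact ha _ (hb w hw)
  inv_mem' := fun {g} hg w hw => by
    have hinj : Function.Injective (fun v : W => (⟨ρ g v, hg v v.2⟩ : W)) := fun a b e =>
      Subtype.ext (by simpa [rho_inv_self] using congrArg (fun v : W => ρ g⁻¹ (v : U)) e)
    obtain ⟨v, hv⟩ := Finite.surjective_of_injective hinj ⟨w, hw⟩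
    have : ρ g v = w := congrArg Subtype.val hv
    rw [← this, rho_inv_self]
    exact v.2

variable [Finite U] (h : Sit p ψ S) (hU : QMod p S ρ)
include h hU

theorem QMod.eq_top_of_inv {P P' : Sylow p X}
    (hne : (P : Subgroup X).map ψ ≠ (P' : Subgroup X).map ψ) :
    (P : Subgroup X) ⊔ (P' : Subgroup X) = ⊤ := by
  haveI := H1.pCore_normal' p X
  obtain ⟨x, hx, hxQ⟩ := h.ctx.exists_notMem
  obtain ⟨g, rfl⟩ := MulAction.exists_smul_eq X S P
  have hx' : g * x * g⁻¹ ∈ ((g • S : Sylow p X) : Subgroup X) := by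
    rw [Sylow.coe_subgroup_smul, mem_pointwise_smul_iff_inv_smul_mem]
    simpa only [MulAut.smul_def, MulAut.inv_apply, MulAut.conj_symm_apply, mul_assoc,
      inv_mul_cancel_left, inv_mul_cancel, mul_one] using hx
  refine eq_top_iff.2 ((h.sup_eq_top hne hx' fun hh => hxQ ?_).ge.trans
    (sup_le_sup_right (zpowers_le.2 hx') _))
  have := (H1.pCore_normal' p X).conj_mem _ hh g⁻¹
  simpa [mul_assoc] using this

theorem QMod.eq_zero_of_fixed {u : U} (hu : ∀ g, ρ g u = u) : u = 0 := by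
  let W : AddSubgroup U :=
    { carrier := {w | ∀ g, ρ g w = w}
      zero_mem' := fun g => map_zero _
      add_mem' := fun {a b} ha hb g => by rw [map_add, ha g, hb g]
      neg_mem' := fun {a} ha g => by rw [map_neg, ha g] }
  rcases hU.irr W fun g w hw k => by rw [hw g, hw k] with hW | hW
  · have : u ∈ W := hu
    rw [hW] at this
    exact this
  · obtain ⟨g, v, hv⟩ := hU.nt
    exact absurd ((hW ▸ AddSubgroup.mem_top v : v ∈ W) g) hv

theorem QMod.fix_inter {P P' : Sylow p X} (hne : (P : Subgroup X).map ψ ≠ (P' : Subgroup X).map ψ)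
    {x : X} (hx : x ∈ (P : Subgroup X)) (hxQ : x ∉ Cfsg.pCore p X) {u : U} (hu : ρ x u = u)
    (hu' : u ∈ fix ρ (P' : Subgroup X)) : u = 0 := by
  refine hU.eq_zero_of_fixed h fun g => ?_
  let St : Subgroup X :=
    { carrier := {g | ρ g u = u}
      one_mem' := rho_one u
      mul_mem' := fun {a b} ha hb => by
        show ρ (a * b) u = u
        rw [rho_mul, hb, ha]
      inv_mem' := fun {a} ha => by
        show ρ a⁻¹ u = u
        conv_lhs => rw [← (ha : ρ a u = u)]
        rw [rho_inv_self] }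
  have : zpowers x ⊔ (P' : Subgroup X) ≤ St := sup_le (zpowers_le.2 hu) hu'
  exact this (h.sup_eq_top hne hx hxQ ▸ mem_top g)

theorem QMod.sub_mem_fix (P : Sylow p X) {x : X} (hx : x ∈ (P : Subgroup X)) (u : U) :
    ρ x u - u ∈ fix ρ (P : Subgroup X) := by
  obtain ⟨g, rfl⟩ := MulAction.exists_smul_eq X S P
  rw [Sylow.coe_subgroup_smul, mem_pointwise_smul_iff_inv_smul_mem] at hx
  have hx' : g⁻¹ * x * g ∈ (S : Subgroup X) := by
    simpa only [MulAut.smul_def, MulAut.inv_apply, MulAut.conj_symm_apply] using hx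
  rw [mem_fix_smul, map_sub, ← rho_mul]
  have e : ρ (g⁻¹ * x) u = ρ (g⁻¹ * x * g) (ρ g⁻¹ u) := by rw [← rho_mul]; congr 2; group
  rw [e]
  exact fun y hy => hU.quad y hy _ hx' _

theorem QMod.fix_sup {P P' : Sylow p X}
    (hne : (P : Subgroup X).map ψ ≠ (P' : Subgroup X).map ψ) :
    fix ρ (P : Subgroup X) ⊔ fix ρ (P' : Subgroup X) = ⊤ := by
  set W := fix ρ (P : Subgroup X) ⊔ fix ρ (P' : Subgroup X) with hW
  have hinv : ∀ (R : Sylow p X), fix ρ (R : Subgroup X) ≤ W → ∀ x ∈ (R : Subgroup X),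
      ∀ w ∈ W, ρ x w ∈ W := by
    intro R hR x hx w hw
    have := add_mem (hR (hU.sub_mem_fix h R hx w)) hw
    simpa using this
  have hst : ∀ g : X, ∀ w ∈ W, ρ g w ∈ W := by
    intro g
    have : (P : Subgroup X) ⊔ (P' : Subgroup X) ≤ stab ρ W :=
      sup_le (fun x hx => hinv P le_sup_left x hx) (fun x hx => hinv P' le_sup_right x hx)
    exact this (hU.eq_top_of_inv h hne ▸ mem_top g)
  refine (hU.irr W hst).resolve_left fun hbot => ?_
  obtain ⟨g, u, hgu⟩ := hU.nt
  let St : Subgroup X :=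
    { carrier := {g | ρ g = 1}
      one_mem' := map_one ρ
      mul_mem' := fun {a b} ha hb => by
        show ρ (a * b) = 1
        rw [map_mul, ha, hb, one_mul]
      inv_mem' := fun {a} ha => by
        show ρ a⁻¹ = 1
        have := map_mul ρ a⁻¹ a
        rwa [inv_mul_cancel, map_one, (ha : ρ a = 1), mul_one, eq_comm] at this }
  have key : ∀ R : Sylow p X, fix ρ (R : Subgroup X) ≤ W → (R : Subgroup X) ≤ St := by
    intro R hR x hx
    refine DFunLike.ext _ _ fun v => ?_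
    have := hR (hU.sub_mem_fix h R hx v)
    rw [hbot, AddSubgroup.mem_bot, sub_eq_zero] at this
    exact this
  have : g ∈ St := (sup_le (key P le_sup_left) (key P' le_sup_right))
    (hU.eq_top_of_inv h hne ▸ mem_top g)
  exact hgu (by rw [(this : ρ g = 1)]; rfl)

theorem QMod.fix_eq_of_map_eq (hA : ∀ k ∈ ψ.ker, ∀ a ∈ fix ρ (S : Subgroup X),
      ρ k a ∈ fix ρ (S : Subgroup X)) {P P' : Sylow p X}
    (e : (P : Subgroup X).map ψ = (P' : Subgroup X).map ψ) :
    fix ρ (P : Subgroup X) ≤ fix ρ (P' : Subgroup X) := by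
  obtain ⟨k, hk, rfl⟩ := h.exists_ker_smul e
  obtain ⟨g, rfl⟩ := MulAction.exists_smul_eq X S P
  intro u hu
  rw [mem_fix_smul] at hu
  rw [← mul_smul, mem_fix_smul]
  have hk' : g⁻¹ * k⁻¹ * g ∈ ψ.ker := by
    simpa using (inferInstance : ψ.ker.Normal).conj_mem _ (inv_mem hk) g⁻¹
  have := hA _ hk' _ hu
  rwa [← rho_mul, show g⁻¹ * k⁻¹ * g * g⁻¹ = (k * g)⁻¹ by group] at this

/-- The module is natural, with the given Sylow subgroups acting as the unipotent subgroups. -/
theorem QMod.natural (hA : ∀ k ∈ ψ.ker, ∀ a ∈ fix ρ (S : Subgroup X),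
      ρ k a ∈ fix ρ (S : Subgroup X)) {S' : Sylow p X}
    (hS' : ∀ y, y ∈ (S' : Subgroup X).map ψ ↔ ∃ r, y = lowP r) :
    ∃ ρ' : X →* SL(2, F),
      (∀ x ∈ (S : Subgroup X), ∀ t, ψ x = H39.transl t → ρ' x = H37.upper2 t) ∧
      (∀ x ∈ (S' : Subgroup X), ∀ r, ψ x = lowP r → ρ' x = H37.lower2 r) ∧
      Function.Surjective ρ' ∧
      ∃ θ : (Fin 2 → F) ≃+ U, ∀ g v, ρ g (θ v) =
        θ (((ρ' g : SL(2, F)) : Matrix (Fin 2) (Fin 2) F).mulVec v) := by
  haveI := h.char
  set A := fix ρ (S : Subgroup X) with hAdef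
  set B := fix ρ (S' : Subgroup X) with hBdef
  have hne : (S : Subgroup X).map ψ ≠ (S' : Subgroup X).map ψ := by
    intro e
    obtain ⟨a, ha⟩ := (h.upper (lowP 1)).1 (e ▸ (hS' _).2 ⟨1, rfl⟩)
    exact lowP_ne_transl a ha
  -- parameters
  choose s hs hψs using fun t => (h.upper (H39.transl t)).2 ⟨t, rfl⟩
  choose s' hs' hψs' using fun r => (hS' (lowP r)).2 ⟨r, rfl⟩
  have hEq : ∀ (P : Sylow p X) {x y : X}, x ∈ (P : Subgroup X) → y ∈ (P : Subgroup X) →
      ψ x = ψ y → ρ x = ρ y := by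
    intro P x y hx hy e
    have : y⁻¹ * x ∈ Cfsg.pCore p X := h.mem_pCore_of_ker P (mul_mem (inv_mem hy) hx)
      (by rw [map_mul, map_inv, e, inv_mul_cancel])
    rw [show x = y * (y⁻¹ * x) by group, map_mul, hU.triv _ this, mul_one]
  set E : F → AddMonoid.End U := fun t => ρ (s t) with hE
  set L : F → AddMonoid.End U := fun r => ρ (s' r) with hL
  have hEadd : ∀ a b u, E (a + b) u = E a (E b u) := by
    intro a b u
    have := hEq S (hs (a + b)) (mul_mem (hs a) (hs b))
      (by rw [map_mul, hψs, hψs, hψs, H39.transl_mul])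
    show ρ _ u = _
    rw [this, rho_mul]
  have hLadd : ∀ a b u, L (a + b) u = L a (L b u) := by
    intro a b u
    have := hEq S' (hs' (a + b)) (mul_mem (hs' a) (hs' b))
      (by rw [map_mul, hψs', hψs', hψs', lowP, lowP, lowP, ← map_mul, low_mul])
    show ρ _ u = _
    rw [this, rho_mul]
  have hEA : ∀ t, ∀ a ∈ A, E t a = a := fun t a ha => ha _ (hs t)
  have hLB : ∀ r, ∀ b ∈ B, L r b = b := fun r b hb => hb _ (hs' r)
  have hEsub : ∀ t u, E t u - u ∈ A := fun t u => hU.sub_mem_fix h S (hs t) u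
  have hLsub : ∀ r u, L r u - u ∈ B := fun r u => hU.sub_mem_fix h S' (hs' r) u
  have hsnot : ∀ t, t ≠ 0 → s t ∉ Cfsg.pCore p X := fun t ht hq =>
    H39.transl_ne_one ht ((hψs t).symm.trans (h.pCore_le_ker hq))
  have hs'not : ∀ r, r ≠ 0 → s' r ∉ Cfsg.pCore p X := fun r hr hq => by
    have h1 : lowP r = 1 := (hψs' r).symm.trans (h.pCore_le_ker hq)
    rw [lowP, ← map_one H39.proj] at h1
    rcases H39.proj_eq_proj_iff.1 h1 with h2 | h2
    · have := congrArg (fun g : SL(2, F) => g 1 0) h2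
      simp [H37.coe_lower2] at this
      exact hr this.symm
    · have := congrArg (fun g : SL(2, F) => g 1 0) h2
      simp [H37.coe_lower2] at this
      exact hr this
  have hdisj : ∀ u, u ∈ A → u ∈ B → u = 0 := fun u hu hu' =>
    hU.fix_inter h hne (hs 1) (hsnot 1 one_ne_zero) (hEA 1 u hu) hu'
  have hdec : ∀ u, ∃ a ∈ A, ∃ b ∈ B, a + b = u := fun u => by
    have := hU.fix_sup h hne ▸ AddSubgroup.mem_top u
    exact AddSubgroup.mem_sup.1 this
  -- the maps between the fixed subgroups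
  let φ : F → (B →+ A) := fun t =>
    { toFun := fun b => ⟨E t b - b, hEsub t b⟩
      map_zero' := Subtype.ext (by simp)
      map_add' := fun x y => Subtype.ext (by
        show E t ((x : U) + y) - ((x : U) + y) = E t x - x + (E t y - y)
        rw [map_add]; abel) }
  let χ : F → (A →+ B) := fun r =>
    { toFun := fun a => ⟨L r a - a, hLsub r a⟩
      map_zero' := Subtype.ext (by simp)
      map_add' := fun x y => Subtype.ext (by
        show L r ((x : U) + y) - ((x : U) + y) = L r x - x + (L r y - y)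
        rw [map_add]; abel) }
  have hEb : ∀ t (b : B), E t b = ((φ t b : A) : U) + b := fun t b => by
    show E t b = E t b - b + b; abel
  have hLa : ∀ r (a : A), L r a = (a : U) + ((χ r a : B) : U) := fun r a => by
    show L r a = a + (L r a - a); abel
  have hφinj : ∀ t, t ≠ 0 → Function.Injective (φ t) := fun t ht => by
    rw [injective_iff_map_eq_zero]
    intro b hb
    have hb' : E t b - b = 0 := congrArg Subtype.val hb
    exact Subtype.ext (hU.fix_inter h hne (hs t) (hsnot t ht) (sub_eq_zero.1 hb') b.2)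
  have hχinj : ∀ r, r ≠ 0 → Function.Injective (χ r) := fun r hr => by
    rw [injective_iff_map_eq_zero]
    intro a ha
    have ha' : L r a - a = 0 := congrArg Subtype.val ha
    exact Subtype.ext (hU.fix_inter h hne.symm (hs' r) (hs'not r hr) (sub_eq_zero.1 ha') a.2)
  have hcard : Nat.card B = Nat.card A :=
    le_antisymm (Nat.card_le_card_of_injective _ (hφinj 1 one_ne_zero))
      (Nat.card_le_card_of_injective _ (hχinj 1 one_ne_zero))
  have hbij : Function.Bijective (φ 1) :=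
    ((hφinj 1 one_ne_zero).bijective_of_nat_card_le hcard.ge)
  let ι : B ≃+ A := AddEquiv.ofBijective (φ 1) hbij
  let f : F → AddMonoid.End A := fun t => (φ t).comp ι.symm.toAddMonoidHom
  have hφf : ∀ t b, φ t b = f t (ι b) := fun t b => by
    show φ t b = φ t (ι.symm (ι b))
    rw [AddEquiv.symm_apply_apply]
  have hfadd : ∀ a b, f (a + b) = f a + f b := by
    intro a b
    refine DFunLike.ext _ _ fun x => Subtype.ext ?_
    show E (a + b) (ι.symm x : B) - (ι.symm x : B) = _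
    set y := ι.symm x with hy
    have : (((f a + f b : AddMonoid.End A) x : A) : U) =
        ((φ a y : A) : U) + ((φ b y : A) : U) := rfl
    rw [this, hEadd, hEb b y, map_add, hEA a _ (φ b y).2, hEb a y]
    abel
  have hf1 : f 1 = 1 := DFunLike.ext _ _ fun x => ι.apply_symm_apply x
  -- equal images give equal fixed subgroups
  have hsame : ∀ {P P' : Sylow p X}, (∀ y, y ∈ (P : Subgroup X) → ψ y ∈ (P' : Subgroup X).map ψ) →
      (∀ y, y ∈ (P' : Subgroup X) → ψ y ∈ (P : Subgroup X).map ψ) →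
      fix ρ (P : Subgroup X) ≤ fix ρ (P' : Subgroup X) := by
    intro P P' h1 h2
    refine hU.fix_eq_of_map_eq h hA (le_antisymm ?_ ?_)
    · rintro _ ⟨y, hy, rfl⟩; exact h1 y hy
    · rintro _ ⟨y, hy, rfl⟩; exact h2 y hy
  have hmem : ∀ {g : X} {P : Sylow p X} {y : X}, y ∈ ((g • P : Sylow p X) : Subgroup X) ↔
      g⁻¹ * y * g ∈ (P : Subgroup X) := fun {g P y} => by
    rw [Sylow.coe_subgroup_smul, mem_pointwise_smul_iff_inv_smul_mem]
    simp only [MulAut.smul_def, MulAut.inv_apply, MulAut.conj_symm_apply]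
  have hmapmem : ∀ {g : X} {P : Sylow p X} {z : Matrix.ProjectiveSpecialLinearGroup (Fin 2) F},
      z ∈ ((g • P : Sylow p X) : Subgroup X).map ψ ↔
        (ψ g)⁻¹ * z * ψ g ∈ (P : Subgroup X).map ψ := by
    intro g P z
    constructor
    · rintro ⟨y, hy, rfl⟩
      exact ⟨_, hmem.1 hy, by simp⟩
    · rintro ⟨y, hy, he⟩
      refine ⟨g * y * g⁻¹, hmem.2 ?_, ?_⟩
      · rw [show g⁻¹ * (g * y * g⁻¹) * g = y by group]; exact hy
      rw [map_mul, map_mul, map_inv, he]; group
  -- `S'` moved by `s t` is `S` moved by `s' t⁻¹`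
  have hrel : ∀ t, t ≠ 0 → ∀ b : B, χ t⁻¹ (φ t b) = b := by
    intro t ht b
    have h1 : fix ρ ((s t • S' : Sylow p X) : Subgroup X) ≤
        fix ρ ((s' t⁻¹ • S : Sylow p X) : Subgroup X) := by
      refine hsame (fun y hy => ?_) (fun y hy => ?_)
      · obtain ⟨c, hc⟩ := (hS' _).1 (mem_map_of_mem ψ (hmem.1 hy))
        rw [map_mul, map_mul, map_inv, hψs] at hc
        rw [hmapmem, hψs', h.upper]
        refine ⟨-(t * t * c), ?_⟩
        have he : ψ y = H39.transl t * lowP c * (H39.transl t)⁻¹ := by rw [← hc]; group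
        rw [he, transl_conj_lowP ht]; group
      · obtain ⟨a, ha⟩ := (h.upper _).1 (mem_map_of_mem ψ (hmem.1 hy))
        rw [map_mul, map_mul, map_inv, hψs'] at ha
        rw [hmapmem, hψs, hS']
        refine ⟨-a / (t * t), ?_⟩
        have he : ψ y = lowP t⁻¹ * H39.transl a * (lowP t⁻¹)⁻¹ := by rw [← ha]; group
        have hk := transl_conj_lowP ht (-a / (t * t))
        rw [show -(t * t * (-a / (t * t))) = a by field_simp] at hk
        rw [he, ← hk]; group
    have h2 : E t b ∈ fix ρ ((s t • S' : Sylow p X) : Subgroup X) := by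
      rw [mem_fix_smul]
      show ρ (s t)⁻¹ (ρ (s t) b) ∈ B
      rw [rho_inv_self]
      exact b.2
    have h3 : ρ (s' t⁻¹)⁻¹ (E t b) ∈ A := mem_fix_smul.1 (h1 h2)
    set a : A := ⟨_, h3⟩ with ha
    have h4 : L t⁻¹ (a : U) = E t b := rho_self_inv _ _
    rw [hLa, hEb] at h4
    have h5 : (a : U) - ((φ t b : A) : U) = (b : U) - ((χ t⁻¹ a : B) : U) := by
      rw [sub_eq_sub_iff_add_eq_add, h4]; abel
    have h6 := hdisj _ (sub_mem a.2 (φ t b).2) (h5 ▸ sub_mem b.2 (χ t⁻¹ a).2)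
    have h7 : a = φ t b := Subtype.ext (sub_eq_zero.1 h6)
    rw [h6, eq_comm, sub_eq_zero] at h5
    rw [← h7]
    exact Subtype.ext h5.symm
  -- the element swapping the two fixed subgroups
  have hweyl : ∀ t, t ≠ 0 → ∀ x : A, f t⁻¹ (f t x) = x := by
    intro t ht x
    set w := s 1 * s' (-1) * s 1 with hw
    have hψw : ψ w = H39.transl 1 * lowP (-1) * H39.transl 1 := by
      rw [hw, map_mul, map_mul, hψs, hψs']
    have h1 : fix ρ (((w * s t) • S' : Sylow p X) : Subgroup X) ≤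
        fix ρ ((s (-t⁻¹) • S' : Sylow p X) : Subgroup X) := by
      refine hsame (fun y hy => ?_) (fun y hy => ?_)
      · obtain ⟨c, hc⟩ := (hS' _).1 (mem_map_of_mem ψ (hmem.1 hy))
        rw [map_mul, map_mul, map_inv, map_mul, hψw, hψs] at hc
        rw [hmapmem, hψs, hS']
        refine ⟨t * t * c, ?_⟩
        have he : ψ y = H39.transl 1 * lowP (-1) * H39.transl 1 *
            (H39.transl t * lowP c * (H39.transl t)⁻¹) *
            (H39.transl 1 * lowP (-1) * H39.transl 1)⁻¹ := by rw [← hc]; group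
        rw [he, weyl_conj_lowP ht]; group
      · obtain ⟨c, hc⟩ := (hS' _).1 (mem_map_of_mem ψ (hmem.1 hy))
        rw [map_mul, map_mul, map_inv, hψs] at hc
        rw [hmapmem, map_mul, hψw, hψs, hS']
        refine ⟨c / (t * t), ?_⟩
        have hk := weyl_conj_lowP ht (c / (t * t))
        rw [show t * t * (c / (t * t)) = c by field_simp] at hk
        have he : ψ y = H39.transl (-t⁻¹) * lowP c * (H39.transl (-t⁻¹))⁻¹ := by rw [← hc]; group
        rw [he, ← hk]; group
    set b : B := ι.symm x with hb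
    have hEt : ρ w (E t b) ∈ fix ρ (((w * s t) • S' : Sylow p X) : Subgroup X) := by
      rw [mem_fix_smul]
      show ρ (w * s t)⁻¹ (ρ w (ρ (s t) b)) ∈ B
      rw [← rho_mul w, rho_inv_self]
      exact b.2
    have h3 : ρ (s (-t⁻¹))⁻¹ (ρ w (E t b)) ∈ B := mem_fix_smul.1 (h1 hEt)
    set b' : B := ⟨_, h3⟩ with hb'
    have h4 : E (-t⁻¹) (b' : U) = ρ w (E t b) := rho_self_inv _ _
    -- the action of `w`
    have hneg : ∀ a : A, ((χ (-1) a : B) : U) = -((ι.symm a : B) : U) := by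
      intro a
      have e1 : χ (1 : F)⁻¹ (φ 1 (ι.symm a)) = ι.symm a := hrel 1 one_ne_zero _
      have e2 : φ 1 (ι.symm a) = a := ι.apply_symm_apply a
      rw [inv_one, e2] at e1
      have e3 := hLadd (-1) 1 (a : U)
      rw [neg_add_cancel, hLa 1, map_add, hLB _ _ (χ 1 a).2, hLa (-1), e1] at e3
      have e4 : L 0 (a : U) = a := by
        show ρ _ (a : U) = a
        rw [hEq S' (hs' 0) (one_mem _) (by rw [hψs', lowP_zero, map_one]), rho_one]
      rw [e4, add_assoc, left_eq_add] at e3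
      exact eq_neg_of_add_eq_zero_left e3
    have hW : ∀ (a : A) (c : B), ρ w ((a : U) + c) = ((ι c : A) : U) - ((ι.symm a : B) : U) := by
      intro a c
      rw [hw, rho_mul, rho_mul]
      show E 1 (L (-1) (E 1 ((a : U) + c))) = _
      rw [map_add (E 1), hEA 1 _ a.2, hEb 1 c, ← add_assoc, map_add (L (-1)), hLB _ _ c.2,
        show ((a : U) + ((φ 1 c : A) : U)) = ((a + φ 1 c : A) : U) from rfl, hLa,
        hneg, map_add, map_add, map_neg, hEA 1 _ (a + φ 1 c).2, hEb 1 c, hEb 1 (ι.symm (a + φ 1 c))]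
      have e2 : φ 1 (ι.symm (a + φ 1 c)) = a + φ 1 c := ι.apply_symm_apply _
      have e3 : ι.symm (a + φ 1 c) = ι.symm a + c := by
        rw [map_add]; congr 1; exact ι.symm_apply_apply c
      rw [e2, e3, AddSubgroup.coe_add, AddSubgroup.coe_add]
      show _ = ((φ 1 c : A) : U) - _
      abel
    rw [hEb, hEb, hW] at h4
    have h5 : ((φ (-t⁻¹) b' : A) : U) - ((ι b : A) : U) =
        -((b' : U) + ((ι.symm (φ t b) : B) : U)) := by
      rw [eq_neg_iff_add_eq_zero, ← sub_eq_zero.2 h4]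
      abel
    have h6 := hdisj _ (sub_mem (φ (-t⁻¹) b').2 (ι b).2)
      (h5 ▸ neg_mem (add_mem b'.2 (ι.symm (φ t b)).2))
    rw [h6, eq_comm, neg_eq_zero] at h5
    have hb'' : b' = -ι.symm (φ t b) := Subtype.ext (eq_neg_of_add_eq_zero_left h5)
    have h8 : φ (-t⁻¹) b' = ι b := Subtype.ext (sub_eq_zero.1 h6)
    rw [hb'', map_neg, hφf, AddEquiv.apply_symm_apply] at h8
    have hx : ι b = x := ι.apply_symm_apply x
    have hfneg : f (-t⁻¹) = -f t⁻¹ := by
      have h0 : f 0 = 0 := by simpa using hfadd 0 0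
      exact eq_neg_of_add_eq_zero_left (by rw [← hfadd, neg_add_cancel, h0])
    rw [hfneg] at h8
    have h9 : -(-(f t⁻¹ (φ t b))) = ι b := h8
    rw [neg_neg, hφf, hx] at h9
    exact h9
  have hmul := map_mul_of_inv hfadd hf1 fun t ht => DFunLike.ext _ _ (hweyl t ht)
  -- the lower unipotent elements
  have hχf : ∀ r (a : A), χ r a = ι.symm (f r a) := by
    intro r a
    by_cases hr : r = 0
    · subst hr
      have h0 : f 0 = 0 := by simpa using hfadd 0 0
      rw [h0]
      refine Eq.trans ?_ (map_zero ι.symm).symm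
      refine Subtype.ext ?_
      show L 0 (a : U) - a = 0
      rw [sub_eq_zero]
      show ρ _ (a : U) = a
      rw [hEq S' (hs' 0) (one_mem _) (by rw [hψs', lowP_zero, map_one]), rho_one]
    have e1 := hrel r⁻¹ (inv_ne_zero hr) (ι.symm (f r a))
    rw [inv_inv, hφf, AddEquiv.apply_symm_apply, hweyl r hr] at e1
    exact e1
  -- coordinates
  have hfadd' : ∀ a b (x : A), f (a + b) x = f a x + f b x := fun a b x => by rw [hfadd]; rfl
  obtain ⟨a0, ha0⟩ : ∃ a : A, a ≠ 0 := by
    by_contra hcon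
    push Not at hcon
    obtain ⟨g, u, hgu⟩ := hU.nt
    have hall : ∀ v : U, v = 0 := by
      intro v
      obtain ⟨a, ha, b, hb, rfl⟩ := hdec v
      have h1 : a = 0 := congrArg Subtype.val (hcon ⟨a, ha⟩)
      have h2 : (⟨b, hb⟩ : B) = 0 := hφinj 1 one_ne_zero ((hcon _).trans (map_zero _).symm)
      rw [h1, zero_add]
      exact congrArg Subtype.val h2
    exact hgu ((hall _).trans (hall u).symm)
  let θ0 : (Fin 2 → F) →+ U :=
    AddMonoidHom.mk' (fun v => ((f (v 0) a0 : A) : U) + ((ι.symm (f (v 1) a0) : B) : U))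
      (fun v w => by
        simp only [Pi.add_apply, hfadd', map_add, AddSubgroup.coe_add]
        abel)
  have hθapp : ∀ v, θ0 v = ((f (v 0) a0 : A) : U) + ((ι.symm (f (v 1) a0) : B) : U) := fun v => rfl
  have hfmul : ∀ a b (x : A), f (a * b) x = f a (f b x) := fun a b x => by rw [hmul]; rfl
  have hup : ∀ t v, E t (θ0 v) =
      θ0 (((H37.upper2 t : SL(2, F)) : Matrix (Fin 2) (Fin 2) F).mulVec v) := by
    intro t v
    rw [hθapp, map_add, hEA t _ (f (v 0) a0).2, hEb, hφf, AddEquiv.apply_symm_apply, ← hfmul,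
      hθapp]
    simp [H37.coe_upper2, Matrix.mulVec, dotProduct, Fin.sum_univ_two, hfadd', add_assoc]
  have hlow : ∀ r v, L r (θ0 v) =
      θ0 (((H37.lower2 r : SL(2, F)) : Matrix (Fin 2) (Fin 2) F).mulVec v) := by
    intro r v
    rw [hθapp, map_add, hLa, hLB r _ (ι.symm _).2, hχf, ← hfmul, hθapp]
    simp [H37.coe_lower2, Matrix.mulVec, dotProduct, Fin.sum_univ_two, hfadd', add_assoc]
  have hθinj : Function.Injective θ0 := by
    rw [injective_iff_map_eq_zero]
    intro v hv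
    rw [hθapp] at hv
    have h1 := hdisj _ (f (v 0) a0).2
      (by rw [eq_neg_of_add_eq_zero_left hv]; exact neg_mem (ι.symm (f (v 1) a0)).2)
    rw [h1, zero_add] at hv
    have h2 : f (v 1) a0 = 0 :=
      ι.symm.injective ((Subtype.ext hv).trans (map_zero ι.symm).symm)
    have hz : ∀ c, f c a0 = 0 → c = 0 := fun c hc => by
      by_contra hc0
      apply ha0
      rw [← hweyl c hc0 a0, hc, map_zero]
    ext i; fin_cases i
    · exact hz _ (Subtype.ext h1)
    · exact hz _ h2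
  let N : Subgroup X :=
    { carrier := {g | ∃ M : SL(2, F), ∀ v, ρ g (θ0 v) = θ0 ((M : Matrix (Fin 2) (Fin 2) F).mulVec v)}
      one_mem' := ⟨1, fun v => by rw [rho_one]; simp⟩
      mul_mem' := fun {a b} ⟨M, hM⟩ ⟨M', hM'⟩ => ⟨M * M', fun v => by
        rw [rho_mul, hM', hM, Matrix.mulVec_mulVec, ← Matrix.SpecialLinearGroup.coe_mul]⟩
      inv_mem' := fun {a} ⟨M, hM⟩ => ⟨M⁻¹, fun v => by
        have := congrArg (ρ a⁻¹) (hM ((M⁻¹ : SL(2, F)).1.mulVec v))
        rw [rho_inv_self, Matrix.mulVec_mulVec, ← Matrix.SpecialLinearGroup.coe_mul,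
          mul_inv_cancel, Matrix.SpecialLinearGroup.coe_one, Matrix.one_mulVec] at this
        exact this.symm⟩ }
  have hNS : ∀ x ∈ (S : Subgroup X), ∀ t, ψ x = H39.transl t → ∀ v, ρ x (θ0 v) =
      θ0 (((H37.upper2 t : SL(2, F)) : Matrix (Fin 2) (Fin 2) F).mulVec v) := fun x hx t ht v => by
    rw [hEq S hx (hs t) (ht.trans (hψs t).symm)]; exact hup t v
  have hNS' : ∀ x ∈ (S' : Subgroup X), ∀ r, ψ x = lowP r → ∀ v, ρ x (θ0 v) =
      θ0 (((H37.lower2 r : SL(2, F)) : Matrix (Fin 2) (Fin 2) F).mulVec v) := fun x hx r hr v => by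
    rw [hEq S' hx (hs' r) (hr.trans (hψs' r).symm)]; exact hlow r v
  have hNtop : N = ⊤ := eq_top_iff.2 ((hU.eq_top_of_inv h hne).ge.trans (sup_le
    (fun x hx => by
      obtain ⟨t, ht⟩ := (h.upper _).1 (mem_map_of_mem ψ hx)
      exact ⟨_, hNS x hx t ht⟩)
    (fun x hx => by
      obtain ⟨r, hr⟩ := (hS' _).1 (mem_map_of_mem ψ hx)
      exact ⟨_, hNS' x hx r hr⟩)))
  choose M hM using fun g : X => (show g ∈ N from hNtop ▸ mem_top g)
  have huni : ∀ {M M' : SL(2, F)}, (∀ v, θ0 ((M : Matrix (Fin 2) (Fin 2) F).mulVec v) =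
      θ0 ((M' : Matrix (Fin 2) (Fin 2) F).mulVec v)) → M = M' := fun {M M'} e =>
    Subtype.ext (Matrix.ext_of_mulVec_single fun i => hθinj (e _))
  let ρ' : X →* SL(2, F) :=
    MonoidHom.mk' M fun a b => huni fun v => by
      rw [← hM, rho_mul, hM b, hM a, Matrix.mulVec_mulVec, ← Matrix.SpecialLinearGroup.coe_mul]
  have hθsurj : Function.Surjective θ0 := by
    intro u
    rcases hU.irr θ0.range fun g w hw => by
      obtain ⟨v, rfl⟩ := hw
      exact ⟨_, (hM g v).symm⟩ with hr | hr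
    · exfalso
      apply ha0
      have h1 : θ0 ![1, 0] ∈ θ0.range := ⟨_, rfl⟩
      rw [hr, AddSubgroup.mem_bot, ← map_zero θ0] at h1
      exact absurd (congrFun (hθinj h1) 0) (by simp)
    · exact (hr ▸ AddSubgroup.mem_top u : u ∈ θ0.range)
  refine ⟨ρ', fun x hx t ht => huni fun v => (hM x v).symm.trans (hNS x hx t ht v),
    fun x hx r hr => huni fun v => (hM x v).symm.trans (hNS' x hx r hr v), ?_,
    AddEquiv.ofBijective θ0 ⟨hθinj, hθsurj⟩, fun g v => hM g v⟩
  rw [← MonoidHom.range_eq_top]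
  refine H37.eq_top_of_upper2_lower2 _ (fun c => ⟨s c, ?_⟩) (fun c => ⟨s' c, ?_⟩)
  · exact huni fun v => (hM _ v).symm.trans (hNS _ (hs c) c (hψs c) v)
  · exact huni fun v => (hM _ v).symm.trans (hNS' _ (hs' c) c (hψs' c) v)

end H71.BGNP
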