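import Cfsg.Agent.H71.BGNP.Factors

/-!
The Sylow subgroup in the case `b = 1`: class two, exponent `p` or `4`, one noncentral chief
factor.
-/

set_option autoImplicit false
set_option linter.unusedSectionVars false
set_option linter.style.haveILetI false

open Subgroup
open scoped Pointwise commutatorElement

namespace H71.BGNP

variable {X : Type*} [Group X] [Finite X] {p : ℕ} [Fact p.Prime] {F : Type} [Field F] [Fintype F]
  {ψ : X →* Matrix.ProjectiveSpecialLinearGroup (Fin 2) F} {S : Sylow p X} (h : Sit p ψ S)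
include h

/-- `S` is not abelian. -/
theorem Sit.lcs_one_ne_bot : (S : Subgroup X).lowerCentralSeries 1 ≠ ⊥ := by
  intro e
  obtain ⟨x, hx, hxQ⟩ := h.ctx.exists_notMem
  refine hxQ (h.cent fun k hk => ?_)
  refine commutatorElement_eq_one_iff_mul_comm.1 ?_
  rw [← mem_bot, ← e]
  exact commutator_mem_commutator (H1.pCore_le_sylow S hk) hx

variable {T : Subgroup X} (hT : CaseOne p (S : Subgroup X) (Cfsg.pCore p X) T)
include hT

theorem Sit.one_mul_mem {s : X} (hs : s ∈ (S : Subgroup X)) :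
    ∃ t ∈ T, ∃ k ∈ Cfsg.pCore p X, t * k = s :=
  haveI := H1.pCore_normal' p X
  exists_mul_of_mem_sup (le_top.trans (normalizer_eq_top (Cfsg.pCore p X)).ge) (hT.sup hs)

theorem Sit.one_lcs : (S : Subgroup X).lowerCentralSeries 2 = ⊥ := by
  haveI hQn := H1.pCore_normal' p X
  set Q := Cfsg.pCore p X with hQ
  set Sg := (S : Subgroup X) with hSg
  have hQS : Q ≤ Sg := H1.pCore_le_sylow S
  refine h.lcs_eq_bot ?_
  -- `[c, t]` is central for `c ∈ Q`, so trivial for `c ∈ [Q, Q]`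
  have hzfix : ∀ {z s : X}, z ∈ Zc p Sg → s ∈ Sg → s * z * s⁻¹ = z := fun {z s} hz hs => by
    rw [hz.2.1 s hs, mul_inv_cancel_right]
  have htS : ∀ {t : X}, t ∈ T → t ∈ Sg := fun ht => hT.le ht
  have hmulL : ∀ {t : X}, t ∈ T → ∀ {a b : X}, a ∈ Q → b ∈ Q → ⁅a * b, t⁆ = ⁅b, t⁆ * ⁅a, t⁆ :=
    fun {t} ht {a b} ha hb => by rw [comm_mul_left, hzfix (hT.comm_mem b hb t ht) (hQS ha)]
  have hkill : ∀ {c t : X}, c ∈ ⁅Q, Q⁆ → t ∈ T → ⁅c, t⁆ = 1 := by
    intro c t hc ht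
    let K : Subgroup X :=
      { carrier := {c | c ∈ Q ∧ ⁅c, t⁆ = 1}
        one_mem' := ⟨one_mem _, commutatorElement_one_left t⟩
        mul_mem' := fun {a b} ha hb => ⟨mul_mem ha.1 hb.1, by
          rw [hmulL ht ha.1 hb.1, ha.2, hb.2, one_mul]⟩
        inv_mem' := fun {a} ha => ⟨inv_mem ha.1, by
          have := hmulL ht (inv_mem ha.1) ha.1
          rwa [inv_mul_cancel, commutatorElement_one_left, ha.2, one_mul, eq_comm] at this⟩ }
    have hle : ⁅Q, Q⁆ ≤ K := commutator_le.2 fun a ha b hb => by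
      refine ⟨mul_mem (mul_mem (mul_mem ha hb) (inv_mem ha)) (inv_mem hb), ?_⟩
      have e1 : ⁅a * b, t⁆ = ⁅⁅a, b⁆, t⁆ * ⁅b * a, t⁆ → ⁅⁅a, b⁆, t⁆ = 1 := by
        rw [hmulL ht ha hb, hmulL ht hb ha,
          show ⁅b, t⁆ * ⁅a, t⁆ = ⁅a, t⁆ * ⁅b, t⁆ from
            (hT.comm_mem a ha t ht).2.1 _ (hT.comm_mem b hb t ht).1]
        exact fun e => mul_eq_right.1 e.symm
      refine e1 ?_
      have hab : ⁅a, b⁆ ∈ Q := mul_mem (mul_mem (mul_mem ha hb) (inv_mem ha)) (inv_mem hb)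
      rw [show (a * b) = ⁅a, b⁆ * (b * a) by rw [commutatorElement_def]; group,
        hmulL ht hab (mul_mem hb ha)]
      exact (hT.comm_mem _ hab t ht).2.1 _ (hT.comm_mem _ (mul_mem hb ha) t ht).1
    exact (hle hc).2
  haveI : (⁅Q, Q⁆).Normal := commutator_normal _ _
  haveI : (⁅⁅Q, Q⁆, Q⁆).Normal := commutator_normal _ _
  have htz : ∀ {t s : X}, t ∈ T → s ∈ Sg → ⁅t, s⁆ ∈ Zc p Sg := by
    intro t s ht hs
    obtain ⟨t', ht', k, hk, rfl⟩ := h.one_mul_mem hT hs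
    have h1 : ⁅t, k⁆ ∈ Zc p Sg := by
      rw [← commutatorElement_inv]; exact inv_mem (hT.comm_mem k hk t ht)
    rw [comm_mul_right, comm_eq_one_of (hT.comm t ht t' ht'), one_mul, hzfix h1 (htS ht')]
    exact h1
  set N := ⁅Q, Q⁆ ⊔ Zc p Sg with hN
  have hNfix : ∀ {x s : X}, x ∈ N → s ∈ Sg → s * x * s⁻¹ ∈ N := by
    intro x s hx hs
    obtain ⟨c, hc, z, hz, rfl⟩ := exists_mul_of_mem_sup (A := ⁅Q, Q⁆) (B := Zc p Sg)
      (fun c hc => centralizer_le_normalizer _ (fun z hz => ((hz.2.1 c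
        (hQS (commutator_le_left Q Q hc)))).symm)) hx
    rw [show s * (c * z) * s⁻¹ = s * c * s⁻¹ * (s * z * s⁻¹) by group, hzfix hz hs]
    exact mul_mem (mem_sup_left (Normal.conj_mem inferInstance c hc s)) (mem_sup_right hz)
  have h1 : Sg.lowerCentralSeries 1 ≤ N := by
    refine commutator_le.2 fun x hx y hy => ?_
    obtain ⟨t, ht, k, hk, rfl⟩ := h.one_mul_mem hT hx
    obtain ⟨t', ht', k', hk', rfl⟩ := h.one_mul_mem hT hy
    rw [comm_mul_left, comm_mul_right k]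
    refine mul_mem (hNfix (mul_mem (mem_sup_right (hT.comm_mem k hk t' ht')) ?_) (htS ht))
      (mem_sup_right (htz ht hy))
    exact hNfix (mem_sup_left (commutator_mem_commutator hk hk')) (htS ht')
  intro x hx
  refine (commutator_le.2 fun x hx s hs => ?_ : Sg.lowerCentralSeries 2 ≤ ⁅⁅Q, Q⁆, Q⁆) hx
  obtain ⟨c, hc, z, hz, rfl⟩ := exists_mul_of_mem_sup (A := ⁅Q, Q⁆) (B := Zc p Sg)
      (fun c hc => centralizer_le_normalizer _ (fun z hz => ((hz.2.1 c
        (hQS (commutator_le_left Q Q hc)))).symm)) (h1 hx)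
  obtain ⟨t, ht, k, hk, rfl⟩ := h.one_mul_mem hT hs
  rw [comm_mul_left, comm_eq_one_of (hz.2.1 _ hs).symm, mul_one, mul_inv_cancel, one_mul,
    comm_mul_right, hkill hc ht, one_mul]
  exact Normal.conj_mem inferInstance _ (commutator_mem_commutator hc hk) t

theorem Sit.one_pow {n : ℕ} (hn : p ∣ n) (hn2 : p ∣ n.choose 2) :
    ∀ x ∈ (S : Subgroup X), x ^ n = 1 := by
  refine h.pow_eq_one fun x hx => ?_
  obtain ⟨t, ht, k, hk, rfl⟩ := h.one_mul_mem hT hx
  have hz := hT.comm_mem k hk t ht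
  have hkS := H1.pCore_le_sylow S hk
  refine ⟨k, hk, ?_⟩
  rw [mul_pow_of_comm (c := ⁅k, t⁆) ((hz.2.1 t (hT.le ht)).symm) ((hz.2.1 k hkS).symm)
    (by rw [commutatorElement_def]; group) n]
  obtain ⟨m, rfl⟩ := hn
  obtain ⟨m', hm'⟩ := hn2
  rw [hm', pow_mul ⁅k, t⁆, hz.2.2, _root_.one_pow, one_mul, pow_mul t, hT.pow t ht, _root_.one_pow, one_mul]

theorem Sit.one_exponent :
    (p = 2 → Monoid.exponent ↥(S : Subgroup X) = 4) ∧
      (p ≠ 2 → Monoid.exponent ↥(S : Subgroup X) = p) := by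
  have hne1 : Monoid.exponent ↥(S : Subgroup X) ≠ 1 := by
    intro e
    haveI := Monoid.exp_eq_one_iff.1 e
    obtain ⟨x, hx, hxQ⟩ := h.ctx.exists_notMem
    have h1 : (⟨x, hx⟩ : ↥(S : Subgroup X)) = 1 := Subsingleton.elim _ _
    exact hxQ (by rw [show x = 1 from congrArg Subtype.val h1]; exact one_mem _)
  have hdvd : ∀ {n : ℕ}, p ∣ n → p ∣ n.choose 2 → Monoid.exponent ↥(S : Subgroup X) ∣ n :=
    fun hn hn2 => Monoid.exponent_dvd_of_forall_pow_eq_one fun x =>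
      Subtype.ext (by simpa using h.one_pow hT hn hn2 x x.2)
  constructor
  · intro hp
    have h4 : Monoid.exponent ↥(S : Subgroup X) ∣ 2 ^ 2 :=
      hdvd (by subst hp; decide) (by subst hp; decide)
    obtain ⟨i, hi, he⟩ := (Nat.dvd_prime_pow Nat.prime_two).1 h4
    interval_cases i
    · simp at he; exact absurd he hne1
    · exfalso
      refine h.lcs_one_ne_bot ?_
      rw [eq_bot_iff]
      refine commutator_le.2 fun a ha b hb => ?_
      rw [mem_bot, commutatorElement_eq_one_iff_mul_comm]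
      exact congrArg Subtype.val
        (mul_comm_of_exponent_two (by simpa using he) (⟨a, ha⟩ : ↥(S : Subgroup X)) ⟨b, hb⟩)
    · simpa using he
  · intro hp
    have hpp : p.Prime := Fact.out
    exact ((Nat.dvd_prime hpp).1 (hdvd dvd_rfl
      (hpp.dvd_choose_self two_ne_zero (hpp.two_le.lt_of_ne' hp)))).resolve_left hne1

theorem Sit.one_factors : ∃ U W : Subgroup X, W ≤ U ∧ U ≤ Cfsg.pCore p X ∧
    Cfsg.IsChiefFactor U W ∧ ¬ ⁅U, (⊤ : Subgroup X)⁆ ≤ W ∧
    (∃ k : ℕ, Cfsg.iterCommutator W ⊤ k = ⊥) ∧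
    (∃ k : ℕ, Cfsg.iterCommutator (Cfsg.pCore p X) ⊤ k ≤ U) := by
  obtain ⟨hVQ, -⟩ := module_facts h
  set V := normalClosure (Zc p (S : Subgroup X) : Set X) with hV
  obtain ⟨hch, hnc⟩ := h.chief_V
  refine ⟨V, V ⊓ center X, inf_le_left, hVQ, hch, hnc, ⟨1, ?_⟩, ?_⟩
  · rw [eq_bot_iff]
    show ⁅V ⊓ center X, (⊤ : Subgroup X)⁆ ≤ ⊥
    refine commutator_le.2 fun a ha b _ => ?_
    rw [mem_bot, commutatorElement_eq_one_iff_mul_comm]
    exact (mem_center_iff.1 ha.2 b).symm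
  · refine exists_iter_le _ le_rfl (H1.pCore_normal' p X) normalClosure_normal hVQ
      fun U W hc hVW hUQ => h.central_of_fixed_cover hc hUQ hT.sup fun t ht u hu => hVW ?_
    rw [← commutatorElement_inv]
    exact inv_mem (le_normalClosure (hT.comm_mem u (hUQ hu) t ht))

end H71.BGNP
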