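import Cfsg.Agent.H71.BGNP.SylowTwoModule
import Cfsg.Agent.H71.BGNP.SylowOne

/-!
The case `b = 2`: `S` has class three and exponent nine, two noncentral chief factors.
-/

set_option autoImplicit false
set_option linter.unusedSectionVars false
set_option linter.style.haveILetI false

open Subgroup
open scoped Pointwise commutatorElement

namespace H71.BGNP

/-- In a group of exponent three an element commutes with its commutators. -/
theorem engel_two_of_pow_three {G : Type*} [Group G] {s u : G}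
    (h1 : (u * s) ^ 3 = 1) (h2 : (s * u) ^ 3 = 1) (h3 : (s * u⁻¹) ^ 3 = 1) (hu : u ^ 3 = 1) :
    ⁅s, ⁅s, u⁆⁆ = 1 := by
  have e1 : s * u * s = u⁻¹ * s⁻¹ * u⁻¹ := by
    calc s * u * s = u⁻¹ * s⁻¹ * u⁻¹ * (u * s) ^ 3 * 1 := by
          simp only [pow_succ, pow_zero]; group
      _ = _ := by rw [h1]; group
  have e2 : s * u⁻¹ * s = u * s⁻¹ * u := by
    calc s * u⁻¹ * s = (s * u⁻¹) ^ 3 * (u * s⁻¹ * u) := by
          simp only [pow_succ, pow_zero]; group
      _ = _ := by rw [h3, one_mul]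
  have e3 : u * u = u⁻¹ := eq_inv_of_mul_eq_one_left (by rw [← hu, pow_succ, sq])
  have hcomm : Commute s (u * s⁻¹ * u⁻¹) := by
    have hc : Commute s (u * s * u⁻¹) := by
      show s * (u * s * u⁻¹) = u * s * u⁻¹ * s
      calc s * (u * s * u⁻¹) = s * u * s * u⁻¹ := by group
        _ = u⁻¹ * s⁻¹ * u⁻¹ * u⁻¹ := by rw [e1]
        _ = u⁻¹ * s⁻¹ * (u * u)⁻¹ := by group
        _ = u⁻¹ * s⁻¹ * u := by rw [e3, inv_inv]
        _ = u * u * s⁻¹ * u := by rw [e3]
        _ = u * (s * u⁻¹ * s) := by rw [e2]; group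
        _ = _ := by group
    have := hc.inv_right
    simpa [mul_assoc] using this
  exact comm_eq_one_of ((show Commute s ⁅s, u⁆ by
    rw [commutatorElement_def, mul_assoc s u, mul_assoc s]
    exact (Commute.refl s).mul_right hcomm).eq)

variable {X : Type*} [Group X] [Finite X] {p : ℕ} [Fact p.Prime] {F : Type} [Field F] [Fintype F]
  {ψ : X →* Matrix.ProjectiveSpecialLinearGroup (Fin 2) F} {S : Sylow p X} (h : Sit p ψ S)
  {T U W A : Subgroup X}
  (hT : CaseTwo p (Fintype.card F) ⊤ (S : Subgroup X) (Cfsg.pCore p X)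
    (normalClosure (Zc p (S : Subgroup X) : Set X)) T U W A)
include h hT

theorem Sit.two_lcs : (S : Subgroup X).lowerCentralSeries 3 = ⊥ := by
  haveI hQn := H1.pCore_normal' p X
  haveI hUn := h.two_U_normal hT
  set Q := Cfsg.pCore p X with hQ
  set Sg := (S : Subgroup X) with hSg
  have hQS : Q ≤ Sg := H1.pCore_le_sylow S
  have hUS : U ≤ Sg := hT.U_le.trans hQS
  refine h.lcs_eq_bot ?_
  have hzfix : ∀ {z s : X}, z ∈ Zc p Sg → s ∈ Sg → s * z * s⁻¹ = z := fun {z s} hz hs => by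
    rw [hz.2.1 s hs, mul_inv_cancel_right]
  have hcen : ∀ {x u : X}, x ∈ Q → u ∈ U → ⁅x, u⁆ ∈ center X := fun hx hu =>
    (h.two_central hT hx hu).2
  -- elements of `U` with all commutators central in `S`
  let Z : Subgroup X :=
    { carrier := {u | u ∈ U ∧ ∀ s ∈ Sg, ⁅u, s⁆ ∈ Zc p Sg}
      one_mem' := ⟨one_mem _, fun s _ => by rw [commutatorElement_one_left]; exact one_mem _⟩
      mul_mem' := fun {a b} ha hb => ⟨mul_mem ha.1 hb.1, fun s hs => by
        rw [comm_mul_left, hzfix (hb.2 s hs) (hUS ha.1)]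
        exact mul_mem (hb.2 s hs) (ha.2 s hs)⟩
      inv_mem' := fun {a} ha => ⟨inv_mem ha.1, fun s hs => by
        have e : ⁅a⁻¹, s⁆ = a⁻¹ * ⁅a, s⁆⁻¹ * a⁻¹⁻¹ := by simp only [commutatorElement_def]; group
        rw [e, hzfix (inv_mem (ha.2 s hs)) (inv_mem (hUS ha.1))]
        exact inv_mem (ha.2 s hs)⟩ }
  have hZmem : ∀ {u : X}, u ∈ Z ↔ u ∈ U ∧ ∀ s ∈ Sg, ⁅u, s⁆ ∈ Zc p Sg := Iff.rfl
  have hZfix : ∀ {u s : X}, u ∈ Z → s ∈ Sg → s * u * s⁻¹ ∈ Z := fun {u s} hu hs => by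
    refine hZmem.2 ⟨hUn.conj_mem _ hu.1 s, fun y hy => ?_⟩
    have e : y = s * (s⁻¹ * y * s) * s⁻¹ := by group
    rw [e, comm_conj, hzfix (hu.2 _ (mul_mem (mul_mem (inv_mem hs) hy) hs)) hs]
    exact hu.2 _ (mul_mem (mul_mem (inv_mem hs) hy) hs)
  -- `[x, t]` for `x ∈ Q`
  have hxtZ : ∀ {x t : X}, x ∈ Q → t ∈ T → ⁅x, t⁆ ∈ Z := by
    intro x t hx ht
    refine hZmem.2 ⟨hT.QT x hx t ht, fun s hs => ?_⟩
    obtain ⟨t', ht', k, hk, rfl⟩ := h.two_mul_mem hT hs
    have h1 : ⁅⁅x, t⁆, k⁆ ∈ normalClosure (Zc p Sg : Set X) ⊓ center X := by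
      rw [← commutatorElement_inv]; exact inv_mem (h.two_central hT hk (hT.QT x hx t ht))
    rw [comm_mul_right, hzfix (h.two_central_Zc hT h1) (hT.le ht')]
    exact mul_mem (hT.quad x hx t ht t' ht') (h.two_central_Zc hT h1)
  have htZ : ∀ {t s : X}, t ∈ T → s ∈ Sg → ⁅t, s⁆ ∈ Z := by
    intro t s ht hs
    obtain ⟨t', ht', k, hk, rfl⟩ := h.two_mul_mem hT hs
    rw [comm_mul_right, comm_eq_one_of (hT.comm t ht t' ht'), one_mul, ← commutatorElement_inv k t]
    exact hZfix (inv_mem (hxtZ hk ht)) (hT.le ht')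
  haveI hQ1n : (⁅Q, Q⁆).Normal := commutator_normal _ _
  haveI hQ2n : (⁅⁅Q, Q⁆, Q⁆).Normal := commutator_normal _ _
  haveI hQ3n : (⁅⁅⁅Q, Q⁆, Q⁆, Q⁆).Normal := commutator_normal _ _
  -- `[Q, Q]` centralizes `T` modulo the centre
  have hQ1T : ∀ {c t : X}, c ∈ ⁅Q, Q⁆ → t ∈ T → ⁅c, t⁆ ∈ center X := by
    intro c t hc ht
    refine (QuotientGroup.eq_one_iff _).1 ?_
    set π := QuotientGroup.mk' (center X) with hπ
    have hmul : ∀ {a b : X}, a ∈ Q → b ∈ Q → π ⁅a * b, t⁆ = π ⁅b, t⁆ * π ⁅a, t⁆ := by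
      intro a b ha hb
      have h2 : Commute (π a) (π ⁅b, t⁆) := by
        rw [← commutatorElement_eq_one_iff_commute, ← map_commutatorElement, hπ,
          QuotientGroup.mk'_apply, QuotientGroup.eq_one_iff]
        exact hcen ha (hT.QT b hb t ht)
      rw [comm_mul_left, map_mul, map_mul, map_mul, map_inv, h2.eq, mul_inv_cancel_right]
    have hab : ∀ {a b : X}, a ∈ Q → b ∈ Q → Commute (π ⁅a, t⁆) (π ⁅b, t⁆) := by
      intro a b ha hb
      rw [← commutatorElement_eq_one_iff_commute, ← map_commutatorElement, hπ,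
        QuotientGroup.mk'_apply, QuotientGroup.eq_one_iff]
      exact hcen (hT.U_le (hT.QT a ha t ht)) (hT.QT b hb t ht)
    let K : Subgroup X :=
      { carrier := {c | c ∈ Q ∧ π ⁅c, t⁆ = 1}
        one_mem' := ⟨one_mem _, by rw [commutatorElement_one_left, map_one]⟩
        mul_mem' := fun {a b} ha hb => ⟨mul_mem ha.1 hb.1, by
          rw [hmul ha.1 hb.1, ha.2, hb.2, one_mul]⟩
        inv_mem' := fun {a} ha => ⟨inv_mem ha.1, by
          have := hmul (inv_mem ha.1) ha.1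
          rwa [inv_mul_cancel, commutatorElement_one_left, map_one, ha.2, one_mul, eq_comm] at this⟩ }
    have hle : ⁅Q, Q⁆ ≤ K := commutator_le.2 fun a ha b hb => by
      have hq : ⁅a, b⁆ ∈ Q := commutator_le_left Q Q (commutator_mem_commutator ha hb)
      refine ⟨hq, ?_⟩
      have h3 : π ⁅a * b, t⁆ = π ⁅b * a, t⁆ * π ⁅⁅a, b⁆, t⁆ := by
        rw [show a * b = ⁅a, b⁆ * (b * a) by rw [commutatorElement_def]; group]
        exact hmul hq (mul_mem hb ha)
      rw [hmul ha hb, hmul hb ha, (hab ha hb).eq] at h3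
      exact mul_eq_left.1 h3.symm
    exact (hle hc).2
  have hQ1U : ∀ {c u : X}, c ∈ ⁅Q, Q⁆ → u ∈ U → c * u = u * c := by
    intro c u hc hu
    let K : Subgroup X :=
      { carrier := {c | c ∈ Q ∧ ⁅c, u⁆ = 1}
        one_mem' := ⟨one_mem _, commutatorElement_one_left u⟩
        mul_mem' := fun {a b} ha hb => ⟨mul_mem ha.1 hb.1, by
          rw [comm_mul_left, hb.2, mul_one, mul_inv_cancel, one_mul, ha.2]⟩
        inv_mem' := fun {a} ha => ⟨inv_mem ha.1,
          comm_eq_one_of ((show Commute a u from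
            commutatorElement_eq_one_iff_commute.1 ha.2).inv_left).eq⟩ }
    have hle : ⁅Q, Q⁆ ≤ K := commutator_le.2 fun a ha b hb => by
      refine ⟨commutator_le_left Q Q (commutator_mem_commutator ha hb), ?_⟩
      -- conjugation by elements of `Q` only moves `U` by central elements
      have key : ∀ {x y w : X}, x ∈ Q → y ∈ Q → w ∈ U →
          x * y * w * (x * y)⁻¹ = ⁅x, w⁆ * ⁅y, w⁆ * w := by
        intro x y w hx hy hw
        calc x * y * w * (x * y)⁻¹ = x * ⁅y, w⁆ * (w * x⁻¹) := by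
              simp only [commutatorElement_def]; group
          _ = ⁅y, w⁆ * x * (w * x⁻¹) := by rw [mem_center_iff.1 (hcen hy hw) x]
          _ = ⁅y, w⁆ * ⁅x, w⁆ * w := by simp only [commutatorElement_def]; group
          _ = _ := by rw [mem_center_iff.1 (hcen hx hw) ⁅y, w⁆]
      have e1 : ∀ {w : X}, w ∈ U → a * b * w * (a * b)⁻¹ = b * a * w * (b * a)⁻¹ := fun {w} hw => by
        rw [key ha hb hw, key hb ha hw, mem_center_iff.1 (hcen hb hw) ⁅a, w⁆]
      have e2 : ⁅a, b⁆ * u * ⁅a, b⁆⁻¹ = u := by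
        have h3 := e1 (show (b * a)⁻¹ * u * (b * a) ∈ U by
          simpa using hUn.conj_mem u hu (b * a)⁻¹)
        calc ⁅a, b⁆ * u * ⁅a, b⁆⁻¹
            = a * b * ((b * a)⁻¹ * u * (b * a)) * (a * b)⁻¹ := by
              simp only [commutatorElement_def]; group
          _ = _ := by rw [h3]; group
      exact comm_eq_one_of (mul_inv_eq_iff_eq_mul.1 e2)
    exact commutatorElement_eq_one_iff_mul_comm.1 (hle hc).2
  have hQ2T : ∀ {c t : X}, c ∈ ⁅⁅Q, Q⁆, Q⁆ → t ∈ T → c * t = t * c := by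
    intro c t hc ht
    have hle : ⁅⁅Q, Q⁆, Q⁆ ≤ centralizer ({t} : Set X) := commutator_le.2 fun a ha b hb => by
      rw [mem_centralizer_singleton_iff]
      set u := ⁅t, b⁆ with hu
      have huU : u ∈ U := by rw [hu, ← commutatorElement_inv]; exact inv_mem (hT.QT b hb t ht)
      set z := ⁅t, a⁆ with hz
      have hzc : z ∈ center X := by rw [hz, ← commutatorElement_inv]; exact inv_mem (hQ1T ha ht)
      have hab : ⁅a, b⁆ ∈ ⁅Q, Q⁆ :=
        commutator_mem_commutator (commutator_le_left Q Q ha) hb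
      have e : t * ⁅a, b⁆ * t⁻¹ = ⁅a, b⁆ := by
        rw [← comm_conj, show t * a * t⁻¹ = z * a by rw [hz, commutatorElement_def]; group,
          show t * b * t⁻¹ = u * b by rw [hu, commutatorElement_def]; group, comm_mul_left,
          comm_eq_one_of (mem_center_iff.1 hzc (u * b)).symm, mul_one, comm_mul_right,
          comm_eq_one_of (hQ1U ha huU), one_mul, ← hQ1U hab huU, mul_inv_cancel_right,
          mem_center_iff.1 (inv_mem hzc), inv_mul_cancel_left]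
      exact (mul_inv_eq_iff_eq_mul.1 e).symm
    exact mem_centralizer_singleton_iff.1 (hle hc)
  -- the series
  have h1 : Sg.lowerCentralSeries 1 ≤ ⁅Q, Q⁆ ⊔ Z := by
    refine commutator_le.2 fun x hx y hy => ?_
    obtain ⟨t, ht, k, hk, rfl⟩ := h.two_mul_mem hT hx
    obtain ⟨t', ht', k', hk', rfl⟩ := h.two_mul_mem hT hy
    rw [comm_mul_left, comm_mul_right k]
    have hz := hZfix (hxtZ hk ht') (hT.le ht)
    have hc := Normal.conj_mem inferInstance _
      (Normal.conj_mem inferInstance _ (commutator_mem_commutator hk hk') t') t (H := ⁅Q, Q⁆)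
    rw [show t * (⁅k, t'⁆ * (t' * ⁅k, k'⁆ * t'⁻¹)) * t⁻¹ =
      t * ⁅k, t'⁆ * t⁻¹ * (t * (t' * ⁅k, k'⁆ * t'⁻¹) * t⁻¹) by group]
    exact mul_mem (mul_mem (mem_sup_right hz) (mem_sup_left hc)) (mem_sup_right (htZ ht hy))
  have hprod1 : ⁅Q, Q⁆ ≤ normalizer (Z : Set X) := fun c hc => by
    refine mem_normalizer_iff.2 fun u => ⟨fun hu => hZfix hu (hQS (commutator_le_left Q Q hc)),
      fun hu => ?_⟩
    have := hZfix hu (inv_mem (hQS (commutator_le_left Q Q hc)))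
    simpa [mul_assoc] using this
  have h2 : Sg.lowerCentralSeries 2 ≤ ⁅⁅Q, Q⁆, Q⁆ ⊔ Zc p Sg := by
    refine commutator_le.2 fun x hx s hs => ?_
    obtain ⟨c, hc, z, hz, rfl⟩ := exists_mul_of_mem_sup hprod1 (h1 hx)
    have hcQ := commutator_le_left Q Q hc
    obtain ⟨t, ht, k, hk, hts⟩ := h.two_mul_mem hT hs
    rw [comm_mul_left, hzfix (hz.2 s hs) (hQS hcQ)]
    refine mul_mem (mem_sup_right (hz.2 s hs)) ?_
    rw [← hts, comm_mul_right]
    refine mul_mem (mem_sup_right (h.two_central_Zc hT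
      ⟨?_, hQ1T hc ht⟩)) (mem_sup_left
        (Normal.conj_mem inferInstance _ (commutator_mem_commutator hc hk) t))
    -- it lies in `V` as it is central of exponent `p` in `S`
    have h3 : ⁅c, t⁆ ∈ Zc p Sg :=
      ⟨hUS (hT.QT c hcQ t ht), center_le_centralizer _ (hQ1T hc ht), hT.U_pow _ (hT.QT c hcQ t ht)⟩
    exact le_normalClosure h3
  intro x hx
  refine (commutator_le.2 fun x hx s hs => ?_ : Sg.lowerCentralSeries 3 ≤ ⁅⁅⁅Q, Q⁆, Q⁆, Q⁆) hx
  obtain ⟨c, hc, z, hz, rfl⟩ := exists_mul_of_mem_sup (fun c hc => centralizer_le_normalizer _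
    (fun z hz => ((hz.2.1 c (hQS (commutator_le_left Q Q
      (commutator_mono (commutator_le_left Q Q) le_rfl hc)))).symm))) (h2 hx)
  obtain ⟨t, ht, k, hk, rfl⟩ := h.two_mul_mem hT hs
  rw [comm_mul_left, comm_eq_one_of (hz.2.1 _ hs).symm, mul_one, mul_inv_cancel, one_mul,
    comm_mul_right, comm_eq_one_of (hQ2T hc ht), one_mul]
  exact Normal.conj_mem inferInstance _ (commutator_mem_commutator hc hk) t

theorem Sit.two_lcs_ne : (S : Subgroup X).lowerCentralSeries 2 ≠ ⊥ := by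
  intro e
  obtain ⟨u, hu, s, hs, s', hs', hne⟩ := hT.theta
  refine hne ?_
  have h1 : ⁅⁅u, s⁆, s'⁆ ∈ (S : Subgroup X).lowerCentralSeries 2 :=
    commutator_mem_commutator
      (commutator_mem_commutator (H1.pCore_le_sylow S (hT.U_le hu)) hs) hs'
  rw [e, mem_bot] at h1
  rw [h1]
  exact one_mem _

theorem Sit.two_exponent : p = 3 ∧ Monoid.exponent ↥(S : Subgroup X) = 9 := by
  obtain ⟨hp3, hsq⟩ := h.two_form hT
  refine ⟨hp3, ?_⟩
  haveI hQn := H1.pCore_normal' p X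
  haveI hUn := h.two_U_normal hT
  set Sg := (S : Subgroup X) with hSg
  have hQS : Cfsg.pCore p X ≤ Sg := H1.pCore_le_sylow S
  haveI : ((Zc p Sg).subgroupOf Sg).Normal := by
    refine H78.PU.normal_of_le_center fun z hz => mem_center_iff.2 fun y => Subtype.ext ?_
    exact (mem_subgroupOf.1 hz).2.1 y y.2
  set π := QuotientGroup.mk' ((Zc p Sg).subgroupOf Sg) with hπ
  have hone : ∀ {x : Sg}, (x : X) ∈ Zc p Sg → π x = 1 := fun hx => by
    rw [hπ, QuotientGroup.mk'_apply, QuotientGroup.eq_one_iff]; exact hx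
  have h9 : ∀ x ∈ Sg, x ^ 9 = 1 := by
    refine h.pow_eq_one fun x hx => ?_
    obtain ⟨t, ht, k, hk, rfl⟩ := h.two_mul_mem hT hx
    refine ⟨k, hk, ?_⟩
    set t' : Sg := ⟨t, hT.le ht⟩ with ht'
    set k' : Sg := ⟨k, hQS hk⟩ with hk'
    have hcU : ⁅k, t⁆ ∈ U := hT.QT k hk t ht
    have hck : ⁅⁅k, t⁆, k⁆ ∈ Zc p Sg := by
      rw [← commutatorElement_inv]
      exact inv_mem (h.two_central_Zc hT (h.two_central hT hk hcU))
    have hct : ⁅⁅k, t⁆, t⁆ ∈ Zc p Sg := hT.quad k hk t ht t ht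
    have h3 : π ((t' * k') ^ 3) = π (k' ^ 3) := by
      have c1 : Commute (π ⁅k', t'⁆) (π t') := by
        rw [← commutatorElement_eq_one_iff_commute, ← map_commutatorElement]
        exact hone hct
      have c2 : Commute (π ⁅k', t'⁆) (π k') := by
        rw [← commutatorElement_eq_one_iff_commute, ← map_commutatorElement]
        exact hone hck
      have et : t' ^ 3 = 1 := Subtype.ext (show t ^ 3 = 1 by rw [← hp3]; exact hT.pow t ht)
      have ec : ⁅k', t'⁆ ^ 3 = 1 :=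
        Subtype.ext (show ⁅k, t⁆ ^ 3 = 1 by rw [← hp3]; exact hT.U_pow _ hcU)
      rw [map_pow, map_mul, mul_pow_of_comm c1 c2 (by
          rw [← map_mul, ← map_mul, ← map_mul, commutatorElement_def]; group) 3,
        show Nat.choose 3 2 = 3 from rfl, ← map_pow π ⁅k', t'⁆, ← map_pow π t', ← map_pow π k',
        et, ec, map_one, one_mul, one_mul]
    rw [hπ, QuotientGroup.mk'_apply, QuotientGroup.mk'_apply, QuotientGroup.eq,
      mem_subgroupOf] at h3
    set z : X := ((((t' * k') ^ 3)⁻¹ * k' ^ 3 : Sg) : X) with hz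
    have ek : k ^ 3 = (t * k) ^ 3 * z := by
      rw [hz]; push_cast; rw [mul_inv_cancel_left]
    have hzc : Commute ((t * k) ^ 3) z :=
      h3.2.1 _ (pow_mem (mul_mem (hT.le ht) (hQS hk)) 3)
    calc (t * k) ^ 9 = ((t * k) ^ 3) ^ 3 := by rw [← pow_mul]
      _ = ((t * k) ^ 3) ^ 3 * z ^ 3 := by
        have : z ^ 3 = 1 := by rw [← hp3]; exact h3.2.2
        rw [this, mul_one]
      _ = k ^ 9 := by rw [← hzc.mul_pow, ← ek, ← pow_mul]
  have hdvd : Monoid.exponent Sg ∣ 3 ^ 2 :=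
    Monoid.exponent_dvd_of_forall_pow_eq_one fun x => Subtype.ext (by simpa using h9 x x.2)
  have h3n : ¬ Monoid.exponent Sg ∣ 3 := by
    intro hd
    refine hsq fun u hu s hs => ?_
    have hp : ∀ x ∈ Sg, x ^ 3 = 1 := fun x hx => by
      simpa using congrArg Subtype.val
        (orderOf_dvd_iff_pow_eq_one.1 ((Monoid.order_dvd_exponent (⟨x, hx⟩ : Sg)).trans hd))
    have huS : u ∈ Sg := hQS (hT.U_le hu)
    rw [engel_two_of_pow_three (hp _ (mul_mem huS hs)) (hp _ (mul_mem hs huS))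
      (hp _ (mul_mem hs (inv_mem huS))) (hp _ huS)]
    exact one_mem _
  obtain ⟨i, hi, he⟩ := (Nat.dvd_prime_pow Nat.prime_three).1 hdvd
  interval_cases i
  · exact absurd (he ▸ one_dvd 3) h3n
  · exact absurd (he ▸ dvd_rfl) h3n
  · exact he

theorem Sit.two_factors (P : Sylow p X) (hA : A = (P : Subgroup X)) :
    ∃ U₁ W₁ U₂ W₂ : Subgroup X, W₁ ≤ U₁ ∧ U₁ ≤ W₂ ∧ W₂ ≤ U₂ ∧ U₂ ≤ Cfsg.pCore p X ∧
      Cfsg.IsChiefFactor U₁ W₁ ∧ Cfsg.IsChiefFactor U₂ W₂ ∧
      ¬ ⁅U₁, (⊤ : Subgroup X)⁆ ≤ W₁ ∧ ¬ ⁅U₂, (⊤ : Subgroup X)⁆ ≤ W₂ ∧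
      (∃ k : ℕ, Cfsg.iterCommutator W₁ ⊤ k = ⊥) ∧
      (∃ k : ℕ, Cfsg.iterCommutator W₂ ⊤ k ≤ U₁) ∧
      (∃ k : ℕ, Cfsg.iterCommutator (Cfsg.pCore p X) ⊤ k ≤ U₂) := by
  haveI hQn := H1.pCore_normal' p X
  haveI hUn := h.two_U_normal hT
  obtain ⟨hVQ, -⟩ := module_facts h
  obtain ⟨hch1, hnc1⟩ := h.chief_V
  set V := normalClosure (Zc p (S : Subgroup X) : Set X) with hV
  haveI hVn : V.Normal := normalClosure_normal
  -- some noncentral factor between `V` and `U`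
  obtain ⟨U2, W2, hch2, hVW2, hU2U, hnc2⟩ : ∃ U2 W2 : Subgroup X,
      Cfsg.IsChiefFactor U2 W2 ∧ V ≤ W2 ∧ U2 ≤ U ∧ ¬ ⁅U2, (⊤ : Subgroup X)⁆ ≤ W2 := by
    by_contra hcon
    push Not at hcon
    have := h.normal_of_central (A := V) hUn hT.U_le hT.W_ge hT.W_le
      (fun U' M hc h1 h2 => hcon U' M hc h1 h2) P (hA ▸ hT.W_norm)
    exact hT.W_not (le_top.trans (normalizer_eq_top W).ge)
  -- the part of `U` that `T` fixes modulo `V`
  let CT : Subgroup X :=
    { carrier := {u | u ∈ U ∧ ∀ t ∈ T, ⁅u, t⁆ ∈ V}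
      one_mem' := ⟨one_mem _, fun t _ => by rw [commutatorElement_one_left]; exact one_mem _⟩
      mul_mem' := fun {a b} ha hb => ⟨mul_mem ha.1 hb.1, fun t ht => by
        rw [comm_mul_left]
        exact mul_mem (hVn.conj_mem _ (hb.2 t ht) a) (ha.2 t ht)⟩
      inv_mem' := fun {a} ha => ⟨inv_mem ha.1, fun t ht => by
        have e : ⁅a⁻¹, t⁆ = a⁻¹ * ⁅a, t⁆⁻¹ * a⁻¹⁻¹ := by simp only [commutatorElement_def]; group
        rw [e]
        exact hVn.conj_mem _ (inv_mem (ha.2 t ht)) _⟩ }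
  set q := Fintype.card F with hq
  -- `k` is at most the growth of the index of `CT`
  let Grow : ℕ → Subgroup X → Subgroup X → Prop := fun k N M =>
    k * Nat.card M * Nat.card ↥(N ⊓ CT) ≤ Nat.card N * Nat.card ↥(M ⊓ CT)
  have hGrow : ∀ k N M, Grow k N M ↔
      k * Nat.card M * Nat.card ↥(N ⊓ CT) ≤ Nat.card N * Nat.card ↥(M ⊓ CT) :=
    fun _ _ _ => Iff.rfl
  have htrans : ∀ {k l : ℕ} {L N M : Subgroup X}, Grow k L N → Grow l N M → Grow (k * l) L M := by
    intro k l L N M h1 h2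
    rw [hGrow] at *
    refine Nat.le_of_mul_le_mul_right (c := Nat.card N * Nat.card ↥(N ⊓ CT)) ?_
      (Nat.mul_pos Nat.card_pos Nat.card_pos)
    calc k * l * Nat.card M * Nat.card ↥(L ⊓ CT) * (Nat.card N * Nat.card ↥(N ⊓ CT))
        = (k * Nat.card N * Nat.card ↥(L ⊓ CT)) * (l * Nat.card M * Nat.card ↥(N ⊓ CT)) := by ring
      _ ≤ _ := Nat.mul_le_mul h1 h2
      _ = _ := by ring
  have hmono : ∀ {N M : Subgroup X}, M ≤ N → M.Normal → Grow 1 N M := by
    intro N M hMN hMn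
    rw [hGrow, one_mul]
    have h1 := H78.card_mul_le_sup_inf M (N ⊓ CT)
    refine h1.trans (Nat.mul_le_mul (card_le_of_le (sup_le hMN inf_le_left))
      (card_le_of_le fun x hx => ⟨hx.1, hx.2.2⟩))
  have hstep : ∀ {N M : Subgroup X}, Cfsg.IsChiefFactor N M → V ≤ M → N ≤ U →
      ¬ ⁅N, (⊤ : Subgroup X)⁆ ≤ M → Grow q N M := by
    intro N M hc hVM hNU hnc
    haveI := hc.2.2.1
    rw [hGrow]
    have hNQ := hNU.trans hT.U_le
    have h1 := h.chief_fixed_card hc hNQ hnc (C := N ⊓ CT) inf_le_left fun s hs u hu => by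
      obtain ⟨t, ht, k, hk, rfl⟩ := h.two_mul_mem hT hs
      rw [comm_mul_left]
      refine mul_mem (Normal.conj_mem inferInstance _
        (h.chief_triv hc hNQ hk hu.1) t) (hVM ?_)
      rw [← commutatorElement_inv]
      exact inv_mem (hu.2.2 t ht)
    have h2 : Nat.card ↥(N ⊓ CT ⊓ M) = Nat.card ↥(M ⊓ CT) := by
      congr 2
      ext x
      rw [Subgroup.mem_inf, Subgroup.mem_inf, Subgroup.mem_inf]
      exact ⟨fun hx => ⟨hx.2, hx.1.2⟩, fun hx => ⟨⟨hc.1.le hx.1, hx.2⟩, hx.1⟩⟩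
    rw [h2] at h1
    rw [h.chief_card hc hNQ hnc]
    calc q * Nat.card M * Nat.card ↥(N ⊓ CT) ≤ q * Nat.card M * (q * Nat.card ↥(M ⊓ CT)) :=
          Nat.mul_le_mul_left _ h1
      _ = _ := by rw [hq]; ring
  have htwo : ∀ {N M N' M' : Subgroup X}, Cfsg.IsChiefFactor N M → Cfsg.IsChiefFactor N' M' →
      V ≤ M → N ≤ M' → N' ≤ U → ¬ ⁅N, (⊤ : Subgroup X)⁆ ≤ M →
      ¬ ⁅N', (⊤ : Subgroup X)⁆ ≤ M' → False := by
    intro N M N' M' hc hc' hVM hNM' hN'U hn hn'
    have h1 := htrans (htrans (htrans (hmono hN'U hc'.2.1)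
      (hstep hc' (hVM.trans (hc.1.le.trans hNM')) hN'U hn')) (hmono hNM' hc.2.1))
      (hstep hc hVM (hNM'.trans (hc'.1.le.trans hN'U)) hn)
    rw [hGrow] at h1
    have hCT : U ⊓ CT = CT := inf_eq_right.2 fun u hu => hu.1
    rw [hCT] at h1
    have h2 : Nat.card U ≤ q * Nat.card CT :=
      hT.index CT (fun u hu => hu.1) fun u hu hu' => ⟨hu, hu'⟩
    have h3 : Nat.card ↥(M ⊓ CT) ≤ Nat.card M := card_le_of_le inf_le_left
    have h4 : q * q * Nat.card M * Nat.card CT ≤ q * (Nat.card M * Nat.card CT) := by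
      calc q * q * Nat.card M * Nat.card CT = 1 * q * 1 * q * Nat.card M * Nat.card CT := by ring
        _ ≤ _ := h1
        _ ≤ q * Nat.card CT * Nat.card M := Nat.mul_le_mul h2 h3
        _ = _ := by ring
    rw [show q * q * Nat.card M * Nat.card CT = q * (q * (Nat.card M * Nat.card CT)) by ring] at h4
    have h5 := Nat.le_of_mul_le_mul_left h4 Fintype.card_pos
    have h6 : 1 < q := Fintype.one_lt_card
    exact absurd h5 (not_le.2 (lt_mul_of_one_lt_left (Nat.mul_pos Nat.card_pos Nat.card_pos) h6))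
  refine ⟨V, V ⊓ center X, U2, W2, inf_le_left, hVW2, hch2.1.le, hU2U.trans hT.U_le, hch1, hch2,
    hnc1, hnc2, ⟨1, ?_⟩, ?_, ?_⟩
  · rw [eq_bot_iff]
    refine commutator_le.2 fun a ha b _ => ?_
    rw [mem_bot, commutatorElement_eq_one_iff_mul_comm]
    exact (mem_center_iff.1 ha.2 b).symm
  · refine exists_iter_le _ le_rfl hch2.2.2.1 hVn hVW2 fun N M hc hVM hNW => ?_
    by_contra hn
    exact htwo hc hch2 hVM hNW hU2U hn hnc2
  · obtain ⟨k, hk⟩ := exists_iter_le _ le_rfl hQn hUn hT.U_le fun N M hc hUM hNQ =>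
      h.central_of_fixed_cover hc hNQ hT.sup fun t ht u hu => hUM (by
        rw [← commutatorElement_inv]; exact inv_mem (hT.QT u (hNQ hu) t ht))
    obtain ⟨l, hl⟩ := exists_iter_le _ le_rfl hUn hch2.2.1 hU2U fun N M hc hUM hNU => by
      by_contra hn
      exact htwo hch2 hc hVW2 hUM hNU hnc2 hn
    refine ⟨k + l, ?_⟩
    rw [← iter_add]
    exact (iter_mono hk l).trans hl

end H71.BGNP
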