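import Cfsg.Agent.H71.BGNP.Factors

/-!
The case `b = 2`: the commutator form `(s, s', u) ↦ ⁅s, ⁅s', u⁆⁆` on `U` modulo `V ∩ Z(X)`.

It is nontrivial and symmetric; a torus element of eigenvalues `n`, `1/n` on natural modules shows
that this forces `n² = 1` or `n³ = 1`, so `p = 3`, and then `S` cannot have exponent `3`.
-/

set_option autoImplicit false
set_option linter.unusedSectionVars false
set_option linter.style.haveILetI false

open Subgroup Matrix
open scoped MatrixGroups Pointwise commutatorElement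

namespace H71.BGNP

theorem upper2_eq_upE {F : Type*} [Field F] (t : F) : H37.upper2 t = upE t :=
  Subtype.ext (by rw [H37.coe_upper2, coe_upE])

variable {X : Type*} [Group X] [Finite X] {p : ℕ} [Fact p.Prime] {F : Type} [Field F] [Fintype F]
  {ψ : X →* Matrix.ProjectiveSpecialLinearGroup (Fin 2) F} {S : Sylow p X} (h : Sit p ψ S)
  {T U W A : Subgroup X}
  (hT : CaseTwo p (Fintype.card F) ⊤ (S : Subgroup X) (Cfsg.pCore p X)
    (normalClosure (Zc p (S : Subgroup X) : Set X)) T U W A)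
include h hT

theorem Sit.two_mul_mem {s : X} (hs : s ∈ (S : Subgroup X)) :
    ∃ t ∈ T, ∃ k ∈ Cfsg.pCore p X, t * k = s :=
  haveI := H1.pCore_normal' p X
  exists_mul_of_mem_sup (le_top.trans (normalizer_eq_top (Cfsg.pCore p X)).ge) (hT.sup hs)

theorem Sit.two_U_normal : U.Normal :=
  normalizer_eq_top_iff.1 (top_le_iff.1 hT.U_norm)

theorem Sit.two_central {x u : X} (hx : x ∈ Cfsg.pCore p X) (hu : u ∈ U) :
    ⁅x, u⁆ ∈ normalClosure (Zc p (S : Subgroup X) : Set X) ⊓ center X := by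
  obtain ⟨h1, h2⟩ := hT.U_comm x hx u hu
  rw [centralizer_top_eq] at h1
  exact ⟨h2, h1⟩

theorem Sit.two_central_Zc {z : X}
    (hz : z ∈ normalClosure (Zc p (S : Subgroup X) : Set X) ⊓ center X) :
    z ∈ Zc p (S : Subgroup X) := by
  obtain ⟨hVQ, -, hVp, -⟩ := module_facts h
  exact ⟨H1.pCore_le_sylow S (hVQ hz.1), center_le_centralizer _ hz.2, hVp z hz.1⟩

/-- Double commutators of `U` with `S` are central in `S`. -/
theorem Sit.two_quad {u s s' : X} (hu : u ∈ U) (hs : s ∈ (S : Subgroup X))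
    (hs' : s' ∈ (S : Subgroup X)) : ⁅⁅u, s⁆, s'⁆ ∈ Zc p (S : Subgroup X) := by
  haveI := h.two_U_normal hT
  have hc : ∀ {u k : X}, u ∈ U → k ∈ Cfsg.pCore p X →
      ⁅u, k⁆ ∈ normalClosure (Zc p (S : Subgroup X) : Set X) ⊓ center X := fun {u k} hu hk => by
    rw [← commutatorElement_inv]; exact inv_mem (h.two_central hT hk hu)
  obtain ⟨t, ht, k, hk, rfl⟩ := h.two_mul_mem hT hs
  obtain ⟨t', ht', k', hk', rfl⟩ := h.two_mul_mem hT hs'
  have h1 : t * ⁅u, k⁆ * t⁻¹ = ⁅u, k⁆ := by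
    rw [mem_center_iff.1 (hc hu hk).2 t, mul_inv_cancel_right]
  have hUt : ⁅u, t⁆ ∈ U := by
    rw [commutatorElement_def, mul_assoc u t, mul_assoc u]
    exact mul_mem hu (Normal.conj_mem inferInstance _ (inv_mem hu) t)
  have hcS : ⁅⁅u, k⁆, t' * k'⁆ = 1 :=
    comm_eq_one_of (mem_center_iff.1 (hc hu hk).2 _).symm
  rw [comm_mul_right u t k, h1, comm_mul_left, hcS, mul_one, mul_inv_cancel, one_mul,
    comm_mul_right]
  refine mul_mem (hT.quad u (hT.U_le hu) t ht t' ht') ?_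
  have h2 := h.two_central_Zc hT (hc hUt hk')
  rw [h2.2.1 t' (hT.le ht'), mul_inv_cancel_right]
  exact h2

/-- `p = 3`, and some `[s, [s, u]]` is not central. -/
theorem Sit.two_form : p = 3 ∧ ¬ ∀ u ∈ U, ∀ s ∈ (S : Subgroup X),
    ⁅s, ⁅s, u⁆⁆ ∈ normalClosure (Zc p (S : Subgroup X) : Set X) ⊓ center X := by
  classical
  haveI := h.char
  haveI hUn := h.two_U_normal hT
  haveI hQn := H1.pCore_normal' p X
  obtain ⟨hVQ, -⟩ := module_facts h
  obtain ⟨hchV, hncV⟩ := h.chief_V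
  set V := normalClosure (Zc p (S : Subgroup X) : Set X) with hV
  haveI hVn : V.Normal := normalClosure_normal
  set C := V ⊓ center X with hC
  haveI hCn : C.Normal := inferInstance
  set Sg := (S : Subgroup X) with hSg
  set Q := Cfsg.pCore p X with hQ
  set π := QuotientGroup.mk' C with hπ
  set M := U.map π with hM
  haveI : M.Normal := hUn.map π (QuotientGroup.mk'_surjective C)
  haveI : IsMulCommutative M := ⟨⟨fun a b => by
    obtain ⟨_, u, hu, rfl⟩ := a
    obtain ⟨_, v, hv, rfl⟩ := b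
    refine Subtype.ext (commutatorElement_eq_one_iff_mul_comm.1 ?_)
    show ⁅π u, π v⁆ = 1
    rw [← map_commutatorElement, hπ, QuotientGroup.mk'_apply, QuotientGroup.eq_one_iff]
    exact h.two_central hT (hT.U_le hu) hv⟩⟩
  letI : CommGroup M := IsMulCommutative.instCommGroup
  set ρ := secAct C M with hρ
  let em : ∀ u ∈ U, Additive M := fun u hu => Additive.ofMul ⟨π u, mem_map_of_mem π hu⟩
  have hem : ∀ a : Additive M, ∃ (u : X) (hu : u ∈ U), em u hu = a := by
    intro a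
    obtain ⟨u, hu, e⟩ := (Additive.toMul a).2
    exact ⟨u, hu, congrArg Additive.ofMul (Subtype.ext e)⟩
  have hem_eq : ∀ {u v : X} (hu : u ∈ U) (hv : v ∈ U), π u = π v → em u hu = em v hv :=
    fun hu hv e => congrArg Additive.ofMul (Subtype.ext e)
  have hem_zero : ∀ {u : X} (hu : u ∈ U), em u hu = 0 ↔ u ∈ C := by
    intro u hu
    rw [← QuotientGroup.eq_one_iff]
    constructor
    · intro e
      exact congrArg (fun a : Additive M => ((Additive.toMul a : M) : X ⧸ C)) e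
    · intro e
      exact congrArg Additive.ofMul (Subtype.ext e)
  have hem_mul : ∀ {u v : X} (hu : u ∈ U) (hv : v ∈ U),
      em (u * v) (mul_mem hu hv) = em u hu + em v hv := fun hu hv =>
    congrArg Additive.ofMul (Subtype.ext (map_mul π _ _))
  have hρem : ∀ (g : X) {u : X} (hu : u ∈ U),
      ρ g (em u hu) = em (g * u * g⁻¹) (hUn.conj_mem u hu g) := fun g u hu => by
    refine congrArg Additive.ofMul (Subtype.ext ?_)
    show π g * π u * (π g)⁻¹ = π (g * u * g⁻¹)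
    rw [map_mul, map_mul, map_inv]
  have hUc : ∀ {u : X}, u ∈ U → ∀ g : X, ⁅g, u⁆ ∈ U := fun hu g =>
    mul_mem (hUn.conj_mem _ hu g) (inv_mem hu)
  have hsub : ∀ (g : X) {u : X} (hu : u ∈ U),
      ρ g (em u hu) - em u hu = em ⁅g, u⁆ (hUc hu g) := fun g u hu => by
    rw [hρem g hu, sub_eq_add_neg]
    refine congrArg Additive.ofMul (Subtype.ext ?_)
    show π (g * u * g⁻¹) * (π u)⁻¹ = π (g * u * g⁻¹ * u⁻¹)
    rw [← map_inv, ← map_mul]
  -- the operators `ρ s - 1`
  let D : X → Additive M → Additive M := fun s a => ρ s a - a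
  have hDdef : ∀ s a, D s a = ρ s a - a := fun _ _ => rfl
  have hDadd : ∀ s a b, D s (a + b) = D s a + D s b := fun s a b => by
    simp only [hDdef, map_add]; abel
  have hDzero : ∀ s, D s 0 = 0 := fun s => by simp only [hDdef, map_zero, sub_zero]
  have hQtriv : ∀ k ∈ Q, ∀ a, ρ k a = a := fun k hk a => by
    obtain ⟨u, hu, rfl⟩ := hem a
    rw [← sub_eq_zero, hsub k hu]
    exact (hem_zero (hUc hu k)).2 (h.two_central hT hk hu)
  have hρQ : ∀ x y : X, x⁻¹ * y ∈ Q → ∀ a, ρ x a = ρ y a := fun x y hxy a => by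
    conv_rhs => rw [show y = x * (x⁻¹ * y) by group, rho_mul, hQtriv _ hxy]
  have hfix : ∀ {s s' s'' : X}, s ∈ Sg → s' ∈ Sg → s'' ∈ Sg → ∀ a,
      ρ s'' (D s (D s' a)) = D s (D s' a) := by
    intro s s' s'' hs hs' hs'' a
    obtain ⟨u, hu, rfl⟩ := hem a
    simp only [hDdef]
    rw [hsub s' hu, hsub s (hUc hu s'), hρem s'' (hUc (hUc hu s') s)]
    refine congrArg Additive.ofMul (Subtype.ext (congrArg π ?_))
    have hz : ⁅s, ⁅s', u⁆⁆ ∈ Zc p Sg := by
      have h1 := h.two_quad hT hu hs' hs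
      have e : ⁅s, ⁅s', u⁆⁆ = ⁅u, s'⁆⁻¹ * ⁅⁅u, s'⁆, s⁆ * ⁅u, s'⁆⁻¹⁻¹ := by
        simp only [commutatorElement_def]; group
      have h2 : ⁅u, s'⁆⁻¹ ∈ Sg := inv_mem (mul_mem (mul_mem (mul_mem
        (H1.pCore_le_sylow S (hT.U_le hu)) hs') (inv_mem (H1.pCore_le_sylow S (hT.U_le hu))))
        (inv_mem hs'))
      rw [e, h1.2.1 _ h2, mul_inv_cancel_right]
      exact h1
    rw [hz.2.1 s'' hs'', mul_inv_cancel_right]
  have htriple : ∀ {s s' s'' : X}, s ∈ Sg → s' ∈ Sg → s'' ∈ Sg → ∀ a,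
      D s'' (D s (D s' a)) = 0 := fun hs hs' hs'' a => sub_eq_zero.2 (hfix hs hs' hs'' a)
  have hDmul : ∀ x y a, D (x * y) a = D y a + D x a + D x (D y a) := fun x y a => by
    simp only [hDdef, rho_mul, map_sub]; abel
  have hl : ∀ {x y c : X}, x ∈ Sg → y ∈ Sg → c ∈ Sg → ∀ a,
      D (x * y) (D c a) = D x (D c a) + D y (D c a) := fun {x y c} hx hy hc a => by
    rw [hDmul, htriple hy hc hx, add_zero, add_comm]
  have hr' : ∀ {x y c : X}, x ∈ Sg → y ∈ Sg → c ∈ Sg → ∀ a,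
      D c (D (x * y) a) = D c (D x a) + D c (D y a) := fun {x y c} hx hy hc a => by
    rw [hDmul, hDadd, hDadd, htriple hx hy hc, add_zero, add_comm]
  have hD1 : ∀ a, D 1 a = 0 := fun a => by simp only [hDdef, rho_one, sub_self]
  have hpowl : ∀ {x c : X}, x ∈ Sg → c ∈ Sg → ∀ (k : ℕ) a, D (x ^ k) (D c a) = k • D x (D c a) := by
    intro x c hx hc k a
    induction k with
    | zero => rw [pow_zero, hD1, zero_smul]
    | succ k ih => rw [pow_succ, hl (pow_mem hx k) hx hc, ih, succ_nsmul]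
  have hpowr : ∀ {x c : X}, x ∈ Sg → c ∈ Sg → ∀ (k : ℕ) a, D c (D (x ^ k) a) = k • D c (D x a) := by
    intro x c hx hc k a
    induction k with
    | zero => rw [pow_zero, hD1, hDzero, zero_smul]
    | succ k ih => rw [pow_succ, hr' (pow_mem hx k) hx hc, ih, succ_nsmul]
  have hsymm : ∀ {x y : X}, x ∈ Sg → y ∈ Sg → ∀ a, D x (D y a) = D y (D x a) := by
    intro x y hx hy a
    have hxy : (x * y)⁻¹ * (y * x) ∈ Q := by
      refine h.mem_pCore_of_ker S (mul_mem (inv_mem (mul_mem hx hy)) (mul_mem hy hx)) ?_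
      obtain ⟨a, ha⟩ := (h.upper (ψ x)).1 (mem_map_of_mem ψ hx)
      obtain ⟨b, hb⟩ := (h.upper (ψ y)).1 (mem_map_of_mem ψ hy)
      rw [map_mul, map_inv, map_mul, map_mul, ha, hb, H39.transl_mul, H39.transl_mul, add_comm a b,
        inv_mul_cancel]
    have e := hρQ _ _ hxy a
    rw [rho_mul, rho_mul] at e
    simp only [hDdef, map_sub, e]
    abel
  -- `p` kills `M`
  have hpM : ∀ a : Additive M, p • a = 0 := fun a => by
    obtain ⟨u, hu, rfl⟩ := hem a
    refine congrArg Additive.ofMul (Subtype.ext ?_)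
    show π u ^ p = 1
    rw [← map_pow, hT.U_pow u hu, map_one]
  have hcancel : ∀ {j k : ℕ}, (j : F) ≠ (k : F) → ∀ a : Additive M, j • a = k • a → a = 0 := by
    intro j k hjk a e
    have h1 : addOrderOf a ∣ p := addOrderOf_dvd_of_nsmul_eq_zero (hpM a)
    rcases (Nat.dvd_prime (Fact.out : p.Prime)).1 h1 with h2 | h2
    · exact AddMonoid.addOrderOf_eq_one_iff.1 h2
    · refine absurd ?_ hjk
      rw [CharP.natCast_eq_natCast F p, ← h2]
      exact nsmul_eq_nsmul_iff_modEq.1 e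
  -- the form is not zero
  obtain ⟨u0, hu0, s0, hs0, s0', hs0', hne0⟩ := hT.theta
  have hne : D s0' (D s0 (em u0 hu0)) ≠ 0 := by
    intro e
    simp only [hDdef] at e
    rw [hsub s0 hu0, hsub s0' (hUc hu0 s0)] at e
    replace e := (hem_zero (hUc (hUc hu0 s0) s0')).1 e
    refine hne0 ?_
    rw [centralizer_top_eq]
    have e' : ⁅⁅u0, s0⁆, s0'⁆ = ⁅s0, u0⁆⁻¹ * ⁅s0', ⁅s0, u0⁆⁆ * ⁅s0, u0⁆⁻¹⁻¹ := by
      simp only [commutatorElement_def]; group
    rw [e']
    exact Normal.conj_mem inferInstance _ e.2 _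
  refine ⟨?_, ?_⟩
  swap
  · -- exponent three would make the form alternating
    intro hsq
    have hdiag : ∀ {s : X}, s ∈ Sg → ∀ a, D s (D s a) = 0 := fun {s} hs a => by
      obtain ⟨u, hu, rfl⟩ := hem a
      simp only [hDdef]
      rw [hsub s hu, hsub s (hUc hu s)]
      exact (hem_zero (hUc (hUc hu s) s)).2 (hsq u hu s hs)
    have hprod := hdiag (mul_mem hs0' hs0) (em u0 hu0)
    rw [hl hs0' hs0 (mul_mem hs0' hs0), hr' hs0' hs0 hs0', hr' hs0' hs0 hs0, hdiag hs0', hdiag hs0,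
      hsymm hs0 hs0', zero_add, add_zero, ← two_nsmul] at hprod
    refine hne (hcancel (j := 2) (k := 0) ?_ _ (by rw [hprod, zero_smul]))
    rw [Nat.cast_zero, Nat.cast_ofNat]
    exact two_ne_zero_E (p := p) hT.ne_two
  -- the torus
  by_contra hp3
  obtain ⟨n, hn0, hn2, hn3⟩ : ∃ n : ℕ, (n : F) ≠ 0 ∧ (n : F) ^ 2 ≠ 1 ∧ (n : F) ^ 3 ≠ 1 := by
    have hpp : p.Prime := Fact.out
    have hcast : ∀ {k : ℕ}, (k : F) = 0 → p ∣ k := fun hk => (CharP.cast_eq_zero_iff F p _).1 hk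
    have hsmall : ∀ {r k : ℕ}, r.Prime → (k : F) = 0 → k = r → p = r := fun hr hk e =>
      (Nat.prime_dvd_prime_iff_eq hpp hr).1 (e ▸ hcast hk)
    by_cases h7 : p = 7
    · refine ⟨3, fun e => ?_, fun e => ?_, fun e => ?_⟩
      · have := hcast e; subst h7; omega
      · have : ((8 : ℕ) : F) = 0 := by push_cast at e ⊢; linear_combination e
        have := hcast this; subst h7; omega
      · have : ((26 : ℕ) : F) = 0 := by push_cast at e ⊢; linear_combination e
        have := hcast this; subst h7; omega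
    · refine ⟨2, fun e => hT.ne_two (hsmall Nat.prime_two e rfl), fun e => ?_, fun e => ?_⟩
      · have : ((3 : ℕ) : F) = 0 := by push_cast at e ⊢; linear_combination e
        exact hp3 (hsmall Nat.prime_three this rfl)
      · have : ((7 : ℕ) : F) = 0 := by push_cast at e ⊢; linear_combination e
        exact h7 (hsmall (by norm_num) this rfl)
  obtain ⟨m, hnm⟩ : ∃ m : ℕ, (n : F) * (m : F) = 1 := by
    have hdvd : ¬ p ∣ n := fun e => hn0 ((CharP.cast_eq_zero_iff F p n).2 e)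
    refine ⟨n ^ (p - 2), ?_⟩
    have h1 := Nat.ModEq.pow_totient (Nat.Coprime.symm
      ((Fact.out : p.Prime).coprime_iff_not_dvd.2 hdvd))
    rw [Nat.totient_prime Fact.out] at h1
    have h2 := (CharP.natCast_eq_natCast F p).2 h1
    rw [Nat.cast_one] at h2
    rw [← h2, ← Nat.cast_mul, ← pow_succ']
    congr 2
    have := (Fact.out : p.Prime).two_le
    omega
  have hmn : ((n : F))⁻¹ = (m : F) := (eq_inv_of_mul_eq_one_right hnm).symm
  obtain ⟨S', hS'⟩ := h.exists_lower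
  obtain ⟨r, hr⟩ := h.exists_natHom hS'
  have hker := h.ker_natHom hS' hr
  obtain ⟨g, hg⟩ := hr.2.2 ⟨!![(n : F), 0; 0, (n : F)⁻¹], by simp [det_fin_two_of, hn0]⟩
  have hrg : ((r g : SL(2, F)) : Matrix (Fin 2) (Fin 2) F) = !![(n : F), 0; 0, (n : F)⁻¹] := by
    rw [hg]
  have hconj : ∀ {s : X}, s ∈ Sg → ∀ a, ρ (g * s * g⁻¹) a = ρ (s ^ (n * n)) a := by
    intro s hs
    obtain ⟨t, ht⟩ := (h.upper _).1 (mem_map_of_mem ψ hs)
    have hrs := hr.1 s hs t ht
    refine hρQ _ _ ?_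
    rw [hQ, ← hker, MonoidHom.mem_ker, map_mul, map_inv, map_pow, hrs, inv_mul_eq_one,
      upper2_eq_upE, upE_pow, map_mul, map_mul, map_inv, hrs]
    apply Subtype.ext
    rw [Matrix.SpecialLinearGroup.coe_mul, Matrix.SpecialLinearGroup.coe_mul,
      Matrix.SpecialLinearGroup.coe_inv, hrg, H37.coe_upper2, coe_upE]
    ext i j
    fin_cases i <;> fin_cases j <;>
      simp [Matrix.adjugate_fin_two, Matrix.mul_apply, Fin.sum_univ_two, hn0] <;>
      field_simp
  -- `g` acts as `n` on `Zc S` modulo `C`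
  have hgz : ∀ z ∈ Zc p Sg, π g * π z * (π g)⁻¹ = π z ^ n := by
    intro z hz
    obtain ⟨θ, hθ⟩ : ∃ θ : (Fin 2 → F) ≃+ Additive (V.map π), ∀ g v,
        π g * ((Additive.toMul (θ v) : V.map π) : X ⧸ C) * (π g)⁻¹ =
          ((Additive.toMul (θ (((r g : SL(2, F)) : Matrix (Fin 2) (Fin 2) F).mulVec v)) :
            V.map π) : X ⧸ C) := h.natural_data hS' hr hchV hVQ hncV
    have hzV : z ∈ V := le_normalClosure hz
    obtain ⟨s1, hs1, hs1t⟩ := (h.upper (H39.transl (1 : F))).2 ⟨1, rfl⟩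
    set v := θ.symm (Additive.ofMul ⟨π z, mem_map_of_mem π hzV⟩) with hv
    have hθv : ((Additive.toMul (θ v) : V.map π) : X ⧸ C) = π z := by
      rw [hv, AddEquiv.apply_symm_apply]; rfl
    have h1 := hθ s1 v
    rw [hr.1 s1 hs1 1 hs1t, hθv, ← map_inv, ← map_mul, ← map_mul, hz.2.1 s1 hs1,
      mul_inv_cancel_right] at h1
    have h2 : θ (((H37.upper2 (1 : F) : SL(2, F)) : Matrix (Fin 2) (Fin 2) F).mulVec v) = θ v :=
      Additive.toMul.injective (Subtype.ext (h1.symm.trans hθv.symm))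
    have h3 : v 1 = 0 := by
      simpa [H37.coe_upper2, Matrix.mulVec, dotProduct, Fin.sum_univ_two] using
        congrFun (θ.injective h2) 0
    have h4 := hθ g v
    rw [hθv, hrg, show (!![(n : F), 0; 0, (n : F)⁻¹]).mulVec v = n • v by
      ext i; fin_cases i <;> simp [Matrix.mulVec, dotProduct, Fin.sum_univ_two, h3], map_nsmul] at h4
    rw [h4, toMul_nsmul, SubgroupClass.coe_pow, hθv]
  have hscal : ∀ {x y : X}, x ∈ Sg → y ∈ Sg → ∀ a, n • D x (D y a) =
      (n * n * (n * n)) • D x (D y (ρ g a)) := by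
    intro x y hx hy a
    have hcj : ∀ (x : X) a, ρ g (D x a) = D (g * x * g⁻¹) (ρ g a) := fun x a => by
      simp only [hDdef, map_sub]
      rw [← rho_mul, ← rho_mul, inv_mul_cancel_right]
    have h1 : ρ g (D x (D y a)) = n • D x (D y a) := by
      obtain ⟨u, hu, rfl⟩ := hem a
      simp only [hDdef]
      rw [hsub y hu, hsub x (hUc hu y), hρem g (hUc (hUc hu y) x)]
      refine congrArg Additive.ofMul (Subtype.ext ?_)
      show π (g * ⁅x, ⁅y, u⁆⁆ * g⁻¹) = _
      have hz : ⁅x, ⁅y, u⁆⁆ ∈ Zc p Sg := by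
        have h1 := h.two_quad hT hu hy hx
        have e : ⁅x, ⁅y, u⁆⁆ = ⁅u, y⁆⁻¹ * ⁅⁅u, y⁆, x⁆ * ⁅u, y⁆⁻¹⁻¹ := by
          simp only [commutatorElement_def]; group
        have h2 : ⁅u, y⁆⁻¹ ∈ Sg := inv_mem (mul_mem (mul_mem (mul_mem
          (H1.pCore_le_sylow S (hT.U_le hu)) hy) (inv_mem (H1.pCore_le_sylow S (hT.U_le hu))))
          (inv_mem hy))
        rw [e, h1.2.1 _ h2, mul_inv_cancel_right]
        exact h1
      rw [map_mul, map_mul, map_inv]
      exact hgz _ hz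
    rw [← h1, hcj, hcj, hDdef (g * x * g⁻¹), hconj hx, ← hDdef (x ^ (n * n)),
      hDdef (g * y * g⁻¹), hconj hy, ← hDdef (y ^ (n * n)), hpowl hx (pow_mem hy _),
      hpowr hy hx, ← mul_nsmul]
  have hscal' : ∀ {x y : X}, x ∈ Sg → y ∈ Sg → ∀ a,
      D x (D y (ρ g a)) = (m ^ 3) • D x (D y a) := by
    intro x y hx hy a
    have h1 := congrArg (fun z => (m ^ 4) • z) (hscal hx hy a)
    simp only [← mul_nsmul] at h1
    have hmod : ∀ {j k : ℕ}, (j : F) = (k : F) → ∀ z : Additive M, j • z = k • z := by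
      intro j k hjk z
      rw [nsmul_eq_nsmul_iff_modEq]
      exact ((CharP.natCast_eq_natCast F p).1 hjk).of_dvd (addOrderOf_dvd_of_nsmul_eq_zero (hpM z))
    rw [hmod (j := n * n * (n * n) * m ^ 4) (k := 1) (by
        push_cast
        calc (n : F) * n * (n * n) * (m : F) ^ 4 = ((n : F) * m) ^ 4 := by ring
          _ = 1 := by rw [hnm, _root_.one_pow]),
      hmod (j := n * m ^ 4) (k := m ^ 3) (by
        push_cast
        calc (n : F) * (m : F) ^ 4 = ((n : F) * m) * (m : F) ^ 3 := by ring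
          _ = _ := by rw [hnm, one_mul]), one_smul] at h1
    exact h1.symm
  have hm0 : (m : F) ≠ 0 := right_ne_zero_of_mul_eq_one hnm
  have hm3 : ((m ^ 3 : ℕ) : F) ≠ ((1 : ℕ) : F) := fun e => hn3 (by
    push_cast at e
    calc (n : F) ^ 3 = (n : F) ^ 3 * (m : F) ^ 3 := by rw [e, mul_one]
      _ = 1 := by rw [← mul_pow, hnm, _root_.one_pow])
  have hm2 : ((m ^ 3 : ℕ) : F) ≠ (m : F) := fun e => hn2 (by
    push_cast at e
    have e2 : (m : F) ^ 2 = 1 := mul_right_cancel₀ hm0 (by linear_combination e)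
    calc (n : F) ^ 2 = (n : F) ^ 2 * (m : F) ^ 2 := by rw [e2, mul_one]
      _ = 1 := by rw [← mul_pow, hnm, _root_.one_pow])
  have key : ∀ (j : ℕ) (N : Subgroup X), N.Normal → C ≤ N → N ≤ U → Nat.card N ≤ j →
      ∀ u, ∀ hu : u ∈ U, u ∈ N → ∀ {x y : X}, x ∈ Sg → y ∈ Sg → D x (D y (em u hu)) = 0 := by
    intro j
    induction j with
    | zero => intro N _ _ _ hcard; exact absurd hcard (not_le.2 Nat.card_pos)
    | succ j ih =>
      intro N hNn hCN hNU hcard u hu huN x y hx hy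
      by_cases hNC : N ≤ C
      · rw [(hem_zero hu).2 (hNC huN), hDzero, hDzero]
      obtain ⟨L, ⟨hLn, hCL, hLN⟩, hLmax⟩ := Set.Finite.exists_maximalFor (fun L : Subgroup X => L)
        {L : Subgroup X | L.Normal ∧ C ≤ L ∧ L < N} (Set.toFinite _)
        ⟨C, hCn, le_rfl, lt_of_le_not_ge hCN hNC⟩
      have hch : Cfsg.IsChiefFactor N L := ⟨hLN, hNn, hLn, fun R hRn hLR hRN => by
        rcases hRN.eq_or_lt with e | hlt
        · exact Or.inr e
        · exact Or.inl (le_antisymm (hLmax ⟨hRn, hCL.trans hLR, hlt⟩ hLR) hLR)⟩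
      have hLcard : Nat.card L ≤ j := by
        rcases (card_le_of_le hLN.le).lt_or_eq with h2 | h2
        · omega
        · exact absurd (eq_of_le_of_card_ge hLN.le h2.ge) hLN.ne
      have hL0 : ∀ {l : X} (hl : l ∈ U), l ∈ L → D x (D y (em l hl)) = 0 := fun hl hlL =>
        ih L hLn hCL (hLN.le.trans hNU) hLcard _ hl hlL hx hy
      by_cases hnc : ⁅N, (⊤ : Subgroup X)⁆ ≤ L
      · have hgu : ⁅g, u⁆ ∈ L := hnc (by
          rw [commutator_comm]; exact commutator_mem_commutator (Subgroup.mem_top g) huN)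
        refine hcancel hm3 _ ?_
        rw [← hscal' hx hy, one_smul,
          show ρ g (em u hu) = em ⁅g, u⁆ (hUc hu g) + em u hu by rw [← hsub g hu, sub_add_cancel],
          hDadd, hDadd, hL0 (hUc hu g) hgu, zero_add]
      haveI := hLn
      set π' := QuotientGroup.mk' L with hπ'
      obtain ⟨θ, hθ⟩ : ∃ θ : (Fin 2 → F) ≃+ Additive (N.map π'), ∀ g v,
          π' g * ((Additive.toMul (θ v) : N.map π') : X ⧸ L) * (π' g)⁻¹ =
            ((Additive.toMul (θ (((r g : SL(2, F)) : Matrix (Fin 2) (Fin 2) F).mulVec v)) :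
              N.map π') : X ⧸ L) := h.natural_data hS' hr hch (hNU.trans hT.U_le) hnc
      have hlift : ∀ v, ∃ z ∈ N, π' z = ((Additive.toMul (θ v) : N.map π') : X ⧸ L) := fun v =>
        (Additive.toMul (θ v)).2
      set v := θ.symm (Additive.ofMul ⟨π' u, mem_map_of_mem π' huN⟩) with hv
      obtain ⟨x1, hx1, hx1e⟩ := hlift ![0, 1]
      obtain ⟨x2, hx2, hx2e⟩ := hlift ![0, v 1]
      obtain ⟨s, hs, hst⟩ := (h.upper (H39.transl (v 0))).2 ⟨v 0, rfl⟩
      have hcs : π' ⁅s, x1⁆ = ((Additive.toMul (θ ![v 0, 0]) : N.map π') : X ⧸ L) := by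
        have e1 := hθ s ![0, 1]
        rw [← hx1e, hr.1 s hs _ hst,
          show ((H37.upper2 (v 0) : SL(2, F)) : Matrix (Fin 2) (Fin 2) F).mulVec ![0, 1] =
            ![v 0, 0] + ![0, 1] by
          ext i; fin_cases i <;> simp [H37.coe_upper2, Matrix.mulVec, dotProduct, Fin.sum_univ_two],
          map_add, toMul_add, Subgroup.coe_mul, ← hx1e] at e1
        rw [map_commutatorElement, commutatorElement_def, e1, mul_inv_cancel_right]
      have hl : (⁅s, x1⁆ * x2)⁻¹ * u ∈ L := by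
        rw [← QuotientGroup.eq, ← QuotientGroup.mk'_apply, ← QuotientGroup.mk'_apply, ← hπ', map_mul,
          hcs, hx2e, ← Subgroup.coe_mul, ← toMul_add, ← map_add,
          show ![v 0, 0] + ![0, v 1] = v by ext i; fin_cases i <;> simp,
          hv, AddEquiv.apply_symm_apply]
        rfl
      have hsU : ⁅s, x1⁆ ∈ U := hUc (hNU hx1) s
      have hlU : (⁅s, x1⁆ * x2)⁻¹ * u ∈ U := mul_mem (inv_mem (mul_mem hsU (hNU hx2))) hu
      have hsplit : em u hu = em ⁅s, x1⁆ hsU + em x2 (hNU hx2) + em _ hlU := by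
        rw [← hem_mul hsU (hNU hx2), ← hem_mul (mul_mem hsU (hNU hx2)) hlU]
        exact congrArg Additive.ofMul (Subtype.ext (congrArg π (mul_inv_cancel_left _ _).symm))
      have h0 : D x (D y (em ⁅s, x1⁆ hsU)) = 0 := by
        rw [← hsub s (hNU hx1), ← hDdef]
        exact htriple hy hs hx _
      rw [hsplit, hDadd, hDadd, hDadd, hDadd, h0, hL0 hlU hl, zero_add, add_zero]
      -- `x2` is an eigenvector
      refine hcancel hm2 _ ?_
      have hgx : (x2 ^ m)⁻¹ * (g * x2 * g⁻¹) ∈ L := by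
        rw [← QuotientGroup.eq, ← QuotientGroup.mk'_apply, ← QuotientGroup.mk'_apply, ← hπ', map_pow,
          map_mul, map_mul, map_inv, hx2e, ← SubgroupClass.coe_pow, ← toMul_nsmul, ← map_nsmul, hθ,
          hrg, show (!![(n : F), 0; 0, (n : F)⁻¹]).mulVec ![0, v 1] = m • ![0, v 1] by
            ext i; fin_cases i <;> simp [Matrix.mulVec, dotProduct, Fin.sum_univ_two, hmn]]
      have hgU : (x2 ^ m)⁻¹ * (g * x2 * g⁻¹) ∈ U :=
        mul_mem (inv_mem (pow_mem (hNU hx2) m)) (hUn.conj_mem _ (hNU hx2) g)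
      have hρx : ρ g (em x2 (hNU hx2)) = m • em x2 (hNU hx2) + em _ hgU := by
        rw [hρem g (hNU hx2)]
        refine congrArg Additive.ofMul (Subtype.ext ?_)
        show π (g * x2 * g⁻¹) = π x2 ^ m * π ((x2 ^ m)⁻¹ * (g * x2 * g⁻¹))
        rw [← map_pow, ← map_mul, mul_inv_cancel_left]
      have hnsmul : ∀ (k : ℕ) (a : Additive M), D x (D y (k • a)) = k • D x (D y a) := fun k a => by
        simp only [hDdef, map_nsmul, ← nsmul_sub, map_sub]
      rw [← hscal' hx hy, hρx, hDadd, hDadd, hL0 hgU hgx, add_zero, hnsmul]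
  exact hne (key _ U hUn ((inf_le_left : C ≤ V).trans hT.U_ge) le_rfl le_rfl u0 hu0 hu0 hs0' hs0)

end H71.BGNP
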